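import Cfsg.Agent.Lib.J43.BigA

/-! # The case `3·M₂₂` with a large elementary abelian group -/

set_option autoImplicit false
set_option linter.unusedSectionVars false

namespace Cfsg.Lib.J43

open Subgroup Cfsg.Lib.BG
open scoped Cfsg.Lib.Transfer

variable {G : Type*} [Group G] [Finite G]

/-- the complement of `FF E` in `AA E a` -/
def Bb (E : Subgroup G) (a : G) : Subgroup G := ⁅AA E a, E⁆

theorem conj_Bb {g : G} {E : Subgroup G} (p : g ∈ 𝐍(E)) (a : G) : g ⋆ Bb E a = Bb E (g * a * g⁻¹) := by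
  rw [Bb, Transfer.conj_commutator, conj_AA' p, conj_eq_of_norm p]; rfl

theorem Bb_inv (E : Subgroup G) (a : G) : Bb E a⁻¹ = Bb E a := by rw [Bb, AA_inv]; rfl

/-- the large elementary abelian group -/
structure Bg (E V : Subgroup G) : Prop where
  sq : ∀ v ∈ V, v * v = 1
  nE : 𝐍(E) ≤ 𝐍(V)
  le : ∀ {c}, c ∈ E → c ≠ 1 → AA E c ≤ V
  cF : V ≤ 𝐂(FF E)
  nA : ∀ {c}, c ∈ E → c ≠ 1 → 𝐍(AA E c) ≤ 𝐍(V)

namespace Ba

variable {E V S : Subgroup G} {a b g v s : G} (h : Ba E a b) (T : Fu G)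
include h T

theorem mem_B : v ∈ Bb E a ↔ v ∈ AA E a ∧ tr b v = 1 :=
  mem_comm_tr (fun _ => h.A_sq T) h.pg (h.E_nA h.ma) h.mb h.b3 fun _ p => h.mem_cE.2 ⟨AA_le E a p.1, p.2⟩
theorem B_le : Bb E a ≤ AA E a := fun _ p => ((h.mem_B T).1 p).1
theorem B_c : Bb E a ≤ 𝐂[a] := (h.B_le T).trans (AA_le E a)
theorem B_tr (p : v ∈ Bb E a) : tr b v = 1 := ((h.mem_B T).1 p).2
omit h T in
theorem E_nB : E ≤ 𝐍(Bb E a) := right_norm_comm _ _
theorem B_one (p : v ∈ Bb E a) (q : v ∈ 𝐂[b]) : v = 1 := eq_one_of_tr q (h.A_sq T (h.B_le T p)) (h.B_tr T p)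
theorem B_F (p : v ∈ Bb E a) (q : v ∈ FF E) : v = 1 := h.B_one T p (cent_le_cent1 h.mb (FF_le E q))

theorem B_cy : Cy b (Bb E a) := ⟨E_nB h.mb, fun g p g1 v q v1 => by
  have r := conj_mem_of_norm (E_nB h.mb) p
  have sq := fun {v} p => inv_of_sq (h.A_sq T (h.B_le T (x := v) p))
  rcases h.A_irr T (h.B_le T p) (fun e => g1 (h.B_F T p e)) (h.B_le T q) with e | e | e | e
  · exact absurd (h.B_F T q e) v1
  · exact .inl ((eq_inv_of_mul_eq_one_left (h.B_F T (mul_mem q p) e)).trans (sq p))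
  · exact .inr (.inl ((eq_inv_of_mul_eq_one_left (h.B_F T (mul_mem q r) e)).trans (sq r)))
  · have := h.B_F T (mul_mem (mul_mem q p) r) e
    rw [mul_assoc] at this
    refine .inr (.inr ((eq_inv_of_mul_eq_one_left this).trans (inv_eq_of_mul_eq_one_right ?_)))
    rw [← h.B_tr T p]; grp⟩

theorem B_ne : ∃ v ∈ Bb E a, v ≠ 1 := by
  obtain ⟨v, p, q⟩ := h.ex_A T
  refine ⟨_, comm_mem_comm p h.mb, fun e => q (h.A_bF T p ?_)⟩
  rw [mul_inv_eq_one, mul_inv_eq_iff_eq_mul] at e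
  rw [← e, mul_inv_cancel_right, h.A_sq T p]; exact one_mem _

theorem card_B : Nat.card (Bb E a) = 4 := by
  have := (coprime_abelian_cent_dprod (h.E_nA h.ma) (cop32 h.pg (h.A_pg T)) (abelian_iff.2 (h.A_ab T))).card
  rw [show AA E a ⊓ 𝐂(E) = FF E from le_antisymm (fun _ p => mem_F p.2 (h.A_sq T p.1)) (le_inf (h.F_le T) (FF_le E)),
    h.card_A T, h.card_F T, mul_left_comm] at this
  have := Nat.eq_of_mul_eq_mul_left (orderOf_pos _) this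
  rw [Bb]; omega

theorem B_irr (n : b ∈ 𝐍(S)) : S ⊓ Bb E a = ⊥ ∨ Bb E a ≤ S := or_iff_not_imp_left.2 fun e v q => by
  obtain ⟨g, p, g1⟩ := exists_ne_one e
  by_cases v1 : v = 1
  · exact v1 ▸ one_mem _
  rcases (h.B_cy T).2 g p.2 g1 v q v1 with rfl | rfl | rfl
  exacts [p.1, conj_mem_of_norm n p.1, conj_mem_of_norm n (conj_mem_of_norm n p.1)]

theorem bg (B : (∀ v ∈ omegaOne 2 𝐂(AA E a), v * v = 1) ∧ ∀ c ∈ E, c ≠ 1 → AA E c ≤ 𝐂(AA E a)) : ∃ V, Bg E V := by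
  have l : ∀ {c}, c ∈ E → c ≠ 1 → AA E c ≤ omegaOne 2 𝐂(AA E a) := fun p c1 v q => by
    obtain ⟨d, k⟩ := h.ex p c1
    exact subset_closure ⟨B.2 _ p c1 q, by rw [pow_two, k.A_sq T q]⟩
  have cj : ∀ g ∈ 𝐍(E), g ⋆ omegaOne 2 𝐂(AA E a) = omegaOne 2 𝐂(AA E (g * a * g⁻¹)) := fun g p => by
    rw [conj_Ohm1, Transfer.conj_centralizer, conj_AA' p]
  have e : ∀ g ∈ 𝐍(E), g ∈ 𝐍(omegaOne 2 𝐂(AA E a)) := fun g p => norm_of_conj_eq (eq_of_le_of_card_le (by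
    rw [cj g p]
    exact fun v q => subset_closure ⟨cent_anti (l (h.conj' p).ma (h.conj' p).a1) (comm_of_sq B.1 q), by
      rw [pow_two, B.1 v q]⟩) (Transfer.card_conj _ _).le).symm
  refine ⟨_, B.1, e, l, (Ohm1_le _ _).trans (cent_anti (h.F_le T)), fun p c1 => ?_⟩
  obtain ⟨d, k⟩ := h.ex p c1
  obtain ⟨g, m, rfl, -⟩ := h.trans T k
  rw [← conj_eq_of_norm (e g m), cj g m]
  exact norm_Ohm1 (norm_cent le_rfl) 2

theorem exists_T (hz : zo a = 1) : ∃ (b s f η : G) (P : Subgroup G), Ba E a b ∧ s ∈ 𝐂[a] ∧ s * b * s⁻¹ = b⁻¹ ∧ f ∈ FF E ∧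
    f ≠ 1 ∧ IsPGroup 2 P ∧ P ≤ 𝐂[a] ∧ P ≤ 𝐂[f] ∧ P ≤ 𝐍(AA E a) ∧ E ≤ 𝐍(P) ∧ s ∈ 𝐍(P) ∧
    (∀ t ∈ P, Bb E a ≤ Fx (zpowers f) t) ∧ η ∈ 𝐍(E) ∧ η ∈ 𝐂[a] ∧ ∀ S : Subgroup G, P ≤ S → η ∈ 𝐍(S) → ∃ c ∈ S, Ba E a c := by
  obtain ⟨C, he⟩ := h.nc T
  have z := C.z_zo.trans hz
  obtain ⟨s, ks, es⟩ := C.surj ms
  obtain ⟨f, mf', ef⟩ := C.exists_L2 Fb_sq f_mem
  obtain ⟨η, kη, -, eη, hη⟩ := C.exists_eta h.pr he
  have kb := h.pr.mem
  obtain ⟨c, kc, ec, e⟩ := C.eq_mul (g := s * b * s⁻¹) (h := b⁻¹) (by gmem) (by gmem) (by pis; rw [he, es, J43.se])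
  have c3 : c ^ 3 = 1 := (C.cube kc ec).elim id (z ▸ id)
  have mc := C.ker_cube kc ec c3
  have nR : ∀ {g}, g ∈ 𝐂[a] → (∀ m ∈ Tb, C.π g * m * (C.π g)⁻¹ ∈ Tb) → g ∈ 𝐍(C.pre Tb) := fun p q =>
    Transfer.mem_normalizer_of_conj_le (Transfer.conj_le_iff.2 fun k r => by
      obtain ⟨r1, r2⟩ := C.mem_pre.1 r
      exact C.mem_pre.2 ⟨by gmem, by pis; exact q _ r2⟩)
  have aR : zpowers a ≤ C.pre Tb := zpowers_le.2 (C.mem_pre.2 ⟨self_mem_cent1 a, C.πx ▸ one_mem _⟩)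
  have four : ∀ m ∈ Tb, m ^ 4 = 1 := fun m p => by
    rw [show 4 = 2 * 2 from rfl, pow_mul, pow_two, pow_two, Ab_sq (Tb_sq p)]
  have B := Burnside_normal_complement (Syl.of_max aR (pg_zp h.a3) fun Q q1 _ q3 k r => by
    obtain ⟨r1, r2⟩ := C.mem_pre.1 (q3 r)
    have := four _ r2
    rw [pow_succ, C.π_cube r1 (T.exp q1 k r), one_mul] at this
    exact C.ker_cube r1 this (T.exp q1 k r)) fun g p => (cent_zpowers a).ge (C.mem_pre.1 p.1).1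
  have n := norm_pcore (le_refl 𝐍(C.pre Tb)) {3}ᶜ
  generalize 𝐎({3}ᶜ, C.pre Tb) = P at *
  have kP := fun t (p : t ∈ P) => C.mem_pre.1 (B.left_le p)
  have hA := h.AA_eq C he
  have fF : f ∈ FF E := h.FF_eq C he ▸ mf'
  have kf := mf'.1
  have nA : P ≤ 𝐍(AA E a) := fun t p => hA ▸ C.norm_L2 _ (kP t p).1 fun m q => Tb_A (kP t p).2 q
  have one : ∀ {w}, w ∈ AA E a → C.π w = 1 → w = 1 := fun p e =>
    (C.ker_sq (AA_le E a p) e (h.A_sq T p)).elim id (z ▸ id)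
  refine ⟨b * c, s, f, η, P, h.mul mc, ks, ?_, fF, fun e => f_ne (by rw [← ef, e, C.one]), fun t => ⟨2, Subtype.ext ?_⟩,
    fun t p => (kP t p).1, fun t p => ?_, nA, h.le (n (nR (self_mem_cent1 a) fun m p => by simpa [C.πx] using p))
      (n (nR kb fun m p => he ▸ Tb_e p)), n (nR ks fun m p => es ▸ Tb_s p), fun t p v q => ?_,
    h.norm (by rw [cj_eq kη]; exact h.ma) (by
      have := h.ma; have := h.mb
      rcases hη with s | s <;> rw [s] <;> gmem), kη, fun S l m => ?_⟩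
  · rw [← conj_mul, e, C.cen kc ec ks, mul_inv_cancel_right, mul_inv_rev, C.cen (inv_mem kc) (by pis; rw [ec, inv_one])
      (inv_mem kb) |>.symm, mul_assoc, eq_inv_of_mul_eq_one_left ((pow_three' c).symm.trans c3)]
  · obtain ⟨r1, r2⟩ := kP _ t.2
    have e4 : C.π ((t : G) ^ 4) = 1 := by pis; exact four _ r2
    exact mem_bot.1 (B.inf.le ⟨pow_mem t.2 4, C.ker_cube (pow_mem r1 4) e4 ((C.cube (pow_mem r1 4) e4).elim id (z ▸ id))⟩)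
  · obtain ⟨r1, r2⟩ := kP t p
    exact mem_K (mul_inv_eq_one.1 (one (mul_mem (conj_mem_of_norm (nA p) (h.F_le T fF)) (inv_mem (h.F_le T fF))) (by
      pis; rw [ef, Tb_f r2]; group)))
  · obtain ⟨r1, r2⟩ := kP t p
    obtain ⟨q1, q2⟩ := (h.mem_B T).1 q
    have q3 := conj_mem_of_norm (nA p) q1
    have cf := AA_le' E a q1
    refine ⟨nzp (cent_le_cent1 fF cf), ?_⟩
    have kv := AA_le E a q1
    have mv : C.π v ∈ Ab := (hA ▸ q1 : v ∈ C.L2 Ab Ab_sq').2.2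
    rcases Tb_B r2 mv (by rw [← he, ← C.one, ← q2, tr]; pis) with e | e
    · rw [one (mul_mem q3 (inv_mem q1)) (by pis; rw [e, mul_inv_cancel])]; exact one_mem _
    · rw [eq_inv_of_mul_eq_one_left (one (mul_mem (mul_mem q3 (inv_mem q1)) (h.F_le T fF)) (by
        pis; rw [e, ef, inv_of_sq (Ab_sq mv), mul_assoc]; exact Ab_sq (mul_mem mv (Fb_le f_mem))))]
      exact inv_mem (mem_zpowers f)
  · have im : ∀ m ∈ Tb, ∃ t ∈ S, t ∈ 𝐂[a] ∧ C.π t = m := fun m p => by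
      obtain ⟨k, r, rfl⟩ := C.surj m
      obtain ⟨t, p1, c, p2, rfl⟩ := B.mem (C.mem_pre.2 ⟨r, p⟩)
      exact ⟨t, l p1, (kP t p1).1, by rw [C.mul (kP t p1).1 (C.mem_pre.1 (aR p2)).1, C.π_zp p2, mul_one]⟩
    obtain ⟨g, g1, g2, g3⟩ := C.mem_im.1 (Tb_gen (S := C.im S) (fun m p => C.mem_im.2 (im m p)) (fun x p => by
      obtain ⟨t, p1, p2, rfl⟩ := im x p
      exact C.mem_im.2 ⟨_, conj_mem_of_norm m p1, by gmem, by pis; rw [eη]⟩) fun x p => by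
      obtain ⟨t, p1, p2, rfl⟩ := im x p
      exact C.mem_im.2 ⟨_, sq_conj m p1, by gmem, by pis; rw [eη]⟩).1
    obtain ⟨c, p1, p2, rfl⟩ := C.eq_mul g2 kb (g3.trans he.symm)
    exact ⟨_, g1, h.mul (C.ker_cube p1 p2 ((C.cube p1 p2).elim id (z ▸ id)))⟩

end Ba

end Cfsg.Lib.J43
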