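import Cfsg.Agent.Lib.J43.Big
import Cfsg.Agent.Lib.PGroup.Basic

/-! # The case `3·M₂₂` with a large elementary abelian group is impossible -/

set_option autoImplicit false
set_option linter.unusedSectionVars false

namespace Cfsg.Lib.J43

open Subgroup Cfsg.Lib.BG
open scoped Cfsg.Lib.Transfer

variable {G : Type*} [Group G] [Finite G]

theorem Fx.of_cent {F R : Subgroup G} {y : G} (n : R ≤ 𝐍(F)) (c : y ∈ 𝐂(R)) : R ≤ Fx F y := fun v p =>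
  ⟨n p, by rw [cj_eq (cent_le_cent1 p c), mul_inv_cancel]; exact one_mem _⟩

theorem Fx.mono {F F' R : Subgroup G} {y : G} (n : R ≤ 𝐍(F')) (l : F ≤ F') (c : R ≤ Fx F y) : R ≤ Fx F' y := fun _ p =>
  ⟨n p, l (c p).2⟩

theorem Fx.conj {F R : Subgroup G} {y : G} (c : R ≤ Fx F y) (g : G) : g ⋆ R ≤ Fx (g ⋆ F) (g * y * g⁻¹) := by
  rintro _ ⟨v, p, rfl⟩
  refine ⟨Transfer.conj_normalizer g F ▸ Transfer.conj_mem_conj.2 (c p).1, ?_⟩
  have := (Transfer.conj_mem_conj (g := g)).2 (c p).2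
  convert this using 1
  simp only [MulEquiv.coe_toMonoidHom, MulAut.conj_apply]; group

theorem Fx.norm {F R : Subgroup G} {y : G} (c : R ≤ Fx F y) (l : F ≤ R) : y ∈ 𝐍(R) :=
  Transfer.mem_normalizer_of_conj_le (Transfer.conj_le_iff.2 fun _ p => (mul_mem_cancel_right (inv_mem p)).1 (l (c p).2))

namespace Ba

variable {E V S : Subgroup G} {a b g v s : G} (h : Ba E a b) (T : Fu G) (B : Bg E V)
include h

theorem b3' : Ba E (b * a) a := (h.mul (mem_zpowers a)).symm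
theorem b4' : Ba E (b * a⁻¹) a := (h.mul (inv_mem (mem_zpowers a))).symm
theorem b32 : Ba E (b * a) b := (h.ab ▸ h.symm.mul (mem_zpowers b)).symm
theorem b42 : Ba E (b * a⁻¹) b := (h.inv'.ab ▸ h.symm.inv.mul (mem_zpowers b)).symm
theorem aa : a * a = a⁻¹ := eq_inv_of_mul_eq_one_left ((pow_three' a).symm.trans h.a3)
theorem b43 : Ba E (b * a⁻¹) (b * a) := by
  have := (h.b3'.mul (mem_zpowers _)).symm
  rwa [← mul_assoc, h.ab, mul_assoc, h.aa] at this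

include T B

theorem BV : Bb E a ≤ V := (h.B_le T).trans (B.le h.ma h.a1)
theorem mem_U : v ∈ ⁅V, zpowers a⁆ ↔ v ∈ V ∧ tr a v = 1 := mem_comm_zp B.sq (B.nE (le_norm E h.ma)) h.a3
theorem BU : Bb E a ≤ ⁅V, zpowers b⁆ := fun _ p => (h.symm.mem_U T B).2 ⟨h.BV T B p, h.B_tr T p⟩
theorem UB : ⁅V, zpowers b⁆ ⊓ 𝐂[a] ≤ Bb E a := fun v p => by
  obtain ⟨p1, p2⟩ := (h.symm.mem_U T B).1 p.1
  exact (h.mem_B T).2 ⟨mem_A p.2 (B.cF p1) (B.sq v p1), p2⟩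
theorem U_one (p : v ∈ ⁅V, zpowers a⁆) (q : v ∈ 𝐂[a]) : v = 1 :=
  eq_one_of_tr q (B.sq v ((h.mem_U T B).1 p).1) ((h.mem_U T B).1 p).2

theorem U_gen (l : S ≤ ⁅V, zpowers a⁆) (n : E ≤ 𝐍(S)) {H : Subgroup G} (p : S ⊓ Bb E b ≤ H) (q : S ⊓ Bb E (b * a) ≤ H)
    (r : S ⊓ Bb E (b * a⁻¹) ≤ H) : S ≤ H := by
  have k : ∀ {c d}, Ba E d a → S ⊓ Bb E d ≤ H → c ∈ zpowers d → c ≠ 1 → S ⊓ 𝐂[c] ≤ H := fun k p m c1 =>
    (le_inf inf_le_left ((inf_le_inf l (cent1_zp k.a3 m c1).le).trans (k.UB T B))).trans p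
  refine h.gen n (n3_of_pg (pg_of_sq fun v p => B.sq v ((h.mem_U T B).1 (l p)).1)) fun c m c1 => ?_
  rcases h.cases m with e | e | e | e
  · exact fun v p => h.U_one T B (l p.1) (cent1_zp h.a3 e c1 ▸ p.2 :) ▸ one_mem _
  exacts [k h.symm p e c1, k h.b3' q e c1, k h.b4' r e c1]

theorem tri (ks : s ∈ 𝐂[a]) (sb : s * b * s⁻¹ = b⁻¹) (l : S ≤ ⁅V, zpowers a⁆) (n : E ≤ 𝐍(S)) (ns : s ∈ 𝐍(S)) :
    (Bb E b ≤ S ∨ S ≤ Bb E (b * a) ⊔ Bb E (b * a⁻¹)) ∧ (Bb E (b * a) ⊔ Bb E (b * a⁻¹) ≤ S ∨ S ≤ Bb E b) := by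
  have nE : s ∈ 𝐍(E) := h.norm (by rw [cj_eq ks]; exact h.ma) (sb ▸ inv_mem h.mb)
  have e3 : s ⋆ Bb E (b * a) = Bb E (b * a⁻¹) := by
    rw [conj_Bb nE, ← conj_mul, sb, cj_eq ks, ← Bb_inv, mul_inv_rev, inv_inv, h.inv'.ab]
  have e4 : s ⋆ Bb E (b * a⁻¹) = Bb E (b * a) := by
    rw [conj_Bb nE, ← conj_mul, sb, ← conj_inv, cj_eq ks, ← Bb_inv, mul_inv_rev, inv_inv, inv_inv, h.ab]
  refine ⟨(h.symm.B_irr T (n h.ma)).symm.imp_right fun e : _ = _ => h.U_gen T B l n (e.le.trans bot_le) (inf_le_right.trans le_sup_left)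
    (inf_le_right.trans le_sup_right), ?_⟩
  rcases h.b3'.B_irr T (n h.ma) with e | e
  · exact (h.b4'.B_irr T (n h.ma)).symm.imp (fun e' => sup_le (e4 ▸ conj_le_of_norm e' ns) e')
      fun e' : _ = _ => h.U_gen T B l n inf_le_right (e.le.trans bot_le) (e'.le.trans bot_le)
  · exact .inl (sup_le e (e3 ▸ conj_le_of_norm e ns))

theorem i234 : Bb E b ⊓ (Bb E (b * a) ⊔ Bb E (b * a⁻¹)) = ⊥ := eq_bot_iff.2 fun _ p =>
  h.symm.U_one T B (sup_le (h.b32.BU T B) (h.b42.BU T B) p.2) (h.symm.B_c T p.1)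

theorem big3 (hz : zo a = 1) : False := by
  obtain ⟨b, s, f, η, P, h, ks, sb, fF, f1, hP, Pa, Pf, PA, EP, sP, PB, nη, kη, gen⟩ := h.exists_T T hz
  have ab := comm_of_sq B.sq
  have PV := PA.trans (B.nA h.ma h.a1)
  have nU : ∀ {g}, g ∈ 𝐍(V) → g ∈ 𝐂[a] → g ∈ 𝐍(⁅V, zpowers a⁆) := fun p q =>
    norm_comm (zpowers_le.2 p) (zpowers_le.2 (K_le_N a q)) (mem_zpowers _)
  have UV : ⁅V, zpowers a⁆ ≤ V := fun v p => ((h.mem_U T B).1 p).1
  have PU : P ≤ 𝐍(⁅V, zpowers a⁆) := fun t p => nU (PV p) (Pa p)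
  have EU : E ≤ 𝐍(⁅V, zpowers a⁆) := fun t p => nU (B.nE (le_norm E p)) (h.le_c h.ma p)
  have sU := nU (B.nE (h.norm (by rw [cj_eq ks]; exact h.ma) (sb ▸ inv_mem h.mb))) ks
  have tri := fun S => h.tri T B (S := S) ks sb
  have i := h.i234 T B
  have l2 := h.symm.BU T B
  have l3 := h.b3'.BU T B
  have l4 := h.b4'.BU T B
  have nc : ¬⁅V, zpowers a⁆ ≤ 𝐂(P) := fun e => by
    obtain ⟨c, p, k⟩ := gen _ (cent_symm e) (norm_cent le_rfl (nU (B.nE nη) kη))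
    obtain ⟨v, q, v1⟩ := k.b3'.B_ne T
    exact v1 (k.b32.B_one T q (mem_cent1_symm (cent_le_cent1 (k.b3'.BU T B q) p)))
  have ug := fun H => h.U_gen T B (H := H) le_rfl EU
  simp only [inf_of_le_right l2, inf_of_le_right l3, inf_of_le_right l4] at ug
  have pU := pg_of_sq fun v p => B.sq v (UV p)
  generalize ⁅V, zpowers a⁆ = U at *
  have lt := PGroup.commutator_lt pU hP PU fun e => nc (e ▸ bot_le)
  have t1 := tri _ lt.le (norm_comm EU EP) (norm_comm (zpowers_le.2 sU) (zpowers_le.2 sP) (mem_zpowers s))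
  have n0 : ⁅U, P⁆ ⊓ 𝐂(P) ≠ ⊥ := ne_bot_mono (nil_meet_center (pgroup_nil (pgroup_sup (pgroup_of_le pU lt.le) hP
    (right_norm_comm U P))) le_sup_left (sup_le_norm_left (right_norm_comm U P)) fun e => nc (comm_eq_bot_iff.1 e))
    (inf_le_inf_left _ (cent_anti le_sup_right))
  have t0 := tri _ (inf_le_left.trans lt.le) (norm_inf (norm_comm EU EP) (norm_cent EP)) (norm_inf
    (norm_comm (zpowers_le.2 sU) (zpowers_le.2 sP)) (norm_cent (zpowers_le.2 sP)) (mem_zpowers s))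
  obtain ⟨q, qF, qa, q3⟩ := h.b3'.symm.q3 T hz
  have q2 : q * b * q⁻¹ = (b * a⁻¹)⁻¹ := by
    calc _ = q * (b * a) * q⁻¹ * (q * a * q⁻¹)⁻¹ := by group
      _ = _ := by rw [q3, qa, mul_inv_rev, ← mul_assoc, ← mul_inv_rev, h.aa, mul_inv_rev]
  have q4 : q * (b * a⁻¹) * q⁻¹ = b := by
    rw [← conj_mul, ← conj_inv, q2, qa, ← mul_inv_rev, mul_assoc, ← mul_assoc a, h.ab, mul_assoc, mul_inv_cancel, mul_one,
      h.symm.aa, inv_inv]
  have qE : q ∈ 𝐍(E) := h.b3'.symm.norm (qa ▸ h.b3'.ma) (q3 ▸ inv_mem h.ma)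
  have e1 := conj_Bb qE a
  have e2 := conj_Bb qE b
  have e3 := conj_Bb qE (b * a)
  have e4 := conj_Bb qE (b * a⁻¹)
  rw [qa] at e1; rw [q2, Bb_inv] at e2; rw [q3, Bb_inv] at e3; rw [q4] at e4
  have fV := B.le h.ma h.a1 (h.F_le T fF)
  have qf := cj_eq (cent_le_cent1 fF qF)
  have V1 := h.BV T B
  have V2 := l2.trans UV
  have V3 := l3.trans UV
  have V4 := l4.trans UV
  have fz := zpowers_le.2 fV
  have RV := sup_le (sup_le fz V1) V3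
  have nV : ∀ {X Y}, X ≤ V → Y ≤ V → X ≤ 𝐍(Y) := fun p q => norm_of_cent (cent_mono ab p q)
  have lA : zpowers f ⊔ Bb E a ≤ 𝐂[a] := sup_le (zpowers_le.2 (AA_le E a (h.F_le T fF))) (h.B_c T)
  have iR : (zpowers f ⊔ Bb E a ⊔ Bb E (b * a)) ⊓ (Bb E b ⊔ Bb E (b * a⁻¹)) = ⊥ := eq_bot_iff.2 fun w p => by
    obtain ⟨r, r1, u, u1, rfl⟩ := (mem_sup_left_norm (nV V3 (sup_le fz V1))).1 p.1
    obtain rfl := h.U_one T B ((mul_mem_cancel_right (h.b3'.BU T B u1)).1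
      (sup_le (h.symm.BU T B) (h.b4'.BU T B) p.2)) (lA r1)
    exact h.b3'.U_one T B (sup_le (h.b32.symm.BU T B) (h.b43.BU T B) p.2) (by rw [one_mul]; exact h.b3'.B_c T u1)
  have cR : Nat.card ↥(zpowers f ⊔ Bb E a ⊔ Bb E (b * a)) = 32 := by
    rw [← (SD.of_norm (nV V3 (sup_le fz V1)) (eq_bot_iff.2 fun w p => h.b3'.B_one T p.2 (lA p.1))).card,
      ← (SD.of_norm (nV V1 fz) (eq_bot_iff.2 fun w p => h.B_F T p.2 (zpowers_le.2 fF p.1))).card, h.card_B T,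
      h.b3'.card_B T, card_zp2 (B.sq f fV) f1]
  have ER : E ≤ 𝐍(zpowers f ⊔ Bb E a ⊔ Bb E (b * a)) := norm_sup (norm_sup (norm_of_cent
    (cent_mono E_cF le_rfl (zpowers_le.2 fF))) E_nB) E_nB
  have fin : ∀ {t D}, t ∈ P → D ≤ Bb E b ⊔ Bb E (b * a⁻¹) → t ∈ 𝐍(D) → q * t * q⁻¹ ∈ 𝐍(D) →
      Bb E (b * a) ≤ Fx D t → Bb E a ≤ Fx D (q * t * q⁻¹) → ∀ y ∈ zpowers t ⊔ zpowers (q * t * q⁻¹), ¬3 ∣ orderOf y :=
    fun {t D} p l n n' c c' y m o => by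
      have DV := l.trans (sup_le V2 V4)
      have cf : q * t * q⁻¹ ∈ 𝐂[f] := qf ▸ conj_cent1 q f ▸ Transfer.conj_mem_conj.2 (Pf p)
      have c1 := Fx.conj (PB t p) q
      rw [e1, Transfer.conj_zpowers, qf] at c1
      have k : ∀ {t}, t ∈ 𝐍(D) → t ∈ 𝐂[f] → ∀ {F F'}, F ≤ D ⊔ zpowers f → F' ≤ D ⊔ zpowers f → Bb E a ≤ Fx F t →
          Bb E (b * a) ≤ Fx F' t → zpowers t ≤ St (zpowers f ⊔ Bb E a ⊔ Bb E (b * a)) (D ⊔ zpowers f) :=
        fun n c _ _ l l' a b => zpowers_le.2 ⟨norm_sup (zpowers_le.2 n) (zpowers_le.2 (nzp c)) (mem_zpowers _),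
          fun v p => (sup_le (sup_le (Fx.of_cent (nV fz (sup_le DV fz)) ((cent_zpowers f).ge c))
            (Fx.mono (nV V1 (sup_le DV fz)) l a)) (Fx.mono (nV V3 (sup_le DV fz)) l' b) p).2⟩
      have := T.card16' (fun w w3 w1 => T.zo_one h.a3 h.a1 w3 w1 hz) B.sq RV DV
        (eq_bot_mono iR (inf_le_inf_left _ l)) fV (sup_le (zpowers_le.2 (PV p)) (zpowers_le.2
          (conj_mem_of_norm (le_norm _ (B.nE qE)) (PV p))) m) (sup_le (zpowers_le.2 n) (zpowers_le.2 n') m)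
        (sup_le (zpowers_le.2 (Pf p)) (zpowers_le.2 cf) m) (sup_le (k n (Pf p) le_sup_right le_sup_left (PB t p) c)
          (k n' cf le_sup_left le_sup_right c' c1) m) o
      omega
  have cq : ∀ {t X}, t ∈ 𝐂(X) → q * t * q⁻¹ ∈ 𝐂(q ⋆ X) := fun p =>
    Transfer.conj_centralizer q _ ▸ Transfer.conj_mem_conj.2 p
  have ca : ∀ {t}, t ∈ P → q * t * q⁻¹ ∈ 𝐂[b * a] := fun p => qa ▸ conj_cent1 q a ▸ Transfer.conj_mem_conj.2 (Pa p)
  have cj : ∀ {t v u : G} {D}, t * v * t⁻¹ * v * u ∈ D → q * t * q⁻¹ * (q * v * q⁻¹) * (q * t * q⁻¹)⁻¹ * (q * v * q⁻¹) *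
      (q * u * q⁻¹) ∈ q ⋆ D := fun p => by
    have := (Transfer.conj_mem_conj (g := q)).2 p
    convert this using 1; group
  have mq := fun {X x} => (Transfer.conj_mem_conj (g := q) (H := X) (x := x)).2
  have n1 : ∀ {w : G}, w ≠ 1 → q * w * q⁻¹ ≠ 1 := fun h e => h (conj_eq_one_iff.1 e)
  have cB : ∀ {c d}, Ba E c d → c ∈ 𝐂(Bb E c) := fun k => le_cent1_iff.1 (k.B_c T)
  have cm : ∀ {t v}, t ∈ P → v ∈ U → t * v * t⁻¹ * v ∈ ⁅U, P⁆ := fun {t v} p r => by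
    have := comm_mem_comm p r
    rwa [inv_of_sq (B.sq v (UV r)), commutator_comm] at this
  have m12 := fun t : G => mul_mem (mem_sup_left (mem_zpowers t)) (mem_sup_right (mem_zpowers (q * t * q⁻¹)))
  have m21 := fun t : G => mul_mem (mem_sup_right (mem_zpowers (q * t * q⁻¹))) (mem_sup_left (mem_zpowers t))
  rcases t1.1.symm.imp_right fun e => t1.2.resolve_left fun e' =>
    lt.not_ge (ug _ e (le_sup_left.trans e') (le_sup_right.trans e')) with e | e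
  · have c := cent_symm ((t0.2.resolve_right fun e' => n0 (eq_bot_mono i (le_inf e' (inf_le_left.trans e)))).trans inf_le_right)
    have c3 := c.trans (cent_anti le_sup_left)
    have c4 := c.trans (cent_anti le_sup_right)
    obtain ⟨t, p, v, r, u, u4, u1, k⟩ : ∃ t ∈ P, ∃ v ∈ Bb E b, ∃ u ∈ Bb E (b * a⁻¹), u ≠ 1 ∧
        t * v * t⁻¹ * v * u ∈ Bb E (b * a) := by
      by_contra k
      have : ⁅U, P⁆ ≤ Bb E (b * a) := by
        rw [commutator_comm]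
        refine comm_le_iff.2 fun t p v r => (ug (Fx _ t) (fun v r => ⟨nV V2 V3 r, ?_⟩) (Fx.of_cent (le_norm _) (c3 p))
          (Fx.of_cent (nV V4 V3) (c4 p)) r).2
        obtain ⟨w, w3, u, u4, e'⟩ := (mem_sup_left_norm (nV V4 V3)).1 (e (cm p (l2 r)))
        rw [inv_of_sq (B.sq v (V2 r)), ← e']
        by_cases u1 : u = 1
        · rwa [u1, mul_one]
        · exact absurd ⟨t, p, v, r, u, u4, u1, by rwa [← e', mul_assoc, B.sq u (V4 u4), mul_one]⟩ k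
      rcases t1.2 with e' | e'
      · obtain ⟨v, r, v1⟩ := h.b4'.B_ne T
        exact v1 (h.b43.B_one T r (h.b3'.B_c T (this (e' (mem_sup_right r)))))
      · exact nc (comm_eq_bot_iff.1 (eq_bot_mono i (le_inf e' e)))
    have c1 := e3 ▸ cq (c3 p)
    have f1 := Fx.conj (PB t p) q
    rw [e1, Transfer.conj_zpowers, qf] at f1
    have fR : zpowers f ≤ zpowers f ⊔ Bb E a ⊔ Bb E (b * a) := le_sup_left.trans le_sup_left
    refine fin p bot_le (norm_bot.ge (mem_top _)) (norm_bot.ge (mem_top _)) (Fx.of_cent (nV V3 bot_le) (c3 p))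
      (Fx.of_cent (nV V1 bot_le) c1) _ (m12 t) (three_dvd'' B.sq RV V2 V4 ?_ ?_ (Fx.norm (sup_le (sup_le
        (Fx.of_cent (le_norm _) ((cent_zpowers f).ge (Pf p))) (PB t p)) (Fx.of_cent (nV V3 fz) (c3 p))) fR)
      (Fx.norm (sup_le (sup_le (Fx.of_cent (le_norm _) ((cent_zpowers f).ge (qf ▸ conj_cent1 q f ▸ mq (Pf p))))
        (Fx.of_cent (nV V1 fz) c1)) f1) fR) (ER h.ma) (ER h.b3'.ma) (Pa p) (ca p) (c4 p) (e4 ▸ cq (c4 p)) h.a3
      (h.symm.B_cy T) (h.b4'.B_cy T) ?_ ?_ r u4 u1 (mem_sup_right k) (e4 ▸ mq u4) (e2 ▸ mq r) (n1 u1)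
      (mem_sup_left (mem_sup_right (e3 ▸ cj k))))
    · exact eq_bot_mono iR (le_inf inf_le_right (inf_le_left.trans le_sup_left))
    · exact eq_bot_mono iR (le_inf inf_le_right (inf_le_left.trans le_sup_right))
    · rw [← h.ab, inv_mul_cancel_left]; exact cB h.symm
    · rw [← mul_assoc, h.ab, mul_assoc, h.aa]; exact cB h.b4'
  · have c := cent_symm ((t0.1.resolve_right fun e' => n0 (eq_bot_mono i (le_inf (inf_le_left.trans e) e'))).trans inf_le_right)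
    obtain ⟨t, p, v, r, u1⟩ : ∃ t ∈ P, ∃ v ∈ Bb E (b * a⁻¹), t * v * t⁻¹ * v ≠ 1 := by
      by_contra! k
      have : Bb E (b * a⁻¹) ≤ U ⊓ 𝐂(P) := le_inf l4 fun v r => mem_cent.2 fun t p =>
        mul_inv_eq_iff_eq_mul.1 ((eq_inv_of_mul_eq_one_left (k t p v r)).trans (inv_of_sq (B.sq v (V4 r))))
      rcases (tri _ inf_le_left (norm_inf EU (norm_cent EP)) (norm_inf (zpowers_le.2 sU) (norm_cent (zpowers_le.2 sP))
        (mem_zpowers s))).2 with e' | e'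
      · exact nc (ug _ (cent_symm c) (le_sup_left.trans (e'.trans inf_le_right)) (this.trans inf_le_right))
      · obtain ⟨v, r, v1⟩ := h.b4'.B_ne T
        exact v1 (h.b42.B_one T r (h.symm.B_c T (e' (this r))))
    have u2 := e (cm p (l4 r))
    have k : t * v * t⁻¹ * v * (t * v * t⁻¹ * v) ∈ (⊥ : Subgroup G) := B.sq _ (V2 u2)
    have fx : ∀ {X}, X ≤ U → X ≤ Fx (Bb E b) t := fun l v r => ⟨nV (l.trans UV) V2 r, by
      rw [inv_of_sq (B.sq v (UV (l r)))]; exact e (cm p (l r))⟩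
    have x3 := Fx.conj (fx l3) q
    have x2 := Fx.conj (fx l2) q
    have x4 := Fx.conj (fx l4) q
    rw [e2] at x2 x3 x4; rw [e3] at x3; rw [e4] at x4
    have DV := sup_le V2 V4
    refine fin p le_rfl (Fx.norm (sup_le (fx l2) (fx l4)) le_sup_left) (Fx.norm (sup_le x4 x2) le_sup_right)
      (Fx.mono (nV V3 DV) le_sup_left (fx l3)) (Fx.mono (nV V1 DV) le_sup_right x3) _ (m21 t)
      (three_dvd'' B.sq bot_le V2 V4 (inf_bot_eq _) (inf_bot_eq _) (norm_bot.ge (mem_top _)) (norm_bot.ge (mem_top _))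
        (norm_bot.ge (mem_top _)) (norm_bot.ge (mem_top _)) (ca p) (Pa p) (e2 ▸ cq (c p)) (c p) h.b3'.a3
        (h.b32.symm.B_cy T) (h.b43.B_cy T) ?_ ?_ (e4 ▸ mq r) (e2 ▸ mq u2) (n1 u1) (by simpa using cj k) u2 r u1 k)
    · rw [mul_inv_rev, mul_assoc, h.inv.ab.symm, inv_mul_cancel_left]; exact inv_mem (cB h.symm)
    · rw [mul_assoc, h.aa]; exact cB h.b4'

end Ba

end Cfsg.Lib.J43
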