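import Cfsg.Agent.Lib.J43.SE

/-! # Tools for the case `3·M₂₂` -/

set_option autoImplicit false
set_option linter.unusedSectionVars false

namespace Cfsg.Lib.J43

open Subgroup Cfsg.Lib.BG
open scoped Cfsg.Lib.Transfer

variable {G : Type*} [Group G] [Finite G]

theorem mem_comm_tr {V E : Subgroup G} {d v : G} (sq : ∀ v ∈ V, v * v = 1) (hE : IsPGroup 3 E) (n : E ≤ 𝐍(V)) (p : d ∈ E)
    (d3 : d ^ 3 = 1) (c : V ⊓ 𝐂[d] ≤ 𝐂(E)) : v ∈ ⁅V, E⁆ ↔ v ∈ V ∧ tr d v = 1 := by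
  have ab := comm_of_sq sq
  have D := coprime_abelian_cent_dprod n (cop32 hE (pg_of_sq sq)) (abelian_iff.2 ab)
  have n' := right_norm_comm V E p
  have k : ∀ v ∈ ⁅V, E⁆, tr d v = 1 := fun v q => by
    have a := tr_mem (n p) (D.left_le q)
    exact mem_bot.1 (D.inf.le ⟨tr_mem n' q, a, c ⟨a, tr_fix ab (n p) d3 (D.left_le q)⟩⟩)
  refine ⟨fun q => ⟨D.left_le q, k v q⟩, fun ⟨q, e⟩ => ?_⟩
  obtain ⟨u, a, f, b, rfl⟩ := D.mem q
  rw [tr_mul ab (n p) (n p) (D.left_le a) b.1, k u a, one_mul] at e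
  rwa [eq_one_of_tr (cent_le_cent1 p b.2) (sq f b.1) e, mul_one]

theorem mem_comm_zp {V : Subgroup G} {d v : G} (sq : ∀ v ∈ V, v * v = 1) (n : d ∈ 𝐍(V)) (d3 : d ^ 3 = 1) :
    v ∈ ⁅V, zpowers d⁆ ↔ v ∈ V ∧ tr d v = 1 :=
  mem_comm_tr sq (pg_zp d3) (zpowers_le.2 n) (mem_zpowers d) d3 (inf_le_right.trans (cent_zpowers d).ge)

theorem three_dvd {H : Type*} [Group H] {t s v u : H} (v2 : v * v = 1) (u2 : u * u = 1) (c : u * v = v * u) (u1 : u ≠ 1)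
    (a1 : t * v * t⁻¹ * v * u = 1) (a2 : t * u * t⁻¹ = u) (b1 : s * v * s⁻¹ = v) (b2 : s * u * s⁻¹ * u * v = 1) :
    3 ∣ orderOf (t * s) := by
  replace a1 : t * v * t⁻¹ = u * v := by
    rw [mul_assoc _ v u, mul_eq_one_iff_eq_inv, mul_inv_rev, inv_of_sq u2, inv_of_sq v2] at a1; exact a1
  replace b2 : s * u * s⁻¹ = u * v := by
    rw [mul_assoc _ u v, mul_eq_one_iff_eq_inv, mul_inv_rev, inv_of_sq u2, inv_of_sq v2, ← c] at b2; exact b2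
  have k : ∀ w, t * s * w * (t * s)⁻¹ = t * (s * w * s⁻¹) * t⁻¹ := fun w => by group
  have e1 := k v
  have e2 := k (u * v)
  have e3 := k u
  rw [b1, a1] at e1
  rw [← conj_mul (b := s), b1, b2, mul_assoc u v v, v2, mul_one, a2] at e2
  rw [b2, ← conj_mul (b := t), a1, a2, ← mul_assoc u, u2, one_mul] at e3
  generalize t * s = y at *
  by_contra n
  have : y ^ 3 ∈ 𝐂[v] := mem_cent1.2 (mul_inv_eq_iff_eq_mul.1 (by
    calc _ = y * (y * (y * v * y⁻¹) * y⁻¹) * y⁻¹ := by grp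
      _ = _ := by rw [e1, e2, e3]))
  have := mem_cent1.1 (zpowers_le.2 this (mem_zpowers_pow_iff.2 ((Nat.Prime.coprime_iff_not_dvd Nat.prime_three).2 n)))
  rw [this, mul_inv_cancel_right, right_eq_mul] at e1
  exact u1 e1

theorem three_dvd' {D V : Subgroup G} {t s v u : G} (sq : ∀ v ∈ V, v * v = 1) (l : D ≤ V) (p : v ∈ V) (q : u ∈ V) (u1 : u ∉ D)
    (nt : t ∈ 𝐍(D)) (ns : s ∈ 𝐍(D)) (a1 : t * v * t⁻¹ * v * u ∈ D) (a2 : t * u * t⁻¹ = u) (b1 : s * v * s⁻¹ = v)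
    (b2 : s * u * s⁻¹ * u * v ∈ D) : 3 ∣ orderOf (t * s) := by
  have n : V ≤ 𝐍(D) := norm_of_cent (cent_mono (comm_of_sq sq) le_rfl l)
  have := three_dvd (t := qhom D ⟨t, nt⟩) (s := qhom D ⟨s, ns⟩) (v := qhom D ⟨v, n p⟩) (u := qhom D ⟨u, n q⟩)
    (by rw [← map_mul, ← map_one (qhom D)]; exact congrArg _ (Subtype.ext (sq v p)))
    (by rw [← map_mul, ← map_one (qhom D)]; exact congrArg _ (Subtype.ext (sq u q)))
    (by rw [← map_mul, ← map_mul]; exact congrArg _ (Subtype.ext (le_cent_iff.1 (comm_of_sq sq) u q v p)))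
    (fun e => u1 (q_one.1 e)) (by simp only [← map_mul, ← map_inv]; exact q_one.2 a1)
    (by simp only [← map_mul, ← map_inv]; exact congrArg _ (Subtype.ext a2))
    (by simp only [← map_mul, ← map_inv]; exact congrArg _ (Subtype.ext b1))
    (by simp only [← map_mul, ← map_inv]; exact q_one.2 b2)
  rw [← map_mul] at this
  exact this.trans ((orderOf_map_dvd _ _).trans (orderOf_coe _).symm.dvd)

/-- `c` permutes the non-trivial elements of `X` cyclically -/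
def Cy (c : G) (X : Subgroup G) : Prop :=
  c ∈ 𝐍(X) ∧ ∀ g ∈ X, g ≠ 1 → ∀ v ∈ X, v ≠ 1 → v = g ∨ v = c * g * c⁻¹ ∨ v = c * (c * g * c⁻¹) * c⁻¹

theorem three_dvd'' {D V X Y : Subgroup G} {t s c d v u v' u' : G} (sq : ∀ v ∈ V, v * v = 1) (l : D ≤ V) (lX : X ≤ V)
    (lY : Y ≤ V) (iX : X ⊓ D = ⊥) (iY : Y ⊓ D = ⊥) (nt : t ∈ 𝐍(D)) (ns : s ∈ 𝐍(D)) (nc : c ∈ 𝐍(D)) (nd : d ∈ 𝐍(D))
    (ct : t ∈ 𝐂[c]) (cs : s ∈ 𝐂[d]) (tY : t ∈ 𝐂(Y)) (sX : s ∈ 𝐂(X)) (c3 : c ^ 3 = 1) (yX : Cy c X) (yY : Cy c Y)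
    (dX : c⁻¹ * d ∈ 𝐂(X)) (dY : c * d ∈ 𝐂(Y)) (p : v ∈ X) (q : u ∈ Y) (u1 : u ≠ 1) (a : t * v * t⁻¹ * v * u ∈ D)
    (p' : v' ∈ X) (q' : u' ∈ Y) (v1 : v' ≠ 1) (b : s * u' * s⁻¹ * u' * v' ∈ D) : 3 ∣ orderOf (t * s) := by
  have ppp : ∀ w, c * (c * (c * w * c⁻¹) * c⁻¹) * c⁻¹ = w := fun w => by
    calc _ = c ^ 3 * w * (c ^ 3)⁻¹ := by grp
      _ = _ := by rw [c3]; group
  have st : ∀ {t c v u : G}, c ∈ 𝐍(D) → t ∈ 𝐂[c] → t * v * t⁻¹ * v * u ∈ D →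
      t * (c * v * c⁻¹) * t⁻¹ * (c * v * c⁻¹) * (c * u * c⁻¹) ∈ D := fun {t c v u} n m a => by
    have := conj_mem_of_norm n a
    convert this using 1
    nth_rw 1 2 [← cj_eq (mem_cent1_symm m)]; group
  have s2 : ∀ {u v}, u ∈ Y → v ∈ X → s * u * s⁻¹ * u * v ∈ D → s * (c * (c * u * c⁻¹) * c⁻¹) * s⁻¹ *
      (c * (c * u * c⁻¹) * c⁻¹) * (c * v * c⁻¹) ∈ D := fun {u v} q p b => by
    have := st nd cs b
    rwa [show d * v * d⁻¹ = c * v * c⁻¹ by nth_rw 2 [← cj_eq (cent_le_cent1 p dX)]; group,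
      show d * u * d⁻¹ = c * (c * u * c⁻¹) * c⁻¹ by
        rw [← ppp (d * u * d⁻¹)]; nth_rw 2 [← cj_eq (cent_le_cent1 q dY)]; group] at this
  have mX := fun {w} => conj_mem_of_norm (x := w) yX.1
  have mY := fun {w} => conj_mem_of_norm (x := w) yY.1
  have n1 : ∀ {w : G}, w ≠ 1 → c * w * c⁻¹ ≠ 1 := fun h e => h (conj_eq_one_iff.1 e)
  have fin : ∀ {v u}, v ∈ X → u ∈ Y → u ≠ 1 → t * v * t⁻¹ * v * u ∈ D → s * u * s⁻¹ * u * v ∈ D → 3 ∣ orderOf (t * s) :=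
    fun p q u1 a b => three_dvd' sq l (lX p) (lY q) (fun e => u1 (mem_bot.1 (iY.le ⟨q, e⟩))) nt ns a
      (cj_eq (cent_le_cent1 q tY)) (cj_eq (cent_le_cent1 p sX)) b
  obtain ⟨w, r, w1, e⟩ : ∃ w ∈ X, w ≠ 1 ∧ s * u * s⁻¹ * u * w ∈ D := by
    rcases yY.2 u' q' (fun e => v1 (mem_bot.1 (iX.le ⟨p', by simpa [e] using b⟩))) u q u1 with rfl | rfl | rfl
    · exact ⟨_, p', v1, b⟩
    · have := s2 (mY (mY q')) (mX p') (s2 q' p' b)
      rw [ppp] at this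
      exact ⟨_, mX (mX p'), n1 (n1 v1), this⟩
    · exact ⟨_, mX p', n1 v1, s2 q' p' b⟩
  rcases yX.2 v p (fun e => u1 (mem_bot.1 (iY.le ⟨q, by simpa [e] using a⟩))) w r w1 with rfl | rfl | rfl
  · exact fin p q u1 a e
  · exact fin (mX (mX p)) (mY (mY q)) (n1 (n1 u1)) (st nc ct (st nc ct a)) (s2 q r e)
  · have := s2 (mY (mY q)) (mX r) (s2 q r e)
    rw [ppp, ppp] at this
    exact fin (mX p) (mY q) (n1 u1) (st nc ct a) this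

/-- the elements fixed by `y` modulo `F` -/
def Fx (F : Subgroup G) (y : G) : Subgroup G where
  carrier := {v | v ∈ 𝐍(F) ∧ y * v * y⁻¹ * v⁻¹ ∈ F}
  one_mem' := ⟨one_mem _, by simp⟩
  mul_mem' {v w} a b := ⟨mul_mem a.1 b.1, by
    have := mul_mem a.2 (conj_mem_of_norm a.1 b.2)
    convert this using 1; group⟩
  inv_mem' {v} a := ⟨inv_mem a.1, by
    have := conj_mem_of_norm' a.1 (inv_mem a.2)
    convert this using 1; group⟩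

theorem Fu.card16 (T : Fu G) {w : G} (w3 : w ^ 3 = 1) (w1 : w ≠ 1) (hz : zo w = 1) {S : Subgroup G} (l : S ≤ 𝐂[w])
    (sq : ∀ v ∈ S, v * v = 1) : Nat.card S ≤ 16 := by
  obtain ⟨C⟩ := T.cov w3 w1
  rw [C.card_im l, show C.kr ⊓ S = ⊥ from eq_bot_iff.2 fun g ⟨a, b⟩ =>
    (C.ker_sq (l b) (C.mem_kr.1 a).2 (sq g b)).elim id fun e => e.trans (C.z_zo.trans hz), card_bot, one_mul]
  refine card_le_16 fun m p => ?_
  obtain ⟨g, a, b, rfl⟩ := C.mem_im.1 p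
  rw [← C.mul b b, sq g a, C.one]

theorem Fu.card16' (T : Fu G) (hz : ∀ w : G, w ^ 3 = 1 → w ≠ 1 → zo w = 1) {V R D : Subgroup G} {f y : G}
    (sq : ∀ v ∈ V, v * v = 1) (lR : R ≤ V) (lD : D ≤ V) (i : R ⊓ D = ⊥) (p : f ∈ V) (nV : y ∈ 𝐍(V)) (nD : y ∈ 𝐍(D))
    (cf : y ∈ 𝐂[f]) (s : y ∈ St R (D ⊔ zpowers f)) (o : 3 ∣ orderOf y) : Nat.card R ≤ 16 := by
  have ab := comm_of_sq sq
  have cm := le_cent_iff.1 ab
  have s2 : y * y ∈ St R D := ⟨mul_mem nD nD, fun r q => by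
    obtain ⟨d, a, e, b, k⟩ := (mem_sup_left_norm (norm_of_cent (cent_mono ab (zpowers_le.2 p) lD))).1 (s.2 r q)
    have := mul_mem (conj_mem_of_norm nD a) a
    convert this using 1
    have e1 := cj_eq (cent_le_cent1 b ((cent_zpowers f).ge cf))
    calc _ = y * (y * r * y⁻¹ * r⁻¹) * y⁻¹ * (y * r * y⁻¹ * r⁻¹) := by group
      _ = y * d * y⁻¹ * (y * e * y⁻¹ * d * e) := by rw [← k]; group
      _ = _ := by rw [e1, cm _ (zpowers_le.2 p b) _ (lD a), mul_assoc d, sq e (zpowers_le.2 p b), mul_one]⟩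
  obtain ⟨_, ⟨j, rfl⟩, w3, w1⟩ := exists_ord (Nat.card_zpowers y ▸ o)
  beta_reduce at w3 w1
  have m : y ^ j ∈ zpowers (y * y) := ⟨2 * j, by
    calc _ = y ^ j * (y ^ j) ^ 3 := by simp only [← pow_two, ← zpow_natCast, ← zpow_mul, ← zpow_add]; congr 1; ring
      _ = _ := by rw [w3, mul_one]⟩
  have s3 := zpowers_le.2 s2 m
  have n := zpow_mem nV j
  generalize y ^ j = w at *
  refine le_trans (Nat.card_le_card_of_injective (fun r : R => (⟨tr w r, tr_mem n (lR r.2), tr_fix ab n w3 (lR r.2)⟩ :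
    ↥(V ⊓ 𝐂[w]))) fun r r' e => ?_) (T.card16 w3 w1 (hz w w3 w1) inf_le_right fun v p => sq v p.1)
  replace e : tr w (r * r' : G) = 1 := by
    rw [tr_mul ab n n (lR r.2) (lR r'.2), show tr w r = tr w r' from congrArg Subtype.val e, sq _ (tr_mem n (lR r'.2))]
  have q := mul_mem r.2 r'.2
  suffices (r * r' : G) = 1 from Subtype.ext (by rw [eq_inv_of_mul_eq_one_left this, inv_of_sq (sq _ (lR r'.2))])
  generalize (r * r' : G) = ρ at *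
  refine mem_bot.1 (i.le (mem_inf.2 ⟨q, inv_mem_iff.1 ?_⟩))
  have a := s3.2 ρ q
  have := mul_mem a ((mul_mem s3 s3).2 ρ q)
  convert this using 1
  rw [inv_eq_iff_mul_eq_one, ← e]
  calc _ = ρ * (w * ρ * w⁻¹ * ρ⁻¹ * (w * w * ρ * (w * w)⁻¹) * ρ⁻¹) := by group
    _ = ρ * (w * ρ * w⁻¹ * (ρ⁻¹ * ρ⁻¹) * (w * w * ρ * (w * w)⁻¹)) := by
      rw [mul_assoc _ _ ρ⁻¹, cm _ (conj_mem_of_norm (mul_mem n n) (lR q)) _ (inv_mem (lR q))]; group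
    _ = _ := by rw [← mul_inv_rev, sq ρ (lR q)]; grp

end Cfsg.Lib.J43
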