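import Cfsg.Agent.Lib.J43.Map

/-! # A strongly 3-embedded subgroup `2¹².3.M₂₂.2`: the elementary abelian group is strongly closed -/

set_option autoImplicit false
set_option linter.unusedSectionVars false

namespace Cfsg.Lib.J43

open Subgroup Cfsg.Lib.BG
open scoped Cfsg.Lib.Transfer

variable {G : Type*} [Group G] [Finite G]

theorem card_le_two {R S : Subgroup G} (h : ∀ a ∈ S, ∀ b ∈ S, a ∉ R → b ∉ R → a * b ∈ R) :
    Nat.card S ≤ 2 * Nat.card ↥(S ⊓ R) := by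
  by_cases e : S ≤ R
  · rw [inf_eq_left.2 e]; omega
  obtain ⟨u, p, q⟩ := SetLike.not_le_iff_exists.1 e
  have : R.relIndex S = 2 := index_eq_two_iff.2 ⟨⟨u, p⟩, fun b => by
    by_cases m : (b : G) ∈ R
    · exact Or.inr ⟨m, fun r => q ((mul_mem_cancel_left m).1 r)⟩
    · exact Or.inl ⟨h _ b.2 _ p m q, m⟩⟩
  rw [← card_mul_relIndex (inf_le_left : S ⊓ R ≤ S), inf_relIndex_left, this, mul_comm]

theorem exists_ord {p : ℕ} [Fact p.Prime] {S : Subgroup G} (h : p ∣ Nat.card S) : ∃ d ∈ S, d ^ p = 1 ∧ d ≠ 1 := by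
  obtain ⟨d, e⟩ := exists_prime_orderOf_dvd_card' p h
  exact ⟨d, d.2, orderOf_eq_prime_iff.1 ((orderOf_coe d).trans e)⟩

/-- `d` has order 3 and lies in `H` -/
def T3 (H : Subgroup G) (d : G) : Prop := d ∈ H ∧ d ^ 3 = 1 ∧ d ≠ 1

/-- The local hypotheses. -/
structure Sx (A H : Subgroup G) (x : G) : Prop where
  cov : ∃ C : Cov x, C.z = 1
  sq : ∀ a ∈ A, a * a = 1
  card : Nat.card A = 4096
  tr : ∀ a ∈ A, tr x a = 1
  nA : 𝐍(zpowers x) ≤ 𝐍(A)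
  eq : H = A ⊔ 𝐍(zpowers x)
  se : ∀ {g a}, T3 H a → g * a * g⁻¹ ∈ H → g ∈ H
  cA : H ⊓ 𝐂(A) ≤ A
  inn3 : ∀ u ∈ A ⊔ 𝐂[x], u * u = 1 → ∃ d, T3 H d ∧ d ∈ 𝐂[u]
  inn2 : ∀ k ∈ 𝐂[x], k * k = 1 → k ≠ 1 → Nat.card ↥(A ⊓ 𝐂[k]) ≤ 256
  lin : ∀ g ∈ 𝐍(A), (∀ a ∈ A, ∃ h ∈ H, g * a * g⁻¹ = h * a * h⁻¹) →
    x⁻¹ * (g * x * g⁻¹) ∈ 𝐂(A) ∨ x * (g * x * g⁻¹) ∈ 𝐂(A)

namespace Sx

variable {A H : Subgroup G} {x a g u v : G} (h : Sx A H x)
include h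

theorem x3 : x ^ 3 = 1 := h.cov.elim fun C _ => C.x3
theorem x1 : x ≠ 1 := h.cov.elim fun C _ => C.x_ne
theorem ab : A ≤ 𝐂(A) := comm_of_sq h.sq
theorem pg : IsPGroup 2 A := pg_of_sq h.sq
theorem A_le : A ≤ H := h.eq ▸ le_sup_left
theorem N_le : 𝐍(zpowers x) ≤ H := h.eq ▸ le_sup_right
theorem K_le : 𝐂[x] ≤ H := (K_le_N x).trans h.N_le
theorem H0_le : A ⊔ 𝐂[x] ≤ H := sup_le h.A_le h.K_le
theorem H_le : H ≤ 𝐍(A) := h.eq ▸ sup_le_norm_left h.nA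
theorem KA : 𝐂[x] ≤ 𝐍(A) := h.K_le.trans h.H_le
theorem xA : x ∈ 𝐍(A) := h.KA (self_mem_cent1 x)
theorem tx : T3 H x := ⟨h.K_le (self_mem_cent1 x), h.x3, h.x1⟩
theorem fpf (p : a ∈ A) (q : a ∈ 𝐂[x]) : a = 1 := eq_one_of_tr q (h.sq a p) (h.tr a p)
theorem comm (p : a ∈ A) (q : v ∈ A) : a * v = v * a := le_cent_iff.1 h.ab a p v q

theorem three {P : Subgroup G} (hP : IsPGroup 3 P) (p : a ∈ P) (q : T3 H a) : P ≤ H := fun g r => by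
  obtain ⟨c, m, c3, c1⟩ := exists_ord (pgroup_dvd_card (pgroup_of_le hP inf_le_left)
    (center_ne_bot_of_nil (pgroup_nil hP) (ne_bot_of_mem p q.2.2)))
  replace m := mem_cent.1 (mem_inf.1 m).2
  refine h.se ⟨h.se q ?_, c3, c1⟩ ?_
  · rw [← m a p, mul_inv_cancel_right]; exact q.1
  · rw [m g r, mul_inv_cancel_right]
    exact h.se q (by rw [← m a p, mul_inv_cancel_right]; exact q.1)

theorem into {Y : Subgroup G} {d : G} (p : a ∈ Y) (q : T3 H a) (r : d ∈ Y) (d3 : d ^ 3 = 1) :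
    ∃ k ∈ Y, k * d * k⁻¹ ∈ H := by
  obtain ⟨P, s, l⟩ := Syl.exists_ge (pg_zp q.2.1) (zpowers_le.2 p)
  obtain ⟨k, m, e⟩ := s.exists_conj_le (pg_zp d3) (zpowers_le.2 r)
  exact ⟨k, m, h.three s.pgroup (l (mem_zpowers a)) q (e (Transfer.conj_mem_conj.2 (mem_zpowers d)))⟩

theorem fus (p : a ∈ A) (q : g * a * g⁻¹ ∈ A ⊔ 𝐂[x]) : ∃ k ∈ H, g * a * g⁻¹ = k * a * k⁻¹ := by
  obtain ⟨d, d1, d2⟩ := h.inn3 a (mem_sup_left p) (h.sq a p)
  obtain ⟨c, c1, c2⟩ := h.inn3 _ q (by rw [conj_mul, h.sq a p, mul_one, mul_inv_cancel])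
  obtain ⟨k, m, e⟩ := h.into c2 c1 (d := g * d * g⁻¹) (conj_cent1 g a ▸ Transfer.conj_mem_conj.2 d2)
    (by rw [conj_pow, d1.2.1, mul_one, mul_inv_cancel])
  refine ⟨k * g, h.se d1 (by convert e using 1; group), ?_⟩
  rw [← cj_eq m]; group

theorem inn (p : a ∈ A) (q : g * a * g⁻¹ ∈ A ⊔ 𝐂[x]) : g * a * g⁻¹ ∈ A := by
  obtain ⟨k, m, e⟩ := h.fus p q
  exact e ▸ conj_mem_of_norm (h.H_le m) p

theorem le3 {K : Subgroup G} (n : 𝐂[x] ≤ 𝐍(K)) (c : ¬3 ∣ Nat.card K) : K ≤ H := by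
  obtain ⟨C, -⟩ := h.cov
  obtain ⟨E, b, B⟩ := C.exists_ba
  have l := B.le_c B.ma
  exact B.gen (l.trans n) c fun d p d1 g q => h.se ⟨h.K_le (l p), B.exp p, d1⟩ (by
    rw [cj_eq q.2]; exact h.K_le (l p))

theorem one_of (p : a ∈ A) (a3 : a ^ 3 = 1) : a = 1 := eq_one_of_23 (h.sq a p) a3

theorem cen_A : 𝐂(A) ≤ A := by
  refine (le_inf (h.le3 (norm_cent h.KA) fun e => ?_) le_rfl).trans h.cA
  obtain ⟨d, m, d3, d1⟩ := exists_ord e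
  obtain ⟨k, p, q⟩ := h.into h.xA h.tx (cent_le_norm _ m) d3
  exact d1 (conj_eq_one_iff.1 (h.one_of (h.cA ⟨q, conj_mem_of_norm (norm_cent le_rfl p) m⟩)
    (by rw [conj_pow, d3, mul_one, mul_inv_cancel])))

theorem norm_A : 𝐍(A) ≤ H := fun g p => by
  have := h.tx.1
  refine h.se h.tx ?_
  rcases h.lin g p fun a q => h.fus q (mem_sup_left (conj_mem_of_norm p q)) with e | e
  · exact (mul_mem_cancel_left (inv_mem this)).1 (h.A_le (h.cen_A e))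
  · exact (mul_mem_cancel_left this).1 (h.A_le (h.cen_A e))

theorem out (p : u ∈ H) (q : u ∉ A ⊔ 𝐂[x]) : ∃ a ∈ A, ∃ n, n * x * n⁻¹ = x⁻¹ ∧ a * n = u := by
  obtain ⟨a, r, n, s, rfl⟩ := (mem_sup_left_norm h.nA).1 (h.eq ▸ p)
  refine ⟨a, r, n, ?_, rfl⟩
  rcases zp_cases h.x3 (conj_mem_of_norm s (mem_zpowers x)) with e | e | e
  exacts [absurd (conj_eq_one_iff.1 e) h.x1, absurd (mul_mem (mem_sup_left r) (mem_sup_right (mem_K e))) q, e]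

theorem out2 (p : u ∈ H) (q : u ∉ A ⊔ 𝐂[x]) (p' : v ∈ H) (q' : v ∉ A ⊔ 𝐂[x]) : u * v ∈ A ⊔ 𝐂[x] := by
  obtain ⟨a, r, n, s, rfl⟩ := h.out p q
  obtain ⟨b, r', m, s', rfl⟩ := h.out p' q'
  rw [show a * n * (b * m) = a * (n * b * n⁻¹) * (n * m) by group]
  refine mul_mem (mem_sup_left (mul_mem r (conj_mem_of_norm (h.nA (norm_zp (s ▸ inv_mem (mem_zpowers x)))) r')))
    (mem_sup_right (mem_K ?_))
  calc _ = n * (m * x * m⁻¹) * n⁻¹ := by group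
    _ = _ := by rw [s', ← conj_inv, s, inv_inv]

theorem anti (p : u ∈ H) (q : u ∉ A ⊔ 𝐂[x]) (r : v ∈ A) : u * (x * v * x⁻¹) * u⁻¹ = x⁻¹ * (u * v * u⁻¹) * x := by
  obtain ⟨a, s, n, e, rfl⟩ := h.out p q
  have k : ∀ w ∈ A, a * n * w * (a * n)⁻¹ = n * w * n⁻¹ := fun w t => by
    calc _ = a * (n * w * n⁻¹) * a⁻¹ := by group
      _ = _ := by rw [h.comm s (conj_mem_of_norm (h.nA (norm_zp (e ▸ inv_mem (mem_zpowers x)))) t), mul_inv_cancel_right]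
  rw [k _ r, k _ (conj_mem_of_norm h.xA r)]
  calc _ = n * x * n⁻¹ * (n * v * n⁻¹) * (n * x * n⁻¹)⁻¹ := by group
    _ = _ := by rw [e, inv_inv]

theorem tr' (p : a ∈ A) : x * a * x⁻¹ * (x⁻¹ * a * x) = a := by
  have e : x * x = x⁻¹ := eq_inv_of_mul_eq_one_left (by rw [← pow_three', h.x3])
  have := h.tr a p
  rw [J43.tr, mul_assoc _ x⁻¹ x⁻¹, ← mul_inv_rev, e, inv_inv, mul_assoc a, mul_eq_one_iff_inv_eq, inv_of_sq (h.sq a p)] at this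
  exact this.symm

theorem disj (p : u ∈ H) (q : u ∉ A ⊔ 𝐂[x]) : (A ⊓ 𝐂[u]) ⊓ x ⋆ (A ⊓ 𝐂[u]) = ⊥ := eq_bot_iff.2 fun w ⟨a, v, b, e⟩ => by
  have t := h.anti p q b.1
  change x * v * x⁻¹ = w at e
  rw [e, cj_eq (mem_cent1_symm a.2), cj_eq (mem_cent1_symm b.2)] at t
  have := h.tr' b.1
  rw [← t, e, h.sq w a.1] at this
  rw [← e, ← this]; simp

theorem card_out (p : u ∈ H) (q : u ∉ A ⊔ 𝐂[x]) (u2 : u * u = 1) : Nat.card ↥(A ⊓ 𝐂[u]) = 64 := by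
  have l : x ⋆ (A ⊓ 𝐂[u]) ≤ A := conj_le_of_norm inf_le_left h.xA
  have k : ∀ a ∈ A, a * (u * a * u⁻¹) ∈ A ⊓ 𝐂[u] := fun a r => by
    have s := conj_mem_of_norm (h.H_le p) r
    refine ⟨mul_mem r s, mem_cent1_symm (mem_K ?_)⟩
    calc _ = u * a * u⁻¹ * (u * u * a * (u * u)⁻¹) := by group
      _ = _ := by rw [u2, h.comm r s]; group
  have e : A ⊓ 𝐂[u] ⊔ x ⋆ (A ⊓ 𝐂[u]) = A := le_antisymm (sup_le inf_le_left l) fun a r => by
    have s := conj_mem_of_norm (h.H_le p) r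
    have a1 := k a r
    have a2 := k _ (conj_mem_of_norm h.xA r)
    have := mul_mem (mul_mem (mem_sup_left a1) (mem_sup_right (Transfer.conj_mem_conj (g := x).2 a1)))
      (mem_sup_left a2 : _ ∈ A ⊓ 𝐂[u] ⊔ x ⋆ (A ⊓ 𝐂[u]))
    rw [h.anti p q r, ← conj_mul (b := x)] at this
    convert this using 1
    have t := h.tr' s
    have s1 := conj_mem_of_norm h.xA r
    have s2 := conj_mem_of_norm h.xA s
    generalize u * a * u⁻¹ = b at *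
    generalize x * a * x⁻¹ = c at *
    generalize x * b * x⁻¹ = d at *
    generalize x⁻¹ * b * x = f at *
    rw [h.comm s1 s2, mul_assoc, mul_assoc, mul_assoc, ← mul_assoc c, h.sq c s1, one_mul, t, h.sq b s, mul_one]
  have := (SD.of_norm (norm_of_cent (cent_mono h.ab l inf_le_left)) (h.disj p q)).card
  rw [e, Transfer.card_conj, h.card] at this
  exact Nat.mul_self_inj.1 this

theorem wc (p : g ⋆ A ≤ H) : g ⋆ A = A := by
  have k : g ⋆ A ⊓ (A ⊔ 𝐂[x]) ≤ A := fun _ ⟨⟨a, q, e⟩, r⟩ => e ▸ h.inn q (e ▸ r :)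
  refine eq_of_le_of_card_le (fun u q => by_contra fun n => ?_) (Transfer.card_conj _ _).ge
  have c := card_le_two (S := g ⋆ A) fun a r b s t t' => h.out2 (p r) t (p s) t'
  have ab := Transfer.conj_mono g h.ab
  rw [Transfer.conj_centralizer] at ab
  have := card_le_of_le (le_inf k (inf_le_left.trans (ab.trans (cent_le_cent1 q))))
  rw [h.card_out (p q) (fun e => n (k ⟨q, e⟩)) (by
    obtain ⟨a, r, rfl⟩ := q
    exact (map_mul _ a a).symm.trans (by rw [h.sq a r, map_one]))] at this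
  rw [Transfer.card_conj, h.card] at c
  omega

theorem two {P : Subgroup G} (hP : IsPGroup 2 P) (l : A ≤ P) : P ≤ H := by
  obtain ⟨T, s, m⟩ := Syl.exists_ge h.pg h.A_le
  have k : ∀ g, g ⋆ A ≤ T → g ∈ H := fun g e => h.norm_A (norm_of_conj_eq (h.wc (e.trans s.le)))
  obtain ⟨g, -, e⟩ := (s.of_norm_le le_top fun g p => k g (conj_le_of_norm m p.2)).exists_conj_le hP le_top
  exact (Transfer.conj_le_iff_le_inv_conj.1 (e.trans s.le)).trans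
    (conj_eq_of_mem (inv_mem (k g ((Transfer.conj_mono g l).trans e)))).le

theorem wc3 {Y : Subgroup G} (p : A ≤ Y) (q : g ⋆ A ≤ Y) : ∃ y ∈ Y, y ⋆ (g ⋆ A) = A := by
  obtain ⟨P, s, m⟩ := Syl.exists_ge h.pg p
  obtain ⟨y, r, e⟩ := s.exists_conj_le ((pgroup_conj g).2 h.pg) q
  rw [Transfer.conj_conj] at e
  exact ⟨y, r, by rw [Transfer.conj_conj, h.wc (e.trans (h.two s.pgroup m))]⟩

end Sx

end Cfsg.Lib.J43
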