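import Cfsg.Agent.Lib.J43.CdD
import Cfsg.Agent.Lib.J43.SE
import Cfsg.Agent.Lib.J4T.LocEx

/-! # The group `2¹².3.M₂₂.2` in coordinates -/

set_option autoImplicit false
set_option linter.unusedSectionVars false
set_option maxRecDepth 100000

namespace Cfsg.Lib.J43

open Subgroup Cfsg.Lib.BG Cfsg.Lib.Calc Cfsg.Lib.F2 Cfsg.Lib.J4T
open scoped Cfsg.Lib.Transfer

variable {Γ X : Type*} [Group Γ] [Group X] [Finite X]

theorem ty_app {L : Loc Γ} {k : Γ} {Y v : ℕ} (h : L.Cd k Y) (hv : v < 4096) : ty (app 12 (mc Y) v) = ty v := by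
  obtain ⟨Z, hZ, e⟩ := Loc.Cd.ind (L := L) (Q := fun Y => ∀ v < 4096, ty (app 12 (mc Y) v) = ty v)
    (fun v hv => by rw [app_cI hv]) (fun W hW Y _ _ a b ih v hv => by
      have := allL_iff.1 ty_lets W hW
      rw [forceB_eq, allBig_iff] at this
      rw [a.mc_mu b, beq_iff.1 (this _ (app12_lt _ _)), ih v hv]) h.mem
  rw [h.app_eq hZ hv, e v hv]

theorem cent_mul {d a b : X} (p : d ∈ 𝐂[a]) (q : d ∈ 𝐂[b]) : d ∈ 𝐂[a * b] :=
  mem_cent1_symm (mul_mem (mem_cent1_symm p) (mem_cent1_symm q))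

/-- A quotient of `H` by `⟨z⟩`. -/
structure Qt (L : Loc Γ) (f : Γ →* X) (p : Γ) : Prop where
  z : f L.z = 1
  ker : ∀ g, f g = 1 → g ∈ zpowers L.z
  cp : L.Cd p cP

namespace Qt

variable {L : Loc Γ} {f : Γ →* X} {p k k' : Γ} (h : Qt L f p) {v w Y : ℕ} {g a : X}
include h

theorem zp (n : ℕ) : f (L.z ^ n) = 1 := by rw [map_pow, h.z, one_pow]

theorem mul (hv : v < 4096) (hw : w < 4096) : f (L.e v) * f (L.e w) = f (L.e (v ^^^ w)) := by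
  rw [← map_mul, L.e_mul v hv w hw, map_mul, h.zp, mul_one]

theorem inj (hv : v < 4096) (hw : w < 4096) (e : f (L.e v) = f (L.e w)) : v = w := by
  obtain ⟨b, -, e'⟩ := L.exists_zp (h.ker ((L.e w)⁻¹ * L.e v) (by rw [map_mul, map_inv, e, inv_mul_cancel]))
  exact (L.e_inj (a := 0) hv hw (by rw [← e', pow_zero, mul_one, mul_inv_cancel_left])).1

theorem act (c : L.Cd k Y) (hv : v < 4096) : f k * f (L.e v) * (f k)⁻¹ = f (L.e (app 12 (mc Y) v)) := by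
  rw [← map_inv, ← map_mul, ← map_mul, c.act hv, map_mul, h.zp, mul_one]

theorem mem : a ∈ L.E.map f ↔ ∃ v < 4096, a = f (L.e v) :=
  ⟨fun ⟨g, m, e⟩ => by
    obtain ⟨v, hv, b, -, rfl⟩ := L.mem_E.1 m
    exact ⟨v, hv, by rw [← e, map_mul, h.zp, mul_one]⟩, fun ⟨_, hv, e⟩ => e ▸ mem_map_of_mem f (L.e_mem_E hv)⟩

theorem me (hv : v < 4096) : f (L.e v) ∈ L.E.map f := h.mem.2 ⟨v, hv, rfl⟩

theorem eq (c : L.Cd k Y) (c' : L.Cd k' Y) : f k = f k' := by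
  obtain ⟨b, -, rfl⟩ := c.eq c'
  rw [map_mul, h.zp, mul_one]

theorem sq : ∀ a ∈ L.E.map f, a * a = 1 := fun a m => by
  obtain ⟨v, hv, rfl⟩ := h.mem.1 m
  rw [h.mul hv hv, Nat.xor_self, L.e_zero, map_one]

theorem tr : ∀ a ∈ L.E.map f, tr (f p) a = 1 := fun a m => by
  obtain ⟨v, hv, rfl⟩ := h.mem.1 m
  have := beq_iff.1 (allBig_iff.1 P_ok v hv)
  rw [J43.tr, show ∀ x a : X, x * x * a * x⁻¹ * x⁻¹ = x * (x * a * x⁻¹) * x⁻¹ from fun _ _ => by group, h.act h.cp hv,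
    h.act h.cp (app12_lt _ _), h.mul hv (app12_lt _ _), h.mul (xor_lt hv (app12_lt _ _)) (app12_lt _ _)]
  exact (congrArg (fun v => f (L.e v)) this).trans (by rw [L.e_zero, map_one])

theorem card : Nat.card (L.E.map f) = 4096 := by
  rw [← Nat.card_fin 4096]
  refine (Nat.card_congr (Equiv.ofBijective (fun v : Fin 4096 => (⟨_, h.me v.2⟩ : L.E.map f))
    ⟨fun v w e => Fin.ext (h.inj v.2 w.2 (congrArg Subtype.val e)), fun a => ?_⟩)).symm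
  obtain ⟨v, hv, e⟩ := h.mem.1 a.2
  exact ⟨⟨v, hv⟩, Subtype.ext e.symm⟩

theorem cm {Z : ℕ} (c : L.Cd k Y) (c' : L.Cd k' Z) (e : J4T.mu Y Z = J4T.mu Z Y) : f k ∈ 𝐂[f k'] :=
  mem_cent1.2 (by rw [← map_mul, ← map_mul]; exact h.eq (c.mul c') (by rw [e]; exact c'.mul c))

theorem cm' (c : L.Cd k Y) (hv : v < 4096) (e : app 12 (mc Y) v = v) : f k ∈ 𝐂[f (L.e v)] :=
  mem_K (by rw [h.act c hv, e])

theorem ne (c : L.Cd k Y) (hv : v < 4096) (e : app 12 (mc Y) v ≠ v) : f k ≠ 1 := fun e' =>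
  e (h.inj (app12_lt _ _) hv (by rw [← h.act c hv, e']; simp))

theorem t3 (c : L.Cd k Y) (e : J4T.mu (J4T.mu Y Y) Y = cI) (hv : v < 4096) (n : app 12 (mc Y) v ≠ v) : T3 (L.H.map f) (f k) :=
  ⟨mem_map_of_mem f c.memH, by
    rw [pow_three', ← map_mul, ← map_mul, h.eq ((c.mul c).mul c) (e ▸ Loc.cd_one), map_one], h.ne c hv n⟩

theorem orb (hv : v < 4096) : ∃ k Y, L.Cd k Y ∧ f k ∈ 𝐂[f p] ∧ app 12 (mc Y) (rep (ty v)) = v :=
  tree ty_tree (rel := fun r c => ∃ k Y, L.Cd k Y ∧ f k ∈ 𝐂[f p] ∧ app 12 (mc Y) r = c)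
    (fun _ hc => ⟨1, cI, Loc.cd_one, by rw [map_one]; exact one_mem _, app_cI hc⟩) (fun _ _ g _ hg ⟨_, _, a, b, e⟩ =>
      ⟨_, _, (L.gd_nth g).el.mul a, by
        rw [map_mul]; exact mul_mem (h.cm (L.gd_nth g).el h.cp (P_comm g hg)) b, by rw [(L.gd_nth g).el.mc_mu a, e]⟩) v hv

omit h in
theorem _root_.Cfsg.Lib.J43.T3.conj {H : Subgroup X} {d u : X} (t : T3 H d) (c : d ∈ 𝐂[u]) (m : g ∈ H) :
    ∃ d, T3 H d ∧ d ∈ 𝐂[g * u * g⁻¹] :=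
  ⟨g * d * g⁻¹, ⟨mul_mem (mul_mem m t.1) (inv_mem m), by rw [conj_pow, t.2.1, mul_one, mul_inv_cancel],
    fun e => t.2.2 (conj_eq_one_iff.1 e)⟩, conj_cent1 g u ▸ Transfer.conj_mem_conj.2 c⟩

theorem vec (m : a ∈ L.E.map f) : ∃ d, T3 (L.H.map f) d ∧ d ∈ 𝐂[a] := by
  obtain ⟨v, hv, rfl⟩ := h.mem.1 m
  obtain ⟨k, Y, c, -, e⟩ := h.orb hv
  obtain ⟨w, -, a1, a2, a3, u, hu, a4⟩ := rep_fix (ty v) (get_lt 2 _ _)
  rw [← e, ← h.act c a3]
  exact (h.t3 (L.gd_evw w).el a1 (by omega) a4).conj (h.cm' (L.gd_evw w).el a3 a2) (mem_map_of_mem f c.memH)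

theorem inv : ∃ t ∈ 𝐂[f p], t * t = 1 ∧ t ≠ 1 ∧ Nat.card ↥(L.E.map f ⊓ 𝐂[t]) ≤ 256 ∧
    ∀ a ∈ L.E.map f ⊓ 𝐂[t], ∃ d, T3 (L.H.map f) d ∧ d ∈ 𝐂[a * t] := by
  obtain ⟨a1, a2, a3, a4, a5, a6⟩ := cZ_ok
  have c := L.cd_a1
  obtain ⟨y0, y⟩ : L.Gd cZ := L.gd_evw _
  have k : ∀ a ∈ L.E.map f ⊓ 𝐂[f L.a1], ∃ v < 4096, a = f (L.e v) ∧ app 12 (mc (AC 1)) v = v := fun a m => by
    obtain ⟨v, hv, rfl⟩ := h.mem.1 m.1
    exact ⟨v, hv, rfl, h.inj (app12_lt _ _) hv (by rw [← h.act c hv, cj_eq (mem_cent1_symm m.2)])⟩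
  refine ⟨f L.a1, h.cm c h.cp a5.symm, by rw [← map_mul, h.eq (c.mul c) (a4 ▸ Loc.cd_one), map_one],
    h.ne c (by norm_num) a6, ?_, fun a m => ?_⟩
  · rw [← fix_card, ← Set.ncard_coe_finset]
    refine le_trans (Set.ncard_le_ncard (fun a m => ?_) (Set.toFinite _)) (Set.ncard_image_le (f := fun v => f (L.e v)))
    obtain ⟨v, hv, rfl, e⟩ := k a m
    exact ⟨v, by simpa using ⟨hv, e⟩, rfl⟩
  obtain ⟨v, hv, rfl, e⟩ := k a m
  have := cZ_fix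
  simp only [forceB_eq, allBig_iff, bor_eq_true, anyLt_iff, beq_iff] at this
  obtain ⟨i, hi, e'⟩ := (this v hv).resolve_left (by simp [e])
  have hw : 64 * (i % 4) + 1024 * (i / 4) < 4096 := by omega
  generalize 64 * (i % 4) + 1024 * (i / 4) = w at *
  have l := xor_lt hw (xor_lt hv (app12_lt (mc (AC 1)) w))
  have := (h.t3 y a1 (by norm_num) a3).conj (cent_mul (h.cm' y l e') (h.cm y c a2)) (inv_mem (mem_map_of_mem f (L.eH w)))
  convert this using 6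
  rw [← h.mul hw (xor_lt hv (app12_lt _ _)), ← h.mul hv (app12_lt _ _), ← h.act c hw,
    ← mul_one (f (L.e v) * f L.a1), ← h.sq _ (h.me hw)]; group

theorem ty_eq (o : ∀ a ∈ L.E.map f, ∃ k ∈ L.H.map f, g * a * g⁻¹ = k * a * k⁻¹) (hv : v < 4096) (hw : w < 4096)
    (e : g * f (L.e v) * g⁻¹ = f (L.e w)) : ty w = ty v := by
  obtain ⟨_, ⟨k, m, rfl⟩, e'⟩ := o _ (h.me hv)
  obtain ⟨u, hu, k, Y, c, rfl⟩ := L.dec' m
  rw [← ty_app c hv, h.inj hw (app12_lt (mc Y) v) (by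
    rw [← e, e', ← map_inv, ← map_mul, ← map_mul, L.conj_e hu c hv, map_mul, h.zp, mul_one])]

theorem lin1 (n : g ∈ 𝐍(L.E.map f)) (o : ∀ v < 4096, ∀ w < 4096, g * f (L.e v) * g⁻¹ = f (L.e w) → ty w = ty v)
    (e : g * f (L.e 1) * g⁻¹ = f (L.e 1)) :
    f (L.e 1) ∈ 𝐂[(f p)⁻¹ * (g * f p * g⁻¹)] ∨ f (L.e 1) ∈ 𝐂[f p * (g * f p * g⁻¹)] := by
  obtain ⟨w, hw, e2⟩ := h.mem.1 (conj_mem_of_norm n (h.me (v := 2) (by norm_num)))
  have a1 := h.act h.cp (v := 1) (by norm_num)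
  have a3 := h.act h.cp (v := 3) (by norm_num)
  rw [P_one.1] at a1
  rw [P_one.2] at a3
  have k : g * f p * g⁻¹ * f (L.e 1) * (g * f p * g⁻¹)⁻¹ = f (L.e w) := by
    rw [← e2, ← a1]; nth_rw 1 [← e]; group
  have := allBig_iff.1 pat_ne w hw
  simp only [bor_eq_true, beq_iff, anyLt_iff] at this
  rcases this with (rfl | rfl) | ⟨i, -, c⟩
  · refine .inl (mem_cent1_symm (mem_K ?_))
    calc _ = (f p)⁻¹ * (g * f p * g⁻¹ * f (L.e 1) * (g * f p * g⁻¹)⁻¹) * f p := by group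
      _ = _ := by rw [k, ← a1]; group
  · refine .inr (mem_cent1_symm (mem_K ?_))
    calc _ = f p * (g * f p * g⁻¹ * f (L.e 1) * (g * f p * g⁻¹)⁻¹) * (f p)⁻¹ := by group
      _ = _ := by rw [k, a3]
  have hu : 32 - i < 4096 := by omega
  generalize 32 - i = u at *
  obtain ⟨v, hv, e3⟩ := h.mem.1 (conj_mem_of_norm' n (h.me hu))
  replace e3 : g * f (L.e v) * g⁻¹ = f (L.e u) := by rw [← e3]; group
  have m : ∀ {a b c d}, a < 4096 → b < 4096 → c < 4096 → d < 4096 → g * f (L.e a) * g⁻¹ = f (L.e b) →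
      g * f (L.e c) * g⁻¹ = f (L.e d) → g * f (L.e (a ^^^ c)) * g⁻¹ = f (L.e (b ^^^ d)) := fun a b c d p q => by
    rw [← h.mul a c, ← h.mul b d, ← p, ← q, conj_mul]
  have h1 : (1 : ℕ) < 4096 := by norm_num
  have h2 : (2 : ℕ) < 4096 := by norm_num
  have m2 := m hv hu h2 hw e3 e2
  rw [pat, o _ hv _ hu e3, o _ (xor_lt hv h1) _ (xor_lt hu h1) (m hv hu h1 h1 e3 e),
    o _ (xor_lt hv h2) _ (xor_lt hu hw) m2, o _ (xor_lt (xor_lt hv h2) h1) _ (xor_lt (xor_lt hu hw) h1)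
      (m (xor_lt hv h2) (xor_lt hu hw) h1 h1 m2 e), ← pat, allBig_iff.1 pat_two v hv] at c
  cases c

theorem lin2 (n : g ∈ 𝐍(L.E.map f)) (o : ∀ a ∈ L.E.map f, ∃ k ∈ L.H.map f, g * a * g⁻¹ = k * a * k⁻¹)
    (nH : L.H.map f ≤ 𝐍(L.E.map f)) (hw : w < 4096) (t : ty w = 1) :
    f (L.e w) ∈ 𝐂[(f p)⁻¹ * (g * f p * g⁻¹)] ∨ f (L.e w) ∈ 𝐂[f p * (g * f p * g⁻¹)] := by
  obtain ⟨v, hv, e⟩ := h.mem.1 (conj_mem_of_norm' n (h.me hw))
  replace e : g * f (L.e v) * g⁻¹ = f (L.e w) := by rw [← e]; group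
  obtain ⟨k, Y, c, m, e1⟩ := h.orb hv
  obtain ⟨l, Z, c', m', e2⟩ := h.orb hw
  rw [← h.ty_eq o hv hw e, t] at e1
  rw [t] at e2
  have a1 := h.act c (v := 1) (by norm_num)
  have a2 := h.act c' (v := 1) (by norm_num)
  rw [show app 12 (mc Y) 1 = v from e1] at a1
  rw [show app 12 (mc Z) 1 = w from e2] at a2
  have := h.lin1 (g := (f l)⁻¹ * g * f k) (mul_mem (mul_mem (inv_mem (nH (mem_map_of_mem f c'.memH))) n)
    (nH (mem_map_of_mem f c.memH))) (fun a ha b hb q => by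
      rw [← ty_app c ha, ← ty_app c' hb]
      refine h.ty_eq o (app12_lt _ _) (app12_lt _ _) ?_
      rw [← h.act c ha, ← h.act c' hb, ← q]; group) (by
    calc _ = (f l)⁻¹ * (g * (f k * f (L.e 1) * (f k)⁻¹) * g⁻¹) * f l := by group
      _ = _ := by rw [a1, e, ← a2]; group)
  have e3 : g * f p * g⁻¹ = f l * ((f l)⁻¹ * g * f k * f p * ((f l)⁻¹ * g * f k)⁻¹) * (f l)⁻¹ := by
    nth_rw 1 [← cj_eq m]; group
  rw [← a2, e3]
  generalize (f l)⁻¹ * g * f k * f p * ((f l)⁻¹ * g * f k)⁻¹ = y at *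
  refine this.imp (fun q => ?_) fun q => ?_ <;> rw [← cj_eq m']
  · rw [conj_inv, conj_mul, ← conj_cent1]; exact Transfer.conj_mem_conj.2 q
  · rw [conj_mul, ← conj_cent1]; exact Transfer.conj_mem_conj.2 q

theorem lin (p3 : f p ^ 3 = 1) (n : g ∈ 𝐍(L.E.map f)) (o : ∀ a ∈ L.E.map f, ∃ k ∈ L.H.map f, g * a * g⁻¹ = k * a * k⁻¹)
    (nH : L.H.map f ≤ 𝐍(L.E.map f)) :
    (f p)⁻¹ * (g * f p * g⁻¹) ∈ 𝐂(L.E.map f) ∨ f p * (g * f p * g⁻¹) ∈ 𝐂(L.E.map f) := by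
  have k := fun w hw t => h.lin2 n o nH (w := w) hw t
  generalize g * f p * g⁻¹ = y at *
  have d : ∀ v < 4096, f (L.e v) ∈ 𝐂[(f p)⁻¹ * y] → f (L.e v) ∈ 𝐂[f p * y] → v = 0 := fun v hv a b => by
    have := mem_cent1_symm (mul_mem (mem_cent1_symm b) (inv_mem (mem_cent1_symm a)))
    rw [show f p * y * ((f p)⁻¹ * y)⁻¹ = (f p)⁻¹ by
      rw [eq_inv_iff_mul_eq_one, ← p3, pow_three']; group, cent1_inv] at this
    exact h.inj hv (by norm_num) (by rw [eq_one_of_tr this (h.sq _ (h.me hv)) (h.tr _ (h.me hv)), L.e_zero, map_one])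
  have lt : ∀ i < 12, 2 ^ i < 4096 := fun i hi => Nat.pow_lt_pow_right (by norm_num) hi
  have key : ∀ S S' : Subgroup X, (∀ v < 4096, f (L.e v) ∈ S → f (L.e v) ∈ S' → v = 0) →
      (∀ w < 4096, ty w = 1 → f (L.e w) ∈ S ∨ f (L.e w) ∈ S') → f (L.e 1) ∈ S → L.E.map f ≤ S := fun S S' d k a => by
    have b : ∀ i < 12, f (L.e (2 ^ i)) ∈ S := fun i => by
      induction i with
      | zero => exact fun _ => a
      | succ i ih =>
        intro hi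
        have l := lt i (by omega)
        refine (k _ (lt _ hi) (ty_pow _ hi).1).elim id fun q => ?_
        rcases k _ (xor_lt l (lt _ hi)) ((ty_pow i (by omega)).2 (by omega)) with r | r <;> rw [← h.mul l (lt _ hi)] at r
        · exact (mul_mem_cancel_left (ih (by omega))).1 r
        · exact absurd (d _ l (ih (by omega)) ((mul_mem_cancel_right q).1 r)) (by positivity)
    intro a m
    obtain ⟨v, hv, rfl⟩ := h.mem.1 m
    exact Lx.xor_ind (P := fun v => f (L.e v) ∈ S) (by rw [L.e_zero, map_one]; exact one_mem _) b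
      (fun a ha b hb p q => h.mul ha hb ▸ mul_mem p q) v hv
  exact (k 1 (by norm_num) (ty_pow 0 (by norm_num)).1).imp (fun a => le_cent1_iff.1 (key _ _ d k a))
    fun a => le_cent1_iff.1 (key _ _ (fun v hv a b => d v hv b a) (fun w hw t => (k w hw t).symm) a)

end Qt

end Cfsg.Lib.J43
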