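import Cfsg.Agent.Lib.J43.M

/-! # Elements of order 3 with centraliser `3·M₂₂` or `6·M₂₂` -/

set_option autoImplicit false

namespace Cfsg.Lib.J43

open Subgroup Cfsg.Lib.BG
open scoped Cfsg.Lib.Transfer

/-- membership of products -/
scoped macro "gmem" : tactic => `(tactic| repeat' first
  | with_reducible assumption | with_reducible exact one_mem _ | with_reducible apply mul_mem
  | with_reducible apply inv_mem | with_reducible apply pow_mem)

variable {G : Type*} [Group G]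

/-- `C(x)` is a perfect central extension of `M₂₂` by `⟨x, z⟩`. -/
structure Cov (x : G) where
  π : G → M
  z : G
  ord : orderOf x = 3
  mul : ∀ {g h}, g ∈ 𝐂[x] → h ∈ 𝐂[x] → π (g * h) = π g * π h
  surj : ∀ m, ∃ g ∈ 𝐂[x], π g = m
  z2 : z * z = 1
  zK : z ∈ 𝐂[x]
  zc : ∀ {g}, g ∈ 𝐂[x] → g * z = z * g
  ker : ∀ {g}, g ∈ 𝐂[x] → (π g = 1 ↔ g ∈ zpowers x ∨ g * z ∈ zpowers x)
  perf : 𝐂[x] ≤ ⁅𝐂[x], 𝐂[x]⁆

theorem eq_one_of_23 {c : G} (h2 : c * c = 1) (h3 : c ^ 3 = 1) : c = 1 := by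
  rw [pow_succ, pow_two, h2, one_mul] at h3; exact h3

theorem cube_of_zp {x c : G} (hx : x ^ 3 = 1) (h : c ∈ zpowers x) : c ^ 3 = 1 := by
  obtain ⟨i, rfl⟩ := h
  rw [← zpow_natCast, ← zpow_mul, mul_comm, zpow_mul, zpow_natCast, hx, one_zpow]

theorem zp_cases {x c : G} (hx : x ^ 3 = 1) (h : c ∈ zpowers x) : c = 1 ∨ c = x ∨ c = x⁻¹ := by
  obtain ⟨i, rfl⟩ := h
  have e : x ^ (3 : ℤ) = 1 := by exact_mod_cast hx
  have := zpow_eq_zpow_emod i e
  have h2 : x ^ (2 : ℤ) = x⁻¹ := eq_inv_of_mul_eq_one_left (by rw [← zpow_add_one]; exact e)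
  rcases (by omega : i % 3 = 0 ∨ i % 3 = 1 ∨ i % 3 = 2) with h | h | h <;> rw [h] at this <;> simp only [this]
  exacts [Or.inl (zpow_zero _), Or.inr (Or.inl (zpow_one _)), Or.inr (Or.inr h2)]

theorem inv_of_sq {a : G} (h : a * a = 1) : a⁻¹ = a := inv_eq_of_mul_eq_one_right h

namespace Cov

variable {x : G} (C : Cov x) {g h k : G}

/-- the homomorphism -/
def hom : 𝐂[x] →* M := MonoidHom.mk' (fun g => C.π g) fun g h => C.mul g.2 h.2

theorem one : C.π 1 = 1 := C.hom.map_one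
theorem inv (hg : g ∈ 𝐂[x]) : C.π g⁻¹ = (C.π g)⁻¹ := C.hom.map_inv ⟨g, hg⟩
theorem pow (hg : g ∈ 𝐂[x]) (n : ℕ) : C.π (g ^ n) = C.π g ^ n := C.hom.map_pow ⟨g, hg⟩ n

end Cov

/-- push `π` through products -/
scoped macro "pis" : tactic => `(tactic| simp (disch := gmem) only [Cov.mul, Cov.inv, Cov.pow, Cov.one, tr])

namespace Cov

variable {x : G} (C : Cov x) {g h k : G}

include C in
theorem x3 : x ^ 3 = 1 := C.ord ▸ pow_orderOf_eq_one x
include C in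
theorem x_ne : x ≠ 1 := fun e => by have := C.ord; rw [e, orderOf_one] at this; cases this
theorem πx : C.π x = 1 := (C.ker (self_mem_cent1 x)).2 (Or.inl (mem_zpowers x))
theorem πz : C.π C.z = 1 := (C.ker C.zK).2 (Or.inr (C.z2 ▸ one_mem _))
theorem zi : C.z⁻¹ = C.z := inv_of_sq C.z2
theorem π_zp (hg : g ∈ zpowers x) : C.π g = 1 := (C.ker (zpowers_le.2 (self_mem_cent1 x) hg)).2 (Or.inl hg)

theorem cen (hg : g ∈ 𝐂[x]) (e : C.π g = 1) (hh : h ∈ 𝐂[x]) : h * g = g * h := by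
  have a : ∀ c ∈ zpowers x, h * c = c * h := fun c ⟨i, e⟩ => e ▸ (Commute.zpow_right (mem_cent1.1 hh) i).eq
  rcases (C.ker hg).1 e with e | e
  · exact a _ e
  · have := a _ e
    rw [← mul_assoc, mul_assoc g, ← C.zc hh, ← mul_assoc] at this
    exact mul_right_cancel this

theorem cube (hg : g ∈ 𝐂[x]) (e : C.π g = 1) : g ^ 3 = 1 ∨ g ^ 3 = C.z := by
  refine ((C.ker hg).1 e).imp (cube_of_zp C.x3) fun e => ?_
  have := cube_of_zp C.x3 e
  rw [Commute.mul_pow (C.zc hg), pow_succ C.z, pow_two, C.z2, one_mul] at this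
  exact (eq_inv_of_mul_eq_one_left this).trans C.zi

theorem ker_sq (hg : g ∈ 𝐂[x]) (e : C.π g = 1) (h2 : g * g = 1) : g = 1 ∨ g = C.z := by
  have := C.cube hg e
  rwa [pow_succ, pow_two, h2, one_mul] at this

theorem ker_cube (hg : g ∈ 𝐂[x]) (e : C.π g = 1) (h3 : g ^ 3 = 1) : g ∈ zpowers x := by
  refine ((C.ker hg).1 e).elim id fun e => ?_
  have := cube_of_zp C.x3 e
  rw [Commute.mul_pow (C.zc hg), h3, one_mul] at this
  rwa [eq_one_of_23 C.z2 this, mul_one] at e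

theorem ker_six (hg : g ∈ 𝐂[x]) (e : C.π g = 1) : g ^ 3 * g ^ 3 = 1 := by
  rcases C.cube hg e with h | h <;> rw [h]
  exacts [mul_one _, C.z2]

theorem ker_four (hg : g ∈ 𝐂[x]) (e : C.π g = 1) (h4 : g ^ 4 = 1) : g * g = 1 := by
  have := C.ker_six hg e
  rwa [← pow_add, show 3 + 3 = 4 + 2 from rfl, pow_add, h4, one_mul, pow_two] at this

theorem eq_mul (hg : g ∈ 𝐂[x]) (hh : h ∈ 𝐂[x]) (e : C.π g = C.π h) : ∃ c ∈ 𝐂[x], C.π c = 1 ∧ g = h * c :=
  ⟨h⁻¹ * g, by gmem, by pis; rw [e, inv_mul_cancel], by group⟩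

theorem le_of_surj {S : Subgroup G} (hS : ∀ m, ∃ g ∈ S, g ∈ 𝐂[x] ∧ C.π g = m) : 𝐂[x] ≤ S := by
  refine C.perf.trans (comm_le_iff.2 fun a ha b hb => ?_)
  obtain ⟨a', s1, k1, e1⟩ := hS (C.π a)
  obtain ⟨b', s2, k2, e2⟩ := hS (C.π b)
  obtain ⟨c, k3, e3, rfl⟩ := C.eq_mul ha k1 e1.symm
  obtain ⟨d, k4, e4, rfl⟩ := C.eq_mul hb k2 e2.symm
  have h1 := C.cen k3 e3 hb
  have h2 := C.cen k4 e4 (inv_mem k1)
  have : a' * c * (b' * d) * (a' * c)⁻¹ * (b' * d)⁻¹ = a' * b' * a'⁻¹ * b'⁻¹ := by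
    calc _ = a' * (c * (b' * d)) * c⁻¹ * a'⁻¹ * (b' * d)⁻¹ := by group
      _ = a' * b' * (d * a'⁻¹) * (b' * d)⁻¹ := by rw [← h1]; group
      _ = _ := by rw [← h2]; group
  rw [this]; gmem

/-- the image of a subgroup -/
def im (S : Subgroup G) : Subgroup M := (S.subgroupOf 𝐂[x]).map C.hom

theorem mem_im {S : Subgroup G} {m : M} : m ∈ C.im S ↔ ∃ g ∈ S, g ∈ 𝐂[x] ∧ C.π g = m :=
  ⟨fun ⟨g, a, b⟩ => ⟨g, a, g.2, b⟩, fun ⟨g, a, b, c⟩ => ⟨⟨g, b⟩, a, c⟩⟩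

theorem π_mem {S : Subgroup G} (a : g ∈ S) (b : g ∈ 𝐂[x]) : C.π g ∈ C.im S := C.mem_im.2 ⟨g, a, b, rfl⟩

theorem dich {N : Subgroup G} (hN : 𝐂[x] ≤ 𝐍(N)) : (∀ g ∈ N, g ∈ 𝐂[x] → C.π g = 1) ∨ 𝐂[x] ≤ N := by
  have := Mathieu.simple_M22
  have n : (C.im N).Normal := ⟨fun m hm k => by
    obtain ⟨g, a, b, rfl⟩ := C.mem_im.1 hm
    obtain ⟨k, c, rfl⟩ := C.surj k
    exact C.mem_im.2 ⟨k * g * k⁻¹, conj_mem_of_norm (hN c) a, by gmem, by pis⟩⟩
  exact n.eq_bot_or_eq_top.imp (fun e g a b => mem_bot.1 (e.le (C.π_mem a b)))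
    fun e => C.le_of_surj fun m => C.mem_im.1 (e.ge (mem_top m))

theorem π_of_cen (hg : g ∈ 𝐂[x]) (e : ∀ h ∈ 𝐂[x], h * g = g * h) : C.π g = 1 := by
  have a : ∀ a, C.π g * a = a * C.π g := fun a => by
    obtain ⟨a, b, rfl⟩ := C.surj a
    rw [← C.mul hg b, ← e a b, C.mul b hg]
  by_contra h1
  have b := Ab_sq (cen_A fun m _ => a m)
  obtain ⟨k, e1⟩ := conj2 b h1 f2 f_ne
  obtain ⟨l, e2⟩ := conj2 b h1 p2 p_ne
  rw [← a, mul_inv_cancel_right] at e1 e2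
  exact f_ne_p (e1.symm.trans e2)

theorem eq_z (hg : g ∈ 𝐂[x]) (e : ∀ h ∈ 𝐂[x], h * g = g * h) (h2 : g * g = 1) (h1 : g ≠ 1) : g = C.z :=
  (C.ker_sq hg (C.π_of_cen hg e) h2).resolve_left h1

theorem z_eq {x' : G} (C' : Cov x') (e : 𝐂[x'] = 𝐂[x]) : C'.z = C.z := by
  by_cases h : C'.z = 1
  · by_contra h'
    have := C'.eq_z (e.ge C.zK) (fun _ hh => C.zc (e.le hh)) C.z2 fun e => h' (h.trans e.symm)
    exact h' this.symm
  · exact C.eq_z (e.le C'.zK) (fun _ hh => C'.zc (e.ge hh)) C'.z2 h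

/-- twist by an inner automorphism -/
def twist (m : M) : Cov x :=
  { C with
    π := fun g => m * C.π g * m⁻¹
    mul := fun a b => by rw [C.mul a b]; group
    surj := fun a => by
      obtain ⟨g, b, e⟩ := C.surj (m⁻¹ * a * m)
      exact ⟨g, b, by rw [e]; group⟩
    ker := fun a => by rw [← C.ker a, conj_eq_one_iff] }

theorem mem_conj {g h : G} : h ∈ 𝐂[g * x * g⁻¹] ↔ g⁻¹ * h * g ∈ 𝐂[x] := by
  rw [← conj_cent1, Transfer.mem_conj]

/-- transport by conjugation -/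
def conj (g : G) : Cov (g * x * g⁻¹) where
  π h := C.π (g⁻¹ * h * g)
  z := g * C.z * g⁻¹
  ord := (Mathieu.orderOf_conj' g x).trans C.ord
  mul a b := by rw [← C.mul (mem_conj.1 a) (mem_conj.1 b)]; congr 1; group
  surj m := by
    obtain ⟨k, a, e⟩ := C.surj m
    exact ⟨g * k * g⁻¹, mem_conj.2 (by simpa [mul_assoc] using a), by simpa [mul_assoc] using e⟩
  z2 := by rw [conj_mul, C.z2, mul_one, mul_inv_cancel]
  zK := mem_conj.2 (by simpa [mul_assoc] using C.zK)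
  zc {h} a := by
    calc _ = g * (g⁻¹ * h * g * C.z) * g⁻¹ := by group
      _ = _ := by rw [C.zc (mem_conj.1 a)]; group
  ker {h} a := by
    rw [C.ker (mem_conj.1 a), ← Transfer.conj_zpowers, Transfer.mem_conj, Transfer.mem_conj]
    simp [mul_assoc]
  perf := by
    rw [← conj_cent1, ← Transfer.conj_commutator]
    exact map_mono C.perf

theorem z_conj {x' : G} (C' : Cov x') {g : G} (e : g * x * g⁻¹ ∈ zpowers x') : g * C.z * g⁻¹ = C'.z := by
  refine C'.z_eq (C.conj g) ?_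
  rcases zp_cases C'.x3 e with e | e | e <;> rw [e]
  exacts [absurd e (C.conj g).x_ne, cent1_inv _]

/-! ### Lifting involutions -/

theorem exists_lift {m : M} (hm : m * m = 1) : ∃ k ∈ 𝐂[x], (k * k = 1 ∨ k * k = C.z) ∧ C.π k = m := by
  obtain ⟨k, a, rfl⟩ := C.surj m
  refine ⟨k ^ 3, by gmem, ?_, by pis; rw [pow_succ, pow_two, hm, one_mul]⟩
  rw [← (Commute.refl k).mul_pow]
  exact C.cube (by gmem) (by pis; exact hm)

theorem lift2 {m : M} (hm : m * m = 1) : ∃ k ∈ 𝐂[x], k * k = 1 ∧ C.π k = m := by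
  by_contra hc
  have m1 : m ≠ 1 := fun e => hc ⟨1, one_mem _, mul_one _, C.one.trans e.symm⟩
  have bad : ∀ k ∈ 𝐂[x], k * k = 1 → C.π k = 1 := fun k a b => by
    by_contra h1
    obtain ⟨l, e⟩ := conj2 (by rw [← C.mul a a, b, C.one]) h1 hm m1
    obtain ⟨l, c, rfl⟩ := C.surj l
    exact hc ⟨l * k * l⁻¹, by gmem, by rw [conj_mul, b, mul_one, mul_inv_cancel], by pis; exact e⟩
  have ex : ∀ n : M, n * n = 1 → n ≠ 1 → ∃ k ∈ 𝐂[x], k * k = C.z ∧ C.π k = n := fun n a b => by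
    obtain ⟨k, c, d, rfl⟩ := C.exists_lift a
    exact ⟨k, c, d.resolve_left fun e => b (bad k c e), rfl⟩
  have key : ∀ a ∈ 𝐂[x], ∀ b ∈ 𝐂[x], C.π a ∈ Ab → C.π b ∈ Ab → a * a = C.z → b * b = C.z → C.π a ≠ C.π b →
      a * b = b * a * C.z ∧ a * b * (a * b) = C.z := fun a ka b kb ma mb ea eb ne => by
    have k1 : C.π (a * b * (a * b)) = 1 := by pis; exact Ab_sq (mul_mem ma mb)
    have k2 := C.cen (by gmem) k1 ka
    have za := C.zc ka
    have zb := C.zc kb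
    have k3 : a * b * (a * b) * (a * b * (a * b)) = 1 := by
      calc _ = a * b * (a * b) * a * (b * (a * b)) := by group
        _ = a * a * (b * a * b * b) * (a * b) := by rw [← k2]; group
        _ = C.z * b * (a * C.z) * a * b := by rw [ea, mul_assoc (b * a), eb]; group
        _ = b * C.z * C.z * (a * a) * b := by rw [za, zb]; group
        _ = b * (C.z * C.z) * (C.z * b) := by rw [ea]; group
        _ = 1 := by rw [C.z2, ← zb, mul_one, ← mul_assoc, eb, C.z2]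
    have k4 : a * b * (a * b) = C.z := (C.ker_sq (by gmem) k1 k3).resolve_left fun e => ne (by
      have := bad _ (by gmem) e
      rw [C.mul ka kb, mul_eq_one_iff_eq_inv, inv_of_sq (Ab_sq mb)] at this
      exact this)
    refine ⟨?_, k4⟩
    calc a * b = a⁻¹ * (a * a) * (b * b) * b⁻¹ := by group
      _ = a⁻¹ * (C.z * C.z) * b⁻¹ := by rw [ea, eb]; group
      _ = a⁻¹ * (a * b * (a * b)) * (C.z * b⁻¹) := by rw [k4]; group
      _ = _ := by rw [← C.zc (inv_mem kb)]; simp only [mul_assoc]; group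
  obtain ⟨a, ka, ea, fa⟩ := ex mf f2 f_ne
  obtain ⟨b, kb, eb, fb⟩ := ex mp p2 p_ne
  obtain ⟨c, kc, ec, fc⟩ := ex mb (Ab_sq b_mem) fun e => b_nmem (e ▸ one_mem _)
  have ma : C.π a ∈ Ab := fa ▸ Fb_le f_mem
  have mb' : C.π b ∈ Ab := fb ▸ Fb_le p_mem
  have mc : C.π c ∈ Ab := fc ▸ b_mem
  have h1 := (key a ka b kb ma mb' ea eb (by rw [fa, fb]; exact f_ne_p)).1
  have h2 := (key a ka c kc ma mc ea ec (by rw [fa, fc]; exact fun e => b_nmem (e ▸ f_mem))).1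
  have h3 := (key b kb c kc mb' mc eb ec (by rw [fb, fc]; exact fun e => b_nmem (e ▸ p_mem))).2
  have h4 := (key a ka (b * c) (by gmem) ma (by pis; gmem) ea h3 (by
    pis; rw [fa, fb, fc]
    exact fun e => b_nmem ((mul_mem_cancel_left p_mem).1 (e ▸ f_mem)))).1
  have h5 : a * (b * c) = b * c * a := by
    calc _ = b * (a * (C.z * c)) := by rw [← mul_assoc, h1]; group
      _ = b * (a * c) * C.z := by rw [← C.zc kc]; group
      _ = _ := by rw [h2]; simp only [mul_assoc, C.z2, mul_one]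
  rw [h5, left_eq_mul] at h4
  exact f_ne (fa ▸ bad a ka (ea.trans h4))

theorem sq_one (hk : k ∈ 𝐂[x]) (e : C.π k * C.π k = 1) (h4 : k ^ 4 = 1) : k * k = 1 := by
  obtain ⟨l, a, b, c⟩ := C.lift2 e
  obtain ⟨d, f, g, rfl⟩ := C.eq_mul hk a c.symm
  have cm : Commute l d := C.cen f g a
  rw [cm.mul_pow, show 4 = 2 * 2 from rfl, pow_mul l, pow_two l, b, one_pow, one_mul] at h4
  rw [← pow_two, cm.mul_pow, pow_two, pow_two, b, C.ker_four f g h4, one_mul]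

theorem comm2 (hk : k ∈ 𝐂[x]) (hh : h ∈ 𝐂[x]) (k2 : k * k = 1) (h2 : h * h = 1) (e : C.π k * C.π h = C.π h * C.π k) :
    k * h = h * k := by
  have a : C.π k * C.π k = 1 := by rw [← C.mul hk hk, k2, C.one]
  have b : C.π h * C.π h = 1 := by rw [← C.mul hh hh, h2, C.one]
  have k1 : C.π (k * h * (k * h)) = 1 := by
    pis; rw [mul_assoc, ← mul_assoc (C.π h), ← e, mul_assoc, b, mul_one, a]
  have := C.sq_one (mul_mem hk hh) (by rw [← C.mul (by gmem) (by gmem), k1]) (by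
    calc _ = k * h * (k * h) * k * (h * (k * h)) := by simp only [pow_succ, pow_zero, one_mul, mul_assoc]
      _ = k * k * (h * k * (h * h)) * (k * h) := by rw [← C.cen (by gmem) k1 hk]; group
      _ = h * (k * k) * h := by rw [h2]; nth_rw 1 [k2]; group
      _ = 1 := by rw [k2, mul_one, h2])
  rw [← inv_eq_of_mul_eq_one_right this, mul_inv_rev, inv_of_sq k2, inv_of_sq h2]

theorem comm23 (hk : k ∈ 𝐂[x]) (hh : h ∈ 𝐂[x]) (k2 : k * k = 1) (h3 : h ^ 3 = 1) (e : C.π k * C.π h = C.π h * C.π k) :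
    k * h = h * k := by
  obtain ⟨c, a, b, d⟩ := C.eq_mul (g := k * h * k⁻¹) (by gmem) hh (by pis; rw [e, mul_inv_cancel_right])
  have c3 : c ^ 3 = 1 := by
    have := congrArg (· ^ 3) d
    simp only [conj_pow, h3, (Commute.mul_pow (C.cen a b hh) 3), one_mul] at this
    rw [← this]; group
  have c2 : c * c = 1 := by
    have : k * (k * h * k⁻¹) * k⁻¹ = h := by
      calc _ = k * k * h * (k * k)⁻¹ := by group
        _ = h := by rw [k2]; group
    rw [d, ← mul_assoc, mul_assoc _ c, ← C.cen a b (inv_mem hk), ← mul_assoc, d, mul_assoc, mul_eq_left] at this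
    exact this
  rw [eq_one_of_23 c2 c3, mul_one] at d
  exact mul_inv_eq_iff_eq_mul.1 d

/-- the involutions over an elementary abelian subgroup -/
def L2 (S : Subgroup M) (hS : ∀ m ∈ S, m * m = 1) : Subgroup G where
  carrier := {k | k ∈ 𝐂[x] ∧ k * k = 1 ∧ C.π k ∈ S}
  one_mem' := ⟨one_mem _, mul_one _, C.one ▸ one_mem _⟩
  inv_mem' {k} h := by rw [inv_of_sq h.2.1]; exact h
  mul_mem' {k h} a b := by
    have := hS _ (mul_mem a.2.2 b.2.2)
    have e := C.comm2 a.1 b.1 a.2.1 b.2.1 (by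
      rw [← inv_eq_of_mul_eq_one_right this, mul_inv_rev, inv_of_sq (hS _ a.2.2), inv_of_sq (hS _ b.2.2)])
    refine ⟨mul_mem a.1 b.1, ?_, C.mul a.1 b.1 ▸ mul_mem a.2.2 b.2.2⟩
    rw [mul_assoc, ← mul_assoc h, ← e, mul_assoc, b.2.1, mul_one, a.2.1]

end Cov

end Cfsg.Lib.J43
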