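import Cfsg.Agent.Lib.J43.Fa
import Cfsg.Agent.Lib.PGroup.AutGL

/-! # The centraliser of `A` -/

set_option autoImplicit false
set_option linter.unusedSectionVars false

namespace Cfsg.Lib.J43

open Subgroup Cfsg.Lib.BG
open scoped Cfsg.Lib.Transfer

variable {G : Type*} [Group G] [Finite G]

theorem cube_mul (h6 : Nat.card G ∣ 6) {g h : G} (a : g ^ 3 = 1) (b : h ^ 3 = 1) : (g * h) ^ 3 = 1 := by
  obtain ⟨P, S⟩ := Syl.exists (p := 3) (⊤ : Subgroup G)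
  have i : P.index ∣ 2 := (((Nat.Prime.coprime_iff_not_dvd Nat.prime_three).2
    (by rw [← relIndex_top_right]; exact S.not_dvd')).symm : P.index.Coprime 3).dvd_of_dvd_mul_right
      (P.index_dvd_card.trans h6)
  have n : ⊤ ≤ 𝐍(P) := (normalizer_eq_top_iff.2 (((Nat.dvd_prime Nat.prime_two).1 i).elim
    (fun e => index_eq_one.1 e ▸ inferInstance) (normal_of_index_eq_two ·))).ge
  have m : ∀ {g : G}, g ^ 3 = 1 → g ∈ P := fun a => S.ge_of_norm_p' le_top (pg_zp a) (le_top.trans n) (mem_zpowers _)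
  obtain ⟨k, e⟩ := IsPGroup.iff_card.1 S.pgroup
  have : Nat.card P ∣ 3 := (e ▸ Nat.Coprime.pow_left k (by norm_num) : (Nat.card P).Coprime 2).dvd_of_dvd_mul_left
    (P.card_subgroup_dvd_card.trans h6)
  exact orderOf_dvd_iff_pow_eq_one.1 ((orderOf_dvd_natCard P (mul_mem (m a) (m b))).trans this)

theorem cube_mul' {F : Subgroup G} (h2 : ∀ f ∈ F, f * f = 1) (hc : Nat.card F = 4) {g h : G} (p : g ∈ 𝐍(F))
    (q : h ∈ 𝐍(F)) (a : g ^ 3 ∈ 𝐂(F)) (b : h ^ 3 ∈ 𝐂(F)) : (g * h) ^ 3 ∈ 𝐂(F) := by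
  obtain ⟨f, hf⟩ := PGroup.exists_aut_hom_GL (V := F) (p := 2) (n := 2)
    (fun x y => Subtype.ext (le_cent_iff.1 (comm_of_sq h2) _ x.2 _ y.2)) (fun x => Subtype.ext (by simpa [pow_two] using h2 x x.2))
    hc.le
  have c := card_dvd_of_injective f hf
  rw [Matrix.card_GL_field, ZMod.card] at c
  have k : ∀ g : 𝐍(F), F.normalizerMonoidHom g ^ 3 = 1 ↔ (g : G) ^ 3 ∈ 𝐂(F) := fun g => by
    rw [← map_pow, ← MonoidHom.mem_ker, normalizerMonoidHom_ker]; rfl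
  have := cube_mul (c.trans (by decide)) ((k ⟨g, p⟩).2 a) ((k ⟨h, q⟩).2 b)
  rwa [← map_mul, k] at this

theorem le_of_p' {p : ℕ} [Fact p.Prime] {H N P : Subgroup G} (h : H ≤ N ⊔ P) (n : P ≤ 𝐍(N)) (hP : IsPGroup p P)
    (c : ¬p ∣ Nat.card H) : H ≤ N :=
  (quo_eq_bot_iff (h.trans (sup_le_norm_left n))).1 (PiGrp.eq_bot (π := {p}) (PiGrp.of_le (PiGrp.p_iff.2 (pgroup_quo hP N))
    (quo_sup_self n ▸ quo_mono h N)) ((PiGrp.p'_iff.2 c).quo N))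

theorem syl_sup {p : ℕ} [Fact p.Prime] {N P : Subgroup G} (n : P ≤ 𝐍(N)) (hP : IsPGroup p P) (c : ¬p ∣ Nat.card N) :
    Syl p P (N ⊔ P) :=
  have s := SD.of_coprime n ((PiGrp.p'_iff.2 c).coprime_pgroup hP)
  Hall.of_sd_right s (Hall.of_sd s (PiGrp.p'_iff.2 c) (PiGrp.of_pgroup hP (by simp))).1

theorem n3_of_pg {S : Subgroup G} (h : IsPGroup 2 S) : ¬3 ∣ Nat.card S := fun e =>
  absurd (pgroup_eq_of_dvd h Nat.prime_three e) (by norm_num)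

/-- the elements acting trivially on `A / F` -/
def St (A F : Subgroup G) : Subgroup G where
  carrier := {y | y ∈ 𝐍(F) ∧ ∀ v ∈ A, y * v * y⁻¹ * v⁻¹ ∈ F}
  one_mem' := ⟨one_mem _, fun v _ => by simp⟩
  mul_mem' {x y} a b := ⟨mul_mem a.1 b.1, fun v p => by
    have := mul_mem (conj_mem_of_norm a.1 (b.2 v p)) (a.2 v p)
    convert this using 1; group⟩
  inv_mem' {y} a := ⟨inv_mem a.1, fun v p => by
    have := conj_mem_of_norm' a.1 (inv_mem (a.2 v p))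
    convert this using 1; group⟩

theorem St.conj {A F : Subgroup G} {k y : G} (p : k ∈ 𝐍(A)) (q : k ∈ 𝐍(F)) (a : y ∈ St A F) : k * y * k⁻¹ ∈ St A F :=
  ⟨mul_mem (mul_mem q a.1) (inv_mem q), fun v r => by
    have := conj_mem_of_norm q (a.2 _ (conj_mem_of_norm' p r))
    convert this using 1; group⟩

theorem St.of_cent {A F : Subgroup G} {y : G} (p : y ∈ 𝐂(A)) (q : y ∈ 𝐍(F)) : y ∈ St A F :=
  ⟨q, fun v r => by rw [← mem_cent.1 p v r]; simp⟩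

theorem St.norm {A F : Subgroup G} (h : F ≤ A) : St A F ≤ 𝐍(A) :=
  le_norm_iff.2 fun _ a v p => (mul_mem_cancel_right (inv_mem p)).1 (h (a.2 v p))

/-- `j` centralises `F` and inverts `E` -/
structure Iv (E : Subgroup G) (j : G) : Prop where
  cen : j ∈ 𝐂(FF E)
  inv : ∀ {a}, a ∈ E → j * a * j⁻¹ = a⁻¹

namespace Ba

variable {E : Subgroup G} {a b g j : G} (h : Ba E a b) (T : Fu G)
include h

theorem act_eq {k : G} (p : g * a * g⁻¹ = k * a * k⁻¹) (q : g * b * g⁻¹ = k * b * k⁻¹) : k⁻¹ * g ∈ 𝐂(E) :=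
  h.mem_cE.2 ⟨mem_cent1.2 (by
    calc _ = k⁻¹ * (g * a * g⁻¹) * g := by group
      _ = _ := by rw [p]; group), mem_cent1.2 (by
    calc _ = k⁻¹ * (g * b * g⁻¹) * g := by group
      _ = _ := by rw [q]; group)⟩

theorem inv_all (p : g * a * g⁻¹ = a⁻¹) (q : g * b * g⁻¹ = b⁻¹) {c : G} (r : c ∈ E) : g * c * g⁻¹ = c⁻¹ := by
  obtain ⟨_, ⟨i, rfl⟩, _, ⟨k, rfl⟩, rfl⟩ := h.mem.1 r
  rw [← conj_mul, ← conj_zpow, ← conj_zpow, p, q, (Commute.zpow_zpow h.ab i k).eq]; group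

theorem sq_inv (p : g * a * g⁻¹ = b) (q : g * b * g⁻¹ = a⁻¹) {c : G} (r : c ∈ E) : g * g * c * (g * g)⁻¹ = c⁻¹ :=
  h.inv_all (by rw [← q, ← p]; group) (by
    calc _ = g * (g * b * g⁻¹) * g⁻¹ := by group
      _ = _ := by rw [q, ← conj_inv, p]) r

omit h in
theorem _root_.Cfsg.Lib.J43.Iv.norm (i : Iv E j) : j ∈ 𝐍(E) :=
  Transfer.mem_normalizer_of_conj_le (Transfer.conj_le_iff.2 fun _ p => i.inv p ▸ inv_mem p)

omit h in
theorem _root_.Cfsg.Lib.J43.Iv.nA (i : Iv E j) {c : G} (p : c ∈ E) : j ∈ 𝐍(AA E c) :=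
  norm_of_conj_eq (by rw [conj_AA' i.norm, i.inv p, AA_inv])

include T

theorem q3 (hz : zo a = 1) : ∃ q ∈ 𝐂(FF E), q * a * q⁻¹ = b ∧ q * b * q⁻¹ = a⁻¹ := by
  have c := h.card_F T
  rw [hz, orderOf_one, one_mul] at c
  have k := h.mul (mem_zpowers a)
  obtain ⟨η, p1, p2, p3, p4, -⟩ := k.eta T
  obtain ⟨θ, q1, q2, q3, q4, -⟩ := k.symm.eta T
  have a2 : a * a = a⁻¹ := eq_inv_of_mul_eq_one_left (by rw [← pow_two, ← pow_succ, h.a3])
  have e0 : η * a * η⁻¹ = a := by rw [mem_cent1.1 p1, mul_inv_cancel_right]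
  have e1 : η * θ * a * (η * θ)⁻¹ = b := by
    calc _ = η * (θ * a * θ⁻¹) * η⁻¹ := by group
      _ = a * (b * a * a) := by rw [q3, ← conj_mul, p3, e0]
      _ = b := by rw [mul_assoc b, a2, ← mul_assoc, h.ab, mul_inv_cancel_right]
  have e2 : η * θ * b * (η * θ)⁻¹ = a⁻¹ := by
    have : η * θ * (b * a) * (η * θ)⁻¹ = b * a⁻¹ := by
      calc _ = η * (θ * (b * a) * θ⁻¹) * η⁻¹ := by group
        _ = _ := by rw [mem_cent1.1 q1, mul_inv_cancel_right, p3, mul_assoc, a2]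
    rw [← conj_mul, e1, ← Commute.inv_left (h.ab)] at this
    exact mul_right_cancel this
  refine ⟨η * θ, ?_, e1, e2⟩
  have i := fun {c} => h.sq_inv e1 e2 (c := c)
  have t := cube_mul' (fun _ => h.F_sq T) c (norm_FF E p4) (norm_FF E q4) (p2 ▸ one_mem _) (q2 ▸ one_mem _)
  generalize η * θ = q at i t
  have f : ∀ c ∈ E, q ^ 4 ∈ 𝐂[c] := fun c r => mem_cent1.2 (by
    calc _ = q * q * (q * q * c * (q * q)⁻¹) * (q * q)⁻¹ * q ^ 4 := by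
          simp only [pow_succ, pow_zero, one_mul]; group
      _ = _ := by rw [i r, i (inv_mem r), inv_inv])
  have := sup_le (h.F_ab T) E_cF (h.cen_E T (h.mem_cE.2 ⟨f a h.ma, f b h.mb⟩))
  rwa [pow_succ, mul_mem_cancel_left t] at this

theorem iv3 (hz : zo a = 1) : ∃ j, Iv E j := by
  obtain ⟨q, p1, p2, p3⟩ := h.q3 T hz
  exact ⟨q * q, mul_mem p1 p1, h.sq_inv p2 p3⟩

theorem zo_all (hz : zo a = zo b) {c d : G} (k : Ba E c d) : zo c = zo d := by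
  obtain ⟨g, -, rfl, rfl⟩ := h.trans T k
  rw [zo_conj, zo_conj, hz]

theorem zo_ne (hz : zo a ≠ zo b) : zo a ≠ 1 := fun e => hz (e.trans (T.zo_one h.a3 h.a1 h.b3 h.b1 e).symm)

theorem F_le_of (hz : zo a ≠ zo b) {S : Subgroup G} (s : ∀ c ∈ E, c ≠ 1 → zo c ∈ S) : FF E ≤ S := fun f p => by
  obtain ⟨C, he⟩ := h.nc T
  obtain ⟨η, p1, -, p2, p3⟩ := C.exists_eta h.pr he
  have n : η ∈ 𝐍(E) := h.norm (by rw [mem_cent1.1 p1, mul_inv_cancel_right]; exact h.ma) (by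
    have := h.ma; have := h.mb
    rcases p3 with s | s <;> rw [s] <;> gmem)
  have key : ∀ c ∈ E, c ≠ 1 → C.π f = C.π (zo c) → f ∈ S := fun c c1 c2 e => by
    have m := h.zo_F c1
    have m' := mul_mem p m
    rw [h.FF_eq C he] at p m m'
    rw [← mul_mem_cancel_right (s c c1 c2)]
    rcases C.ker_sq m'.1 (by rw [C.mul p.1 m.1, e, Fb_sq _ m.2.2]) m'.2.1 with e | e <;> rw [e]
    exacts [one_mem _, C.z_zo ▸ s a h.ma h.a1]
  have m := h.zo_F h.mb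
  have h1 := h.conj' n
  have h2 := h1.conj' n
  rw [h.FF_eq C he] at m p
  have := m.1
  rcases Fb_tr m.2.2 (fun e => (C.ker_sq m.1 e m.2.1).elim (h.symm.zo_ne T hz.symm) fun e => hz (C.z_zo ▸ e.symm))
    p.2.2 with e | e | e | e
  · exact key a h.ma h.a1 (by rw [e, ← C.z_zo, C.πz])
  · exact key b h.mb h.b1 e
  · exact key _ h1.mb h1.b1 (by rw [zo_conj]; pis; rwa [p2])
  · exact key _ h2.mb h2.b1 (by rw [zo_conj, zo_conj]; pis; rwa [p2])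

theorem iv6 (hz : zo a ≠ zo b) : ∃ j, Iv E j := by
  obtain ⟨j, -, p, q⟩ := h.trans T h.inv.inv'
  refine ⟨j, cent_symm (B := zpowers j) ?_ (mem_zpowers j), h.inv_all p q⟩
  refine h.F_le_of T hz fun c c1 c2 => ?_
  rw [cent_zpowers, mem_cent1, eq_comm, ← mul_inv_eq_iff_eq_mul, ← zo_conj, h.inv_all p q c1,
    T.zo_eq (h.exp c1) (inv_mem (mem_zpowers c)) (inv_ne_one.2 c2)]

theorem A_St : AA E a ≤ St (AA E a) (FF E) := fun _ p => St.of_cent (h.A_ab T p) (cent_le_norm _ (AA_le' E a p))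

theorem not_St : b ∉ St (AA E a) (FF E) := fun r => by
  obtain ⟨v, q1, q2⟩ := h.ex_A T
  exact q2 (h.A_bF T q1 (by simpa only [inv_of_sq (h.A_sq T q1)] using r.2 v q1))

theorem sc1 (p : g ∈ 𝐂[a]) (q : g ∈ 𝐂(FF E)) (r : g ∈ St (AA E a) (FF E)) : g ∈ AA E a ⊔ zpowers a := by
  obtain ⟨u, p1, e, p2, rfl⟩ := (mem_sup_left_norm (h.E_nA h.ma)).1 (h.cen_F T ⟨p, q⟩)
  refine mul_mem (mem_sup_left p1) (mem_sup_right ?_)
  by_contra n
  exact (h.of h.ma h.a1 p2 n).not_St T ((mul_mem_cancel_left (h.A_St T p1)).1 r)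

theorem sc (i : Iv E j) (p : g ∈ 𝐍(zpowers a)) (q : g ∈ 𝐂(FF E)) (r : g ∈ St (AA E a) (FF E)) :
    g ∈ AA E a ⊔ zpowers a := by
  rcases zp_cases h.a3 (conj_mem_of_norm p (mem_zpowers a)) with e | e | e
  · exact absurd (conj_eq_one_iff.1 e) h.a1
  · exact h.sc1 T (mem_cent1.2 (mul_inv_eq_iff_eq_mul.1 e)) q r
  exfalso
  have m : g⁻¹ * j ∈ 𝐂[a] := mem_cent1.2 (by
    calc _ = g⁻¹ * (j * a⁻¹ * j⁻¹)⁻¹ * j := by group
      _ = (g⁻¹ * (g * a * g⁻¹) * g)⁻¹⁻¹ * (g⁻¹ * j) := by rw [i.inv (inv_mem h.ma), inv_inv, e]; group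
      _ = _ := by group)
  obtain ⟨u, p1, c, p2, e'⟩ := (mem_sup_left_norm (h.E_nA h.ma)).1
    (h.cen_F T (mem_inf.2 ⟨m, mul_mem (inv_mem q) i.cen⟩))
  have k := mul_mem r (h.A_St T p1)
  have := mul_mem k (St.conj (h.E_nA h.ma h.mb) (cent_le_norm _ (E_cF h.mb)) (inv_mem k))
  refine h.not_St T (?_ : b ∈ _)
  convert this using 1
  calc b = j * b * j⁻¹ * b⁻¹ := by
        rw [i.inv h.mb, eq_mul_inv_iff_mul_eq, eq_inv_iff_mul_eq_one, ← pow_three', h.b3]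
    _ = g * u * (c * b) * c⁻¹ * (g * u)⁻¹ * b⁻¹ := by rw [eq_inv_mul_iff_mul_eq.1 e' |>.symm]; group
    _ = _ := by rw [h.comm p2 h.mb]; group

theorem a_cA : zpowers a ≤ 𝐂(AA E a) := cent_symm (by rw [cent_zpowers]; exact AA_le E a)

theorem AA_zp {c : G} (p : c ∈ zpowers a) (c1 : c ≠ 1) : AA E c = AA E a := by
  rcases zp_cases h.a3 p with rfl | rfl | rfl
  exacts [absurd rfl c1, rfl, AA_inv _ _]

/-- the dichotomy -/
theorem dich (i : Iv E j) : 𝐂(AA E a) ≤ AA E a ⊔ zpowers a ∨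
    ((∀ v ∈ omegaOne 2 𝐂(AA E a), v * v = 1) ∧ ∀ c ∈ E, c ≠ 1 → AA E c ≤ 𝐂(AA E a)) := by
  have cF : 𝐂(AA E a) ≤ 𝐂(FF E) := cent_anti (h.F_le T)
  have N : 𝐂(AA E a) ⊓ 𝐍(zpowers a) ≤ AA E a ⊔ zpowers a := fun g p =>
    h.sc T i p.2 (cF p.1) (St.of_cent p.1 (cent_le_norm _ (cF p.1)))
  have S : Syl 3 (zpowers a) 𝐂(AA E a) := Syl.of_norm ((syl_sup (norm_of_cent (h.a_cA T)) (pg_zp h.a3)
    (n3_of_pg (h.A_pg T))).of_le (le_inf (h.a_cA T) (le_norm _)) N)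
  have B := Burnside_normal_complement S (N.trans (sup_le (cent_symm (h.a_cA T)) (abelian_cent (zp_ab a))))
  have R3 : ¬3 ∣ Nat.card 𝐎({3}ᶜ, 𝐂(AA E a)) := PiGrp.p'_iff.1 (pcore_pi _ _)
  have RA : AA E a ≤ 𝐎({3}ᶜ, 𝐂(AA E a)) := pcore_max (PiGrp.p'_iff.2 (n3_of_pg (h.A_pg T)))
    (Nml.of_cent le_rfl (h.A_ab T))
  have nR : E ≤ 𝐍(𝐎({3}ᶜ, 𝐂(AA E a))) := norm_pcore (norm_cent (h.E_nA h.ma)) _
  generalize 𝐎({3}ᶜ, 𝐂(AA E a)) = R at *
  have k1 : ∀ c ∈ E, c ≠ 1 → R ⊓ 𝐂[c] ≤ AA E c := fun c p c1 => by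
    obtain ⟨d, k⟩ := h.ex p c1
    exact le_of_p' ((le_inf inf_le_right (inf_le_left.trans (B.left_le.trans cF))).trans (k.cen_F T)) (h.E_nA p) h.pg
      fun e => R3 (e.trans (card_dvd inf_le_left))
  by_cases e : ∃ c ∈ E, c ∉ zpowers a ∧ AA E c ≤ R
  · obtain ⟨c, p, n, e⟩ := e
    have k2 : ∀ c ∈ E, c ≠ 1 → ∀ d ∈ E, d ≠ 1 → AA E d ≤ 𝐂(AA E c) := fun c' p' c1 d q d1 => by
      by_cases m : d ∈ zpowers c'
      · obtain ⟨_, k⟩ := h.ex p' c1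
        rw [k.AA_zp T m d1]; exact k.A_ab T
      · obtain ⟨g, m', rfl, rfl⟩ := (h.of h.ma h.a1 p n).trans T (h.of p' c1 q m)
        rw [← conj_AA' m', ← conj_AA' m', ← Transfer.conj_centralizer]
        exact Transfer.conj_mono g (e.trans B.left_le)
    refine Or.inr ⟨fun v q => ?_, k2 a h.ma h.a1⟩
    have k3 : R ≤ 𝐂(R) := h.gen nR R3 fun c p c1 => (k1 c p c1).trans (cent_symm (h.gen nR R3 fun d q d1 =>
      (k1 d q d1).trans (k2 c p c1 d q d1)))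
    have k4 : R ≤ omegaOne 2 R := h.gen nR R3 fun c p c1 g q => by
      obtain ⟨d, k⟩ := h.ex p c1
      exact subset_closure ⟨q.1, by rw [pow_two, k.A_sq T (k1 c p c1 q)]⟩
    have k5 : omegaOne 2 𝐂(AA E a) ≤ omegaOne 2 R := closure_mono fun g q => ⟨le_of_p' (H := zpowers g)
      (zpowers_le.2 (B.sup.ge q.1)) B.norm (pg_zp h.a3) (n3_of_pg (pg_zp q.2)) (mem_zpowers g), q.2⟩
    replace q := k5 q
    induction q using closure_induction with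
    | mem g q => rw [← pow_two, q.2]
    | one => exact mul_one 1
    | mul g k p q r s =>
      rw [mul_assoc, ← mul_assoc k, ← le_cent_iff.1 k3 g (Ohm1_le _ _ p) k (Ohm1_le _ _ q), mul_assoc, s, mul_one, r]
    | inv g p q => rwa [inv_of_sq q]
  · refine Or.inl (B.sup.ge.trans (sup_le_sup_right (h.gen nR R3 fun c p c1 => ?_) _))
    by_cases m : c ∈ zpowers a
    · exact h.AA_zp T m c1 ▸ k1 c p c1
    · obtain ⟨d, k⟩ := h.ex p c1
      exact (le_inf (k1 c p c1) inf_le_left).trans (((k.A_irr' T ((h.F_le T).trans RA) (nR k.mb)).resolve_right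
        fun r => e ⟨c, p, m, r⟩).trans (h.F_le T))

end Ba

end Cfsg.Lib.J43
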