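import Cfsg.Agent.Lib.J43.Fus

/-! # Elementary abelian subgroups of order 9 -/

set_option autoImplicit false

namespace Cfsg.Lib.J43

open Subgroup Cfsg.Lib.BG
open scoped Cfsg.Lib.Transfer

variable {G : Type*} [Group G]

/-- `a, b` is a basis of the elementary abelian group `E` of order 9 -/
structure Ba (E : Subgroup G) (a b : G) : Prop where
  a3 : a ^ 3 = 1
  a1 : a ≠ 1
  pr : Pr a b
  eq : E = zpowers a ⊔ zpowers b

theorem zp_cent {a b : G} (e : a * b = b * a) : zpowers a ≤ 𝐂(zpowers b) := by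
  rw [cent_zpowers]; exact zpowers_le.2 (mem_cent1.2 e)

theorem zp_ab (a : G) : IsMulCommutative (zpowers a) := abelian_of_cyclic inferInstance

theorem card_zp {a : G} (a3 : a ^ 3 = 1) (a1 : a ≠ 1) : Nat.card (zpowers a) = 3 := by
  rw [Nat.card_zpowers, orderOf_eq_prime a3 a1]

theorem zp_eq [Finite G] {a b : G} (a3 : a ^ 3 = 1) (h : b ∈ zpowers a) (b1 : b ≠ 1) : zpowers b = zpowers a :=
  zpowers_eq_of_prime (by rw [card_zp a3 fun e => b1 (by simpa [e] using h)]; exact Nat.prime_three) h b1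

namespace Ba

variable {E : Subgroup G} {a b g : G} (h : Ba E a b)
include h

theorem ord : orderOf a = 3 := orderOf_eq_prime h.a3 h.a1
theorem b3 : b ^ 3 = 1 := h.pr.e3
theorem b1 : b ≠ 1 := h.pr.ne
theorem ab : a * b = b * a := h.pr.comm.symm
theorem ma : a ∈ E := h.eq ▸ mem_sup_left (mem_zpowers a)
theorem mb : b ∈ E := h.eq ▸ mem_sup_right (mem_zpowers b)
theorem le {S : Subgroup G} (p : a ∈ S) (q : b ∈ S) : E ≤ S := h.eq ▸ sup_le (zpowers_le.2 p) (zpowers_le.2 q)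
theorem symm [Finite G] : Ba E b a := ⟨h.b3, h.b1, h.pr.symm h.ord, h.eq.trans (sup_comm _ _)⟩
theorem abel : IsMulCommutative E := h.eq ▸ abelian_sup (zp_ab a) (zp_ab b) (zp_cent h.ab)
theorem cent : E ≤ 𝐂(E) := abelian_cent h.abel
theorem comm {c d : G} (p : c ∈ E) (q : d ∈ E) : c * d = d * c := le_cent_iff.1 h.cent c p d q
theorem le_c {c : G} (p : c ∈ E) : E ≤ 𝐂[c] := h.cent.trans (cent_le_cent1 p)
theorem mem : g ∈ E ↔ ∃ c ∈ zpowers a, ∃ d ∈ zpowers b, c * d = g := by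
  rw [h.eq, mem_sup_left_norm (norm_of_cent (zp_cent h.ab.symm))]
theorem exp (p : g ∈ E) : g ^ 3 = 1 := by
  obtain ⟨c, p1, d, p2, rfl⟩ := h.mem.1 p
  rw [Commute.mul_pow (h.comm (zpowers_le.2 h.ma p1) (zpowers_le.2 h.mb p2)), cube_of_zp h.a3 p1, cube_of_zp h.b3 p2,
    mul_one]
theorem pg : IsPGroup 3 E := fun g => ⟨1, Subtype.ext (by simpa using h.exp g.2)⟩
theorem mem_cE : g ∈ 𝐂(E) ↔ g ∈ 𝐂[a] ∧ g ∈ 𝐂[b] := by
  rw [h.eq, cent_sup, cent_zpowers, cent_zpowers, mem_inf]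
theorem norm [Finite G] (p : g * a * g⁻¹ ∈ E) (q : g * b * g⁻¹ ∈ E) : g ∈ 𝐍(E) :=
  Transfer.mem_normalizer_of_conj_le (by
    nth_rw 1 [h.eq]
    rw [Transfer.conj_sup, Transfer.conj_zpowers, Transfer.conj_zpowers]
    exact sup_le (zpowers_le.2 p) (zpowers_le.2 q))
theorem conj (g : G) : Ba (g ⋆ E) (g * a * g⁻¹) (g * b * g⁻¹) :=
  ⟨by rw [conj_pow, h.a3, mul_one, mul_inv_cancel], fun e => h.a1 (conj_eq_one_iff.1 e), h.pr.conj g, by
    rw [h.eq, Transfer.conj_sup, Transfer.conj_zpowers, Transfer.conj_zpowers]⟩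
theorem conj' (p : g ∈ 𝐍(E)) : Ba E (g * a * g⁻¹) (g * b * g⁻¹) := by
  have := h.conj g
  rwa [conj_eq_of_norm p] at this

theorem cases (p : g ∈ E) : g ∈ zpowers a ∨ g ∈ zpowers b ∨ g ∈ zpowers (b * a) ∨ g ∈ zpowers (b * a⁻¹) := by
  obtain ⟨c, p1, d, p2, rfl⟩ := h.mem.1 p
  have e := h.ab
  have e' : a⁻¹ * b = b * a⁻¹ := Commute.inv_left e
  rcases zp_cases h.b3 p2 with rfl | rfl | rfl
  · exact Or.inl (by rwa [mul_one])
  all_goals rcases zp_cases h.a3 p1 with rfl | rfl | rfl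
  exacts [Or.inr (Or.inl (by rwa [one_mul])), Or.inr (Or.inr (Or.inl (e ▸ mem_zpowers _))),
    Or.inr (Or.inr (Or.inr (e' ▸ mem_zpowers _))), Or.inr (Or.inl (by rwa [one_mul])),
    Or.inr (Or.inr (Or.inr (inv_mem_iff.1 (by rw [mul_inv_rev, inv_inv]; exact mem_zpowers _)))),
    Or.inr (Or.inr (Or.inl (inv_mem_iff.1 (by rw [mul_inv_rev, inv_inv, inv_inv]; exact mem_zpowers _))))]

variable [Finite G]

theorem card : Nat.card E = 9 := by
  have := (SD.of_norm (norm_of_cent (zp_cent h.ab.symm)) (by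
    rw [inf_comm]
    exact inf_eq_bot_of_prime (by rw [card_zp h.b3 h.b1]; exact Nat.prime_three)
      fun e => h.pr.nmem (e (mem_zpowers b)))).card
  rw [← h.eq, card_zp h.a3 h.a1, card_zp h.b3 h.b1] at this
  exact this.symm

theorem ncyc : ¬IsCyclic E := fun e => by
  obtain ⟨c, p, q⟩ := cyclic_iff.1 e
  have := orderOf_dvd_of_pow_eq_one (h.exp p)
  rw [← Nat.card_zpowers, q, h.card] at this
  exact absurd this (by norm_num)

theorem of {c d : G} (p : c ∈ E) (c1 : c ≠ 1) (q : d ∈ E) (n : d ∉ zpowers c) : Ba E c d := by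
  have k : Ba (zpowers c ⊔ zpowers d) c d := ⟨h.exp p, c1, ⟨h.exp q, h.le_c p q, n⟩, rfl⟩
  rwa [eq_of_le_of_card_le (k.le p q) (by rw [h.card, k.card])] at k

theorem ex {c : G} (p : c ∈ E) (c1 : c ≠ 1) : ∃ d, Ba E c d := by
  by_cases n : a ∈ zpowers c
  · exact ⟨b, h.of p c1 h.mb fun e => h.pr.nmem (by rwa [zp_eq (h.exp p) n h.a1])⟩
  · exact ⟨a, h.of p c1 h.ma n⟩

theorem mul {c : G} (p : c ∈ zpowers a) : Ba E a (b * c) :=
  h.of h.ma h.a1 (mul_mem h.mb (zpowers_le.2 h.ma p)) (h.pr.mul h.a3 p).nmem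
theorem inv : Ba E a b⁻¹ := h.of h.ma h.a1 (inv_mem h.mb) h.pr.inv.nmem
theorem inv' : Ba E a⁻¹ b := h.symm.inv.symm

theorem gen {K H : Subgroup G} (n : E ≤ 𝐍(K)) (c : ¬3 ∣ Nat.card K) (k : ∀ c ∈ E, c ≠ 1 → K ⊓ 𝐂[c] ≤ H) : K ≤ H :=
  coprime_abelian_gen_cent1 h.abel h.ncyc n (by
    rw [h.card]; exact Nat.Coprime.pow_left 2 ((Nat.Prime.coprime_iff_not_dvd Nat.prime_three).2 c)) k

theorem trans1 (T : Fu G) {d : G} (k : Ba E a d) : ∃ g ∈ 𝐍(E), g * a * g⁻¹ = a ∧ g * b * g⁻¹ = d := by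
  obtain ⟨C⟩ := T.cov h.a3 h.a1
  obtain ⟨l, p, q⟩ := C.conj_K h.pr k.pr
  have e : l * a * l⁻¹ = a := by rw [mem_cent1.1 p, mul_inv_cancel_right]
  exact ⟨l, h.norm (e.symm ▸ h.ma) (q ▸ k.mb), e, q⟩

theorem trans (T : Fu G) {c d : G} (k : Ba E c d) : ∃ g ∈ 𝐍(E), g * a * g⁻¹ = c ∧ g * b * g⁻¹ = d := by
  have key : ∀ {b}, Ba E a b → c ∉ zpowers b → ∃ g ∈ 𝐍(E), g * a * g⁻¹ = c ∧ g * b * g⁻¹ = d := fun h n => by
    have h' := h.of h.mb h.b1 k.ma n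
    obtain ⟨g, p1, p2, p3⟩ := h.symm.trans1 T h'
    obtain ⟨l, q1, q2, q3⟩ := h'.symm.trans1 T k
    exact ⟨l * g, mul_mem q1 p1, by rw [← q2, ← p3]; group, by rw [← q3]; nth_rw 2 [← p2]; group⟩
  by_cases n : c ∈ zpowers b
  · have h' := h.mul (mem_zpowers a)
    obtain ⟨g, p1, p2, p3⟩ := h.trans1 T h'
    obtain ⟨l, q1, q2, q3⟩ := key h' fun e => h.symm.pr.nmem (by
      rw [← zp_eq h.b3 n k.a1, ← mul_mem_cancel_left (x := b) (by rw [zp_eq h.b3 n k.a1]; exact mem_zpowers b),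
        zp_eq h'.b3 e k.a1]
      exact mem_zpowers _)
    exact ⟨l * g, mul_mem q1 p1, by rw [← q2]; nth_rw 2 [← p2]; group, by rw [← q3, ← p3]; group⟩
  · exact key h n

end Ba

theorem Cov.exists_ba [Finite G] {x : G} (C : Cov x) : ∃ E b, Ba E x b :=
  C.exists_pr.elim fun b p => ⟨_, b, C.x3, C.x_ne, p, rfl⟩

/-- the involutions centralising `E` -/
def FF (E : Subgroup G) : Subgroup G := omegaOne 2 𝐂(E)
/-- the involutions centralising `a` and `FF E` -/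
def AA (E : Subgroup G) (a : G) : Subgroup G := omegaOne 2 (𝐂[a] ⊓ 𝐂(FF E))

theorem conj_FF (g : G) (E : Subgroup G) : g ⋆ FF E = FF (g ⋆ E) := by
  rw [FF, conj_Ohm1, Transfer.conj_centralizer]; rfl

theorem conj_AA (g : G) (E : Subgroup G) (a : G) : g ⋆ AA E a = AA (g ⋆ E) (g * a * g⁻¹) := by
  rw [AA, conj_Ohm1, Transfer.conj_inf, Transfer.conj_centralizer g (FF E), conj_cent1, conj_FF]; rfl

theorem norm_FF (E : Subgroup G) : 𝐍(E) ≤ 𝐍(FF E) := norm_Ohm1 (norm_cent le_rfl) 2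
theorem FF_le (E : Subgroup G) : FF E ≤ 𝐂(E) := Ohm1_le _ _
theorem AA_le (E : Subgroup G) (a : G) : AA E a ≤ 𝐂[a] := (Ohm1_le _ _).trans inf_le_left
theorem AA_le' (E : Subgroup G) (a : G) : AA E a ≤ 𝐂(FF E) := (Ohm1_le _ _).trans inf_le_right
theorem conj_AA' {g : G} {E : Subgroup G} (p : g ∈ 𝐍(E)) (a : G) : g ⋆ AA E a = AA E (g * a * g⁻¹) := by
  rw [conj_AA, conj_eq_of_norm p]
theorem AA_inv (E : Subgroup G) (a : G) : AA E a⁻¹ = AA E a := by rw [AA, cent1_inv]; rfl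
theorem norm_AA {E : Subgroup G} {a : G} : 𝐍(FF E) ⊓ 𝐂[a] ≤ 𝐍(AA E a) :=
  norm_Ohm1 (norm_inf (norm_cent1 inf_le_right) (norm_cent inf_le_left)) 2

end Cfsg.Lib.J43
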