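import Cfsg.Agent.Lib.J43.Ee

/-! # The 2-groups `F ≤ A` attached to `E` -/

set_option autoImplicit false
set_option linter.unusedSectionVars false

namespace Cfsg.Lib.J43

open Subgroup Cfsg.Lib.BG
open scoped Cfsg.Lib.Transfer

variable {G : Type*} [Group G]

theorem Fb_sq : ∀ m ∈ Fb, m * m = 1 := fun _ h => Ab_sq (Fb_le h)
theorem Ab_sq' : ∀ m ∈ Ab, m * m = 1 := fun _ h => Ab_sq h

theorem Fb_tr {u v : M} (hu : u ∈ Fb) (u1 : u ≠ 1) (hv : v ∈ Fb) :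
    v = 1 ∨ v = u ∨ v = my * u * my⁻¹ ∨ v = my * (my * u * my⁻¹) * my⁻¹ := by
  have e : my * (mf * mp) * my⁻¹ = mf := by
    rw [← conj_mul, yf, yp, ← inv_of_sq (Fb_sq _ (mul_mem f_mem p_mem)), mul_inv_rev, inv_of_sq p2, inv_of_sq f2,
      ← mul_assoc, p2, one_mul]
  rcases Fb_cases hu with rfl | rfl | rfl | rfl <;> rcases Fb_cases hv with rfl | rfl | rfl | rfl <;> simp_all [yf, yp]

theorem comm_of_sq {S : Subgroup G} (h : ∀ g ∈ S, g * g = 1) : S ≤ 𝐂(S) := le_cent_iff.2 fun a p b q => by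
  rw [← inv_eq_of_mul_eq_one_right (h _ (mul_mem p q)), mul_inv_rev, inv_of_sq (h a p), inv_of_sq (h b q)]

theorem pg_of_sq {S : Subgroup G} (h : ∀ g ∈ S, g * g = 1) : IsPGroup 2 S :=
  fun g => ⟨1, Subtype.ext (by simpa [pow_two] using h g g.2)⟩

namespace Cov

variable {x g : G} (C : Cov x) {S : Subgroup M} (hS : ∀ m ∈ S, m * m = 1)

theorem mem_L2 : g ∈ C.L2 S hS ↔ g ∈ 𝐂[x] ∧ g * g = 1 ∧ C.π g ∈ S := Iff.rfl
theorem z_L2 : C.z ∈ C.L2 S hS := ⟨C.zK, C.z2, C.πz ▸ one_mem _⟩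
theorem L2_le : C.L2 S hS ≤ 𝐂[x] := fun _ h => h.1

theorem exists_L2 {m : M} (h : m ∈ S) : ∃ k ∈ C.L2 S hS, C.π k = m := by
  obtain ⟨k, a, b, rfl⟩ := C.lift2 (hS m h)
  exact ⟨k, ⟨a, b, h⟩, rfl⟩

theorem mem_L2_sup (a : g ∈ 𝐂[x]) (h : C.π g ∈ S) : g ∈ C.L2 S hS ⊔ zpowers x := by
  obtain ⟨k, b, e⟩ := C.exists_L2 hS h
  obtain ⟨c, p, q, rfl⟩ := C.eq_mul a b.1 e.symm
  refine mul_mem (mem_sup_left b) (((C.ker p).1 q).elim mem_sup_right fun e => ?_)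
  exact (mul_mem_cancel_right (mem_sup_left (C.z_L2 hS))).1 (mem_sup_right e)

theorem card_L2 [Finite G] : Nat.card (C.L2 S hS) = orderOf C.z * Nat.card S := by
  rw [C.card_im (C.L2_le hS), ← Nat.card_zpowers]
  congr 1
  · refine congrArg (fun S : Subgroup G => Nat.card S) (le_antisymm (fun g ⟨a, b⟩ => ?_) (zpowers_le.2 ⟨C.mem_kr.2 ⟨C.zK, C.πz⟩, C.z_L2 hS⟩))
    rcases C.ker_sq b.1 (C.mem_kr.1 a).2 b.2.1 with rfl | rfl
    exacts [one_mem _, mem_zpowers _]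
  · refine congrArg (fun S : Subgroup M => Nat.card S) (le_antisymm (fun m a => ?_) fun m a => ?_)
    · obtain ⟨g, b, -, rfl⟩ := C.mem_im.1 a
      exact b.2.2
    · obtain ⟨g, b, rfl⟩ := C.exists_L2 hS a
      exact C.π_mem b b.1

theorem L2_iff {S' : Subgroup M} (hS' : ∀ m ∈ S', m * m = 1) (a : g ∈ C.L2 S hS) : g ∈ C.L2 S' hS' ↔ C.π g ∈ S' :=
  ⟨fun h => h.2.2, fun h => ⟨a.1, a.2.1, h⟩⟩

end Cov

namespace Ba

variable [Finite G] {E : Subgroup G} {a b g : G} (h : Ba E a b)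

section
variable (C : Cov a) (he : C.π b = me)
include h he

theorem FF_eq : FF E = C.L2 Fb Fb_sq := by
  refine le_antisymm ((closure_le _).2 fun k ⟨p, q⟩ => ?_) fun k ⟨p, q, r⟩ => subset_closure ⟨?_, by rw [pow_two, q]⟩
  · obtain ⟨p, r⟩ := h.mem_cE.1 p
    rw [pow_two] at q
    exact ⟨p, q, mem_Fb (by rw [← he, ← C.mul p h.pr.mem, mem_cent1.1 r, C.mul h.pr.mem p]) (by rw [← C.mul p p, q, C.one])⟩
  · exact h.mem_cE.2 ⟨p, mem_cent1.2 (C.comm23 p h.pr.mem q h.b3 (he ▸ Fb_e r))⟩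

theorem π_cF (p : g ∈ 𝐂[a]) (r : g ∈ 𝐂(FF E)) : ∀ m ∈ Fb, C.π g * m = m * C.π g := fun m hm => by
  obtain ⟨f, s, rfl⟩ := C.exists_L2 Fb_sq hm
  rw [← C.mul p s.1, ← mem_cent.1 r f (h.FF_eq C he ▸ s), C.mul s.1 p]

theorem AA_eq : AA E a = C.L2 Ab Ab_sq' := by
  refine le_antisymm ((closure_le _).2 fun k ⟨⟨p, r⟩, q⟩ => ?_) fun k ⟨p, q, r⟩ =>
    subset_closure ⟨⟨p, mem_cent.2 fun f s => ?_⟩, by rw [pow_two, q]⟩
  · rw [pow_two] at q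
    exact ⟨p, q, mem_Ab (h.π_cF C he p r) (by rw [← C.mul p p, q, C.one])⟩
  · rw [h.FF_eq C he] at s
    exact C.comm2 s.1 p s.2.1 q (le_cent_iff.1 (comm_of_sq Ab_sq') _ (Fb_le s.2.2) _ r)

end

variable (T : Fu G)
include h T

theorem nc : ∃ C : Cov a, C.π b = me := by
  obtain ⟨C⟩ := T.cov h.a3 h.a1
  obtain ⟨C, e, -⟩ := C.exists_norm h.pr
  exact ⟨C, e⟩

theorem F_sq (p : g ∈ FF E) : g * g = 1 := by
  obtain ⟨C, he⟩ := h.nc T
  exact (h.FF_eq C he ▸ p).2.1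
theorem A_sq (p : g ∈ AA E a) : g * g = 1 := by
  obtain ⟨C, he⟩ := h.nc T
  exact (h.AA_eq C he ▸ p).2.1
theorem F_ab : FF E ≤ 𝐂(FF E) := comm_of_sq fun _ => h.F_sq T
theorem A_ab : AA E a ≤ 𝐂(AA E a) := comm_of_sq fun _ => h.A_sq T
theorem F_pg : IsPGroup 2 (FF E) := pg_of_sq fun _ => h.F_sq T
theorem A_pg : IsPGroup 2 (AA E a) := pg_of_sq fun _ => h.A_sq T

omit h T in
theorem mem_F (p : g ∈ 𝐂(E)) (q : g * g = 1) : g ∈ FF E := subset_closure ⟨p, by rw [pow_two, q]⟩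
omit h T in
theorem mem_A (p : g ∈ 𝐂[a]) (r : g ∈ 𝐂(FF E)) (q : g * g = 1) : g ∈ AA E a := subset_closure ⟨⟨p, r⟩, by rw [pow_two, q]⟩

theorem F_le : FF E ≤ AA E a := fun _ p => mem_A (cent_le_cent1 h.ma (FF_le E p)) (h.F_ab T p) (h.F_sq T p)

omit T in
theorem zo_F {c : G} (p : c ∈ E) : zo c ∈ FF E := mem_F (mem_cent.2 fun _ q => zo_comm (h.le_c p q)) (zo_sq c)
omit h T in
theorem E_cF : E ≤ 𝐂(FF E) := cent_symm (FF_le E)
omit T in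
theorem E_nA {c : G} (p : c ∈ E) : E ≤ 𝐍(AA E c) := (le_inf (norm_of_cent E_cF) (h.le_c p)).trans norm_AA

theorem cen_F : 𝐂[a] ⊓ 𝐂(FF E) ≤ AA E a ⊔ E := fun g p => by
  obtain ⟨p, r⟩ := mem_inf.1 p
  obtain ⟨C, he⟩ := h.nc T
  obtain ⟨i, e⟩ := J43.cen_F (h.π_cF C he p r)
  have m := h.pr.mem
  have := C.mem_L2_sup Ab_sq' (g := g * b ^ i) (by gmem) (by pis; rwa [he])
  rw [← h.AA_eq C he] at this
  exact (mul_mem_cancel_right (mem_sup_right (pow_mem h.mb i))).1 (sup_le_sup_left (zpowers_le.2 h.ma) _ this)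

theorem cen_A : 𝐂[a] ⊓ 𝐂(AA E a) ≤ AA E a ⊔ zpowers a := fun g p => by
  obtain ⟨p, r⟩ := mem_inf.1 p
  obtain ⟨C, he⟩ := h.nc T
  rw [h.AA_eq C he] at r ⊢
  refine C.mem_L2_sup _ p (J43.cen_A fun m hm => ?_)
  obtain ⟨f, s, rfl⟩ := C.exists_L2 Ab_sq' hm
  rw [← C.mul p s.1, ← mem_cent.1 r f s, C.mul s.1 p]

theorem eta : ∃ η ∈ 𝐂[a], η ^ 3 = 1 ∧ η * b * η⁻¹ = b * a ∧ η ∈ 𝐍(E) ∧ η ∉ 𝐂(FF E) ∧
    ∀ v ∈ AA E a, η * v * η⁻¹ * v ∈ FF E := by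
  obtain ⟨C, he⟩ := h.nc T
  obtain ⟨η, p, q, r, s⟩ := C.exists_eta h.pr he
  have n : η ∈ 𝐍(E) := h.norm (by rw [mem_cent1.1 p, mul_inv_cancel_right]; exact h.ma) (by
    have := h.ma; have := h.mb
    rcases s with s | s <;> rw [s] <;> gmem)
  have c : η ∉ 𝐂(FF E) := fun e => f_ne_p (by rw [← yf, ← r, h.π_cF C he p e _ f_mem, mul_inv_cancel_right])
  have nA : η ∈ 𝐍(AA E a) := norm_AA ⟨norm_FF E n, p⟩
  have d : ∀ v ∈ AA E a, η * v * η⁻¹ * v ∈ FF E := fun v hv => by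
    have k := mul_mem (conj_mem_of_norm nA hv) hv
    rw [h.AA_eq C he] at hv k
    have := hv.1
    rw [h.FF_eq C he, C.L2_iff _ _ k]
    pis; rw [r]; exact Ab_yF hv.2.2
  rcases s with s | s
  · exact ⟨η, p, q, s, n, c, d⟩
  · refine ⟨η⁻¹, inv_mem p, by rw [inv_pow, q, inv_one], ?_, inv_mem n, fun e => c (inv_mem_iff.1 e), fun v hv => ?_⟩
    · calc _ = η⁻¹ * (b * a⁻¹) * (a * η) := by group
        _ = _ := by rw [← s, ← mem_cent1.1 p]; group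
    · have := conj_mem_of_norm' (norm_FF E n) (inv_mem (d v hv))
      rw [mul_inv_rev, inv_of_sq (h.A_sq T hv), inv_of_sq (h.A_sq T (conj_mem_of_norm nA hv))] at this
      convert this using 1; group

theorem cen_E : 𝐂(E) ≤ FF E ⊔ E := fun g p => by
  obtain ⟨C, he⟩ := h.nc T
  obtain ⟨η, p1, q, r, s⟩ := C.exists_eta h.pr he
  obtain ⟨p2, p3⟩ := h.mem_cE.1 p
  have m := h.pr.mem
  obtain ⟨j, i, e⟩ := J43.cen_e (x := C.π g) (by rw [← he, ← C.mul p2 m, mem_cent1.1 p3, C.mul m p2])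
  have k := C.mem_L2_sup Fb_sq (g := g * η ^ j * b ^ i) (by gmem) (by pis; rwa [he, r])
  rw [← h.FF_eq C he] at k
  replace k := sup_le_sup_left (zpowers_le.2 h.ma) _ k
  have k2 : η ^ j = 1 := by
    by_contra n
    have := sup_le (FF_le E) h.cent k
    rw [mul_mem_cancel_right (h.cent (pow_mem h.mb i)), mul_mem_cancel_left p] at this
    have := zpowers_le.2 (h.mem_cE.1 this).2 ((zp_eq q (pow_mem (mem_zpowers η) j) n).ge (mem_zpowers η))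
    rw [mem_cent1.1 this, mul_inv_cancel_right, left_eq_mul, left_eq_mul, inv_eq_one, or_self] at s
    exact h.a1 s
  rw [k2, mul_one] at k
  exact (mul_mem_cancel_right (mem_sup_right (pow_mem h.mb i))).1 k

theorem A_bF (p : g ∈ AA E a) (q : b * g * b⁻¹ * g ∈ FF E) : g ∈ FF E := by
  obtain ⟨C, he⟩ := h.nc T
  rw [h.AA_eq C he] at p
  rw [h.FF_eq C he] at q ⊢
  have := p.1; have := h.pr.mem
  exact (C.L2_iff _ _ p).2 (Ab_eF p.2.2 (by rw [← he, ← C.inv this, ← C.mul, ← C.mul, ← C.mul] <;> first | exact q.2.2 | gmem))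

theorem A_irr (p : g ∈ AA E a) (q : g ∉ FF E) {v : G} (r : v ∈ AA E a) :
    v ∈ FF E ∨ v * g ∈ FF E ∨ v * (b * g * b⁻¹) ∈ FF E ∨ v * g * (b * g * b⁻¹) ∈ FF E := by
  obtain ⟨C, he⟩ := h.nc T
  have s := conj_mem_of_norm (h.E_nA h.ma h.mb) p
  rw [h.AA_eq C he] at p r s
  rw [h.FF_eq C he] at q ⊢
  rw [C.L2_iff _ _ p] at q
  rw [C.L2_iff _ _ r, C.L2_iff _ _ (mul_mem r p), C.L2_iff _ _ (mul_mem r s), C.L2_iff _ _ (mul_mem (mul_mem r p) s)]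
  have := p.1; have := r.1; have := h.pr.mem
  pis; rw [he]
  exact Ab_irr p.2.2 q r.2.2

theorem A_irr' {S : Subgroup G} (p : FF E ≤ S) (n : b ∈ 𝐍(S)) : AA E a ⊓ S ≤ FF E ∨ AA E a ≤ S := by
  refine or_iff_not_imp_left.2 fun e v r => ?_
  obtain ⟨g, g1, g3⟩ := SetLike.not_le_iff_exists.1 e
  obtain ⟨g1, g2⟩ := mem_inf.1 g1
  have := conj_mem_of_norm n g2
  rcases h.A_irr T g1 g3 r with k | k | k | k
  exacts [p k, (mul_mem_cancel_right g2).1 (p k), (mul_mem_cancel_right this).1 (p k),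
    (mul_mem_cancel_right g2).1 ((mul_mem_cancel_right this).1 (p k))]

theorem card_A : Nat.card (AA E a) = orderOf (zo a) * 16 := by
  obtain ⟨C, he⟩ := h.nc T
  rw [h.AA_eq C he, C.card_L2, card_Ab, C.z_zo]
theorem card_F : Nat.card (FF E) = orderOf (zo a) * 4 := by
  obtain ⟨C, he⟩ := h.nc T
  rw [h.FF_eq C he, C.card_L2, card_Fb, C.z_zo]
theorem idx_F : (FF E).relIndex (AA E a) = 4 := by
  have := card_mul_relIndex (h.F_le T)
  rw [h.card_A T, h.card_F T, mul_assoc, Nat.mul_right_inj (orderOf_pos _).ne'] at this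
  omega
theorem ex_A : ∃ v ∈ AA E a, v ∉ FF E := SetLike.not_le_iff_exists.1 fun e => by
  have := h.idx_F T
  rw [relIndex_eq_one.2 e] at this; cases this

end Ba

end Cfsg.Lib.J43
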