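import Cfsg.Agent.Lib.J43.Dich
import Cfsg.Agent.S3224

/-! # Self-centralising four-groups -/

set_option autoImplicit false
set_option linter.unusedSectionVars false

namespace Cfsg.Lib.J43

open Subgroup Cfsg.Lib.BG
open scoped Cfsg.Lib.Transfer

variable {G : Type*} [Group G] [Finite G]

theorem le_or_le_of_prime {H W V : Subgroup G} (h : (H.relIndex V).Prime) (a : H ≤ W) (b : W ≤ V) : W ≤ H ∨ V ≤ W := by
  rw [← relIndex_mul_relIndex H W V a b, Nat.prime_mul_iff] at h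
  exact h.symm.imp (fun e => relIndex_eq_one.1 e.2) fun e => relIndex_eq_one.1 e.2

theorem card_zp2 {c : G} (c2 : c * c = 1) (c1 : c ≠ 1) : Nat.card (zpowers c) = 2 := by
  rw [Nat.card_zpowers, orderOf_eq_prime (by rw [pow_two, c2]) c1]

theorem zp2_cases {c g : G} (c2 : c * c = 1) (h : g ∈ zpowers c) : g = 1 ∨ g = c := by
  obtain ⟨i, rfl⟩ := h
  have e : c ^ (2 : ℤ) = 1 := by rw [zpow_two, c2]
  have := zpow_eq_zpow_emod i e
  rcases Int.emod_two_eq_zero_or_one i with h | h <;> rw [h] at this <;> simp [this]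

theorem mem_zp2 {c g : G} (h : g = 1 ∨ g = c) : g ∈ zpowers c := by
  rcases h with rfl | rfl
  exacts [one_mem _, mem_zpowers _]

theorem idx_zp2 {V : Subgroup G} {c : G} (hc : Nat.card V = 4) (p : c ∈ V) (c2 : c * c = 1) (c1 : c ≠ 1) :
    (zpowers c).relIndex V = 2 := by
  have := card_mul_relIndex (zpowers_le.2 p)
  rw [card_zp2 c2 c1, hc] at this
  omega

theorem inv_unique {r c g : G} (p : c ∈ zpowers r) (c2 : c * c = 1) (c1 : c ≠ 1) (q : g ∈ zpowers r) (g2 : g * g = 1) :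
    g ∈ zpowers c := by
  by_cases g1 : g = 1
  · exact g1 ▸ one_mem _
  · rw [cyclic_eq_of_card inferInstance (zpowers_le.2 p) (zpowers_le.2 q) (by rw [card_zp2 c2 c1, card_zp2 g2 g1])]
    exact mem_zpowers g

theorem cyc_two {T V : Subgroup G} (hT : IsPGroup 2 T) (le : V ≤ T) (h2 : ∀ v ∈ V, v * v = 1) (hc : Nat.card V = 4)
    (h : T ⊓ 𝐂(V) ≤ V) : ∃ c ∈ V, c ≠ 1 ∧ T ≤ 𝐂[c] ∧ ∃ r ∈ T, (zpowers r).relIndex T = 2 ∧ c ∈ zpowers r := by
  obtain ⟨c, p, c1⟩ := exists_ne_one (center_ne_bot_of_nil (pgroup_nil hT)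
    (ne_bot_mono (ne_bot_of_dvd Nat.prime_two (by rw [hc]; norm_num)) le))
  have m : c ∈ V := h ⟨p.1, cent_anti le p.2⟩
  have ct : T ≤ 𝐂[c] := le_cent1_iff.2 p.2
  have i := idx_zp2 hc m (h2 c m) c1
  refine ⟨c, m, c1, ct, ?_⟩
  by_cases e : T ≤ V
  · exact ⟨c, p.1, by rwa [← le_antisymm le e], mem_zpowers c⟩
  obtain ⟨u, q, n⟩ := SetLike.not_le_iff_exists.1 fun e : V ≤ zpowers c => by rw [relIndex_eq_one.2 e] at i; cases i
  have k : V ≤ zpowers c ⊔ zpowers u := (le_or_le_of_prime (i ▸ Nat.prime_two) le_sup_left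
    (sup_le (zpowers_le.2 m) (zpowers_le.2 q))).resolve_left fun e => n (e (mem_sup_right (mem_zpowers u)))
  have := Cfsg.Agent.S3224.result hT ⟨u, le q⟩ (orderOf_eq_prime (Subtype.ext (by simpa [pow_two] using h2 u q))
    fun e => n (by rw [show u = 1 from congrArg Subtype.val e]; exact one_mem _)) (by
    rw [← hc, ← subOf_card le]
    refine congrArg (fun S : Subgroup T => Nat.card S) (le_antisymm (fun g a => h ⟨g.2, cent_anti k ?_⟩)
      fun g a => mem_cent1.2 (Subtype.ext (le_cent_iff.1 (comm_of_sq h2) _ a _ q)))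
    rw [cent_sup, cent_zpowers, cent_zpowers]
    exact ⟨ct g.2, mem_cent1.2 (congrArg Subtype.val (mem_cent1.1 a))⟩)
  have k2 : ∃ r : T, orderOf r * 2 = Nat.card T := by
    rcases this with ⟨n, ⟨f⟩⟩ | ⟨n, -, a, x, -, b, -⟩ | a
    · exact ⟨f.symm (.r 1), by
        rw [MulEquiv.orderOf_eq, DihedralGroup.orderOf_r_one, Nat.card_congr f.toEquiv, DihedralGroup.nat_card, mul_comm]⟩
    · exact ⟨x, by rw [a, b, pow_succ]⟩
    · exact absurd (eq_of_le_of_card_le le (by rw [a, hc])).ge e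
  obtain ⟨r, k2⟩ := k2
  have i2 : (zpowers (r : G)).relIndex T = 2 := by
    have := card_mul_relIndex (zpowers_le.2 r.2)
    rwa [← k2, Nat.card_zpowers, orderOf_coe, Nat.mul_right_inj (orderOf_pos _).ne'] at this
  refine ⟨r, r.2, i2, by_contra fun n => e ?_⟩
  have k3 : T ≤ zpowers (r : G) ⊔ zpowers c := (le_or_le_of_prime (i2 ▸ Nat.prime_two) le_sup_left
    (sup_le (zpowers_le.2 r.2) (zpowers_le.2 p.1))).resolve_left fun e => n (e (mem_sup_right (mem_zpowers c)))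
  exact (le_inf le_rfl (abelian_cent' (abelian_sup (zp_ab _) (zp_ab c) (zp_cent (mem_cent1.1 (ct r.2)))) k3
    (le.trans k3))).trans h

theorem four_conj {T : Subgroup G} {r : G} (p : r ∈ T) (i : (zpowers r).relIndex T = 2) {V : Fin 3 → Subgroup G}
    (le : ∀ k, V k ≤ T) (h2 : ∀ k, ∀ v ∈ V k, v * v = 1) (hc : ∀ k, Nat.card (V k) = 4) :
    ∃ k l, k ≠ l ∧ ∃ g ∈ T, g ⋆ V k = V l := by
  have key : ∀ a ∈ T, ∀ b ∈ T, a * b ∈ zpowers r ↔ (a ∈ zpowers r ↔ b ∈ zpowers r) :=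
    fun a ha b hb => mul_mem_iff_of_index_two i (a := ⟨a, ha⟩) (b := ⟨b, hb⟩)
  have n : T ≤ 𝐍(zpowers r) := le_norm_iff.2 fun a ha b hb => by
    have hb' := zpowers_le.2 p hb
    rw [key _ (mul_mem ha hb') _ (inv_mem ha), key _ ha _ hb', inv_mem_iff]; tauto
  have k1 : ∀ k, ∃ c ∈ V k, c ≠ 1 ∧ c ∈ zpowers r := fun k => by
    obtain ⟨a, p1, a1⟩ := exists_ne_one (ne_bot_of_dvd Nat.prime_two (show 2 ∣ Nat.card (V k) by rw [hc]; norm_num))
    obtain ⟨b, p2, b1⟩ := SetLike.not_le_iff_exists.1 fun e : V k ≤ zpowers a => by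
      have := idx_zp2 (hc k) p1 (h2 k a p1) a1
      rw [relIndex_eq_one.2 e] at this; cases this
    by_contra! e
    exact e _ (mul_mem p1 p2) (fun e => b1 (by rw [eq_inv_of_mul_eq_one_right e]; exact inv_mem (mem_zpowers a)))
      ((key a (le k p1) b (le k p2)).2 (iff_of_false (e a p1 a1) (e b p2 fun e => b1 (e ▸ one_mem _))))
  obtain ⟨c, c0, c1, c2⟩ := k1 0
  have cc := h2 0 c c0
  have k2 : ∀ k, c ∈ V k := fun k => by
    obtain ⟨d, d0, d1, d2⟩ := k1 k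
    exact (zp2_cases cc (inv_unique c2 cc c1 d2 (h2 k d d0))).resolve_left d1 ▸ d0
  have k3 : ∀ k, ∃ u ∈ V k, u ∉ zpowers r := fun k => SetLike.not_le_iff_exists.1 fun e => by
    have := idx_zp2 (hc k) (k2 k) cc c1
    rw [relIndex_eq_one.2 fun g q => inv_unique c2 cc c1 (e q) (h2 k g q)] at this; cases this
  choose u u1 u2 using k3
  have k4 : ∀ k, V k ≤ zpowers c ⊔ zpowers (u k) := fun k => (le_or_le_of_prime (idx_zp2 (hc k) (k2 k) cc c1 ▸ Nat.prime_two)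
    le_sup_left (sup_le (zpowers_le.2 (k2 k)) (zpowers_le.2 (u1 k)))).resolve_left
      fun e => u2 k (zpowers_le.2 c2 (e (mem_sup_right (mem_zpowers _))))
  have k5 : ∀ k l, u k * u l ∈ zpowers r := fun k l => (key _ (le k (u1 k)) _ (le l (u1 l))).2 (iff_of_false (u2 k) (u2 l))
  have k6 : ∀ k l (m : ℤ), u l * u k = r ^ (2 * m) → r ^ m ⋆ V k = V l := fun k l m e => by
    refine eq_of_le_of_card_le ((Transfer.conj_mono _ (k4 k)).trans ?_) (by rw [Transfer.card_conj, hc, hc])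
    have uu := h2 k _ (u1 k)
    have s_1 : r ^ m ∈ zpowers r := zpow_mem (mem_zpowers r) m
    have ab := le_cent_iff.1 (abelian_cent (zp_ab r))
    rw [two_mul, zpow_add] at e
    generalize r ^ m = s at *
    have t := conj_mem_of_norm (n (le k (u1 k))) s_1
    rw [Transfer.conj_sup, Transfer.conj_zpowers, Transfer.conj_zpowers, ab _ s_1 _ c2, mul_inv_cancel_right]
    refine sup_le (zpowers_le.2 (k2 l)) (zpowers_le.2 ?_)
    have := zpowers_le.2 (k2 l) (inv_unique c2 cc c1 (mul_mem t s_1) (by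
      calc _ = u k * s * (u k)⁻¹ * (s * (u k * s * (u k)⁻¹)) * s := by group
        _ = u k * (s * s) * (u k)⁻¹ * (s * s) := by rw [ab _ s_1 _ t]; group
        _ = u k * u l * (u l * u k) := by rw [← e]; group
        _ = 1 := by rw [mul_assoc, ← mul_assoc (u l), h2 l _ (u1 l), one_mul, uu]))
    have e2 : s * u k * s⁻¹ = (u k * s * (u k)⁻¹ * s)⁻¹ * (s * s) * u k := by
      calc _ = s * (u k * s * (u k)⁻¹)⁻¹ * u k := by group
        _ = (u k * s * (u k)⁻¹)⁻¹ * s * u k := by rw [ab _ s_1 _ (inv_mem t)]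
        _ = _ := by rw [← ab _ s_1 _ t]; group
    rw [e2, ← e, mul_assoc, mul_assoc (u l), uu, mul_one]
    exact mul_mem (inv_mem this) (u1 l)
  obtain ⟨a, e1⟩ := k5 1 0
  obtain ⟨b, e2⟩ := k5 2 0
  have z : ∀ m : ℤ, r ^ m ∈ T := zpow_mem p
  rcases Int.even_or_odd' a with ⟨a, rfl | rfl⟩
  · exact ⟨0, 1, by decide, _, z _, k6 0 1 a e1.symm⟩
  rcases Int.even_or_odd' b with ⟨b, rfl | rfl⟩
  · exact ⟨0, 2, by decide, _, z _, k6 0 2 b e2.symm⟩
  refine ⟨1, 2, by decide, _, z _, k6 1 2 (b - a) ?_⟩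
  calc _ = u 2 * u 0 * (u 1 * u 0)⁻¹ := by rw [mul_inv_rev, inv_of_sq (h2 1 _ (u1 1))]; group
    _ = _ := by rw [← e1, ← e2]; group

end Cfsg.Lib.J43
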