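import Cfsg.Agent.Lib.J43.Three

/-! # One class of elements of order 3 -/

set_option autoImplicit false

namespace Cfsg.Lib.J43

open Subgroup Cfsg.Lib.BG
open scoped Cfsg.Lib.Transfer

variable {G : Type*} [Group G]

theorem exists_cov [Finite G] {x : G} (hx : orderOf x = 3) (hp : ⁅(⊤ : Subgroup 𝐂[x]), (⊤ : Subgroup 𝐂[x])⁆ = ⊤)
    (hZ : IsCyclic (center 𝐂[x])) (hc : Nat.card (center 𝐂[x]) = 3 ∨ Nat.card (center 𝐂[x]) = 6)
    (e : 𝐂[x] ⧸ center 𝐂[x] ≃* M) : ∃ C : Cov x, C.z = 1 → Nat.card (center 𝐂[x]) = 3 := by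
  classical
  obtain ⟨c, c1, c2⟩ := cyclic_iff.1 hZ
  have c6 : c ^ 6 = 1 := orderOf_dvd_iff_pow_eq_one.1 (by
    rw [← Nat.card_zpowers, c2]; rcases hc with h | h <;> rw [h]; norm_num)
  have z2 : c ^ 3 * c ^ 3 = 1 := by rw [← pow_add, c6]
  let x' : 𝐂[x] := ⟨x, self_mem_cent1 x⟩
  have mx : x' ∈ center 𝐂[x] := mem_center_iff.2 fun g => Subtype.ext (mem_cent1.1 g.2)
  have ox : orderOf x' = 3 := (orderOf_coe x').symm.trans hx
  have k1 : ∀ g ∈ center 𝐂[x], g ^ 3 = 1 → g ∈ zpowers x' := fun g a b => by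
    by_cases h : g = 1
    · exact h ▸ one_mem _
    · rw [← cyclic_eq_of_card hZ (zpowers_le.2 a) (zpowers_le.2 mx) (by
        rw [Nat.card_zpowers, Nat.card_zpowers, ox, orderOf_eq_prime b h])]
      exact mem_zpowers g
  have k2 : ∀ g : 𝐂[x], (g : G) ∈ zpowers x ↔ g ∈ zpowers x' := fun g =>
    ⟨fun ⟨i, h⟩ => ⟨i, Subtype.ext h⟩, fun ⟨i, h⟩ => ⟨i, congrArg Subtype.val h⟩⟩
  let f := e.toMonoidHom.comp (QuotientGroup.mk' (center 𝐂[x]))
  have fk : ∀ g, f g = 1 ↔ g ∈ center 𝐂[x] := fun g => by simp [f]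
  refine ⟨⟨fun g => if h : g ∈ 𝐂[x] then f ⟨g, h⟩ else 1, (c ^ 3 : 𝐂[x]), hx, fun {g h} a b => ?_, fun m => ?_,
    congrArg Subtype.val z2, Subtype.prop _, fun {g} a => congrArg Subtype.val
      (mem_center_iff.1 (pow_mem c1 3) ⟨g, a⟩), fun {g} a => ?_, ?_⟩, fun h => ?_⟩
  · rw [dif_pos a, dif_pos b, dif_pos (mul_mem a b), ← map_mul]; rfl
  · obtain ⟨g, rfl⟩ := (e.surjective.comp (QuotientGroup.mk'_surjective _)) m
    exact ⟨g, g.2, dif_pos g.2⟩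
  · rw [dif_pos a, fk]
    refine ⟨fun h => ?_, fun h => ?_⟩
    · obtain ⟨n, hn⟩ := (mem_zpowers_iff_mem_range_orderOf.trans Finset.mem_image).1 (c2.ge h)
      have t : (⟨g, a⟩ : 𝐂[x]) ^ 3 = (c ^ 3) ^ n := by rw [← hn.2, ← pow_mul, ← pow_mul, mul_comm]
      rcases Nat.even_or_odd' n with ⟨m, rfl | rfl⟩
      · exact Or.inl ((k2 ⟨g, a⟩).2 (k1 _ h (by rw [t, pow_mul, pow_two, z2, one_pow])))
      · refine Or.inr ((k2 (⟨g, a⟩ * c ^ 3)).2 (k1 _ (mul_mem h (pow_mem c1 3)) ?_))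
        rw [Commute.mul_pow (mem_center_iff.1 (pow_mem c1 3) _), t, ← pow_add,
          show 2 * m + 1 + 3 = 2 * (m + 2) by ring, pow_mul, pow_two, z2, one_pow]
    · exact h.elim (fun h => zpowers_le.2 mx ((k2 ⟨g, a⟩).1 h)) fun h =>
        (mul_mem_cancel_right (pow_mem c1 3)).1 (zpowers_le.2 mx ((k2 (⟨g, a⟩ * c ^ 3)).1 h))
  · rw [← Subgroup.map_subtype_commutator, commutator_def, hp, ← MonoidHom.range_eq_map, range_subtype]
  · refine hc.resolve_right fun h6 => ?_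
    have := orderOf_dvd_of_pow_eq_one (show c ^ 3 = 1 from Subtype.ext h)
    rw [← Nat.card_zpowers, c2, h6] at this
    exact absurd this (by norm_num)

theorem Cov.exists_pr {x : G} (C : Cov x) : ∃ ε, Pr x ε := by
  obtain ⟨a, ka, ea⟩ := C.surj me
  obtain ⟨s, ks, es⟩ := C.surj ms
  obtain ⟨c, kc, ec, h⟩ := C.eq_mul (g := s * a * s⁻¹) (h := a⁻¹) (by gmem) (by gmem) (by pis; rw [ea, es, se])
  have := congrArg (· ^ 3) h
  simp only [conj_pow, (Commute.mul_pow (C.cen kc ec (inv_mem ka)) 3)] at this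
  rw [C.cen (g := a ^ 3) (by gmem) (by pis; rw [ea, e3]) ks, mul_inv_cancel_right, inv_pow, eq_inv_mul_iff_mul_eq] at this
  refine ⟨a ^ 4, ?_, by gmem, fun e => e_ne ?_⟩
  · rw [← C.ker_six kc ec, ← this]; group
  · rw [← C.π_zp e, C.pow ka, ea, pow_succ, e3, one_mul]

/-- One class of elements of order 3, with centraliser `3·M₂₂` or `6·M₂₂`. -/
structure Fu (G : Type*) [Group G] : Prop where
  cov : ∀ {a : G}, a ^ 3 = 1 → a ≠ 1 → Nonempty (Cov a)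
  conj : ∀ {a b : G}, a ^ 3 = 1 → a ≠ 1 → b ^ 3 = 1 → b ≠ 1 → ∃ g, g * a * g⁻¹ = b
  exp : ∀ {P : Subgroup G}, IsPGroup 3 P → ∀ g ∈ P, g ^ 3 = 1

theorem Pr.inv {x ε : G} (h : Pr x ε) : Pr x ε⁻¹ :=
  ⟨by rw [inv_pow, h.e3, inv_one], inv_mem h.mem, fun e => h.nmem (inv_mem_iff.1 e)⟩

theorem Cov.fu [Finite G] {x g : G} (C : Cov x) (h : Pr x (g * x * g⁻¹)) : Fu G := by
  obtain ⟨U, le, S, ex, -⟩ := C.syl h
  have k0 : ∀ {u}, Pr x u → ∃ k, k * x * k⁻¹ = u := fun p => by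
    obtain ⟨l, -, e⟩ := C.conj_K h p
    exact ⟨l * g, by rw [← e]; group⟩
  have k1 : ∀ {a : G}, a ^ 3 = 1 → a ≠ 1 → ∃ k, k * x * k⁻¹ = a := fun {a} a3 a1 => by
    obtain ⟨k, -, e⟩ := S.exists_conj_le (pg_zp a3) le_top
    have m := e (Transfer.conj_mem_conj.2 (mem_zpowers a))
    suffices ∃ l, l * x * l⁻¹ = k * a * k⁻¹ from this.elim fun l e => ⟨k⁻¹ * l, by
      calc _ = k⁻¹ * (l * x * l⁻¹) * k := by group
        _ = _ := by rw [e]; group⟩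
    by_cases hz : k * a * k⁻¹ ∈ zpowers x
    · rcases zp_cases C.x3 hz with e | e | e
      · exact absurd (conj_eq_one_iff.1 e) a1
      · exact ⟨1, by rw [e]; group⟩
      · obtain ⟨l, e'⟩ := k0 h.inv
        refine ⟨g⁻¹ * l, ?_⟩
        calc _ = g⁻¹ * (l * x * l⁻¹) * g := by group
          _ = _ := by rw [e', e]; group
    · exact k0 ⟨ex _ m, le m, hz⟩
  refine ⟨fun a b => ?_, fun a b c d => ?_, fun {P} hP a ha => ?_⟩
  · obtain ⟨k, rfl⟩ := k1 a b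
    exact ⟨C.conj k⟩
  · obtain ⟨k, rfl⟩ := k1 a b
    obtain ⟨l, rfl⟩ := k1 c d
    exact ⟨l * k⁻¹, by group⟩
  · obtain ⟨k, -, e⟩ := S.exists_conj_le hP le_top
    have := ex _ (e (Transfer.conj_mem_conj.2 ha))
    rwa [conj_pow, conj_eq_one_iff] at this

theorem Cov.fu' [Finite G] {x : G} (C : Cov x) (S : Sylow 3 G) (g : G)
    (h : ((center (S : Subgroup G)).map (S : Subgroup G).subtype).map (MulAut.conj g).toMonoidHom ≤ (S : Subgroup G))
    (h' : ((center (S : Subgroup G)).map (S : Subgroup G).subtype).map (MulAut.conj g).toMonoidHom ≠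
      (center (S : Subgroup G)).map (S : Subgroup G).subtype) : Fu G := by
  obtain ⟨ε, p⟩ := C.exists_pr
  obtain ⟨U, le, T, ex, cz⟩ := C.syl p
  obtain ⟨k, -, e⟩ := T.exists_conj_eq (Syl.of_sylow_top S)
  have e1 : (center (S : Subgroup G)).map (S : Subgroup G).subtype = k ⋆ zpowers x := by
    rw [← cz, Transfer.conj_inf, Transfer.conj_centralizer, ← e]
    ext y
    exact ⟨fun ⟨a, b, c⟩ => c ▸ ⟨a.2, fun d hd => congrArg Subtype.val (mem_center_iff.1 b ⟨d, hd⟩)⟩,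
      fun ⟨a, b⟩ => ⟨⟨y, a⟩, mem_center_iff.2 fun d => Subtype.ext (b d d.2), rfl⟩⟩
  rw [e1] at h h'
  change g ⋆ (k ⋆ zpowers x) ≤ _ at h
  change g ⋆ (k ⋆ zpowers x) ≠ _ at h'
  rw [e, Transfer.le_conj_iff_inv_conj_le, Transfer.conj_conj, Transfer.conj_conj, Transfer.conj_zpowers] at h
  have m := h (mem_zpowers _)
  refine C.fu ⟨ex _ m, le m, fun hz => h' ?_⟩
  rw [Transfer.conj_eq_iff_eq_inv_conj, eq_comm, Transfer.conj_eq_iff_eq_inv_conj, eq_comm, Transfer.conj_conj, inv_inv,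
    ← Transfer.conj_inj (g := k⁻¹), Transfer.conj_conj, Transfer.conj_conj, inv_mul_cancel, Transfer.conj_one,
    Transfer.conj_zpowers, ← mul_assoc]
  exact zpowers_eq_of_prime (by rw [Nat.card_zpowers, C.ord]; exact Nat.prime_three) hz (C.conj _).x_ne

open Classical in
/-- the central involution of `C(a)` (or `1`) -/
noncomputable def zo (a : G) : G := if h : Nonempty (Cov a) then h.some.z else 1

theorem Cov.z_zo {a : G} (C : Cov a) : C.z = zo a := by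
  rw [zo, dif_pos ⟨C⟩]; exact Cov.z_eq _ C rfl

theorem zo_sq (a : G) : zo a * zo a = 1 := by
  by_cases h : Nonempty (Cov a)
  · exact h.some.z_zo ▸ h.some.z2
  · rw [zo, dif_neg h, mul_one]

theorem zo_comm {a g : G} (h : g ∈ 𝐂[a]) : g * zo a = zo a * g := by
  by_cases h' : Nonempty (Cov a)
  · exact h'.some.z_zo ▸ h'.some.zc h
  · rw [zo, dif_neg h', mul_one, one_mul]

theorem zo_mem (a : G) : zo a ∈ 𝐂[a] := mem_cent1.2 (zo_comm (self_mem_cent1 a)).symm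

theorem zo_conj (g a : G) : zo (g * a * g⁻¹) = g * zo a * g⁻¹ := by
  by_cases h : Nonempty (Cov a)
  · rw [← (h.some.conj g).z_zo, ← h.some.z_zo]; rfl
  · have : ¬Nonempty (Cov (g * a * g⁻¹)) := fun ⟨C⟩ => h ⟨by simpa [mul_assoc] using C.conj g⁻¹⟩
    rw [zo, zo, dif_neg h, dif_neg this, mul_one, mul_inv_cancel]

namespace Fu

variable (T : Fu G) {a b : G}
include T

theorem zo_eq (a3 : a ^ 3 = 1) (h : b ∈ zpowers a) (b1 : b ≠ 1) : zo b = zo a := by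
  obtain ⟨C⟩ := T.cov a3 fun e => b1 (by simpa [e] using h)
  obtain ⟨C'⟩ := T.cov (cube_of_zp a3 h) b1
  rw [← C.z_zo, ← C'.z_zo, ← C'.z_conj C (g := 1) (by simpa using h)]; simp

theorem zo_one (a3 : a ^ 3 = 1) (a1 : a ≠ 1) (b3 : b ^ 3 = 1) (b1 : b ≠ 1) (h : zo a = 1) : zo b = 1 := by
  obtain ⟨g, rfl⟩ := T.conj a3 a1 b3 b1
  rw [zo_conj, h, mul_one, mul_inv_cancel]

end Fu

end Cfsg.Lib.J43
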