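import Cfsg.Agent.Lib.J43.MF
import Cfsg.Agent.Lib.Mathieu.Classes
import Cfsg.Agent.Lib.BG.Prod

/-! # Facts on `M₂₂` used in the characterisation of `J₄` by the centraliser of an element of order 3 -/

set_option autoImplicit false
set_option maxRecDepth 100000

namespace Cfsg.Lib.J43

open Cfsg.Lib.Calc Cfsg.Lib.T2 Cfsg.Lib.Mathieu Cfsg.Lib.Grp Cfsg.Lib.Golay Subgroup

/-- the norm `d · dˣ · dˣˣ` -/
def tr {G : Type*} [Group G] (x d : G) : G := d * (x * d * x⁻¹) * (x * x * d * x⁻¹ * x⁻¹)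

/-- the Mathieu group -/
abbrev M : Type := ↥Spor.M22

theorem exists_mu : ∃ μ : ℕ → M, IsoW mm.gam μ ∧ genW μ (mm.ws 0) = ⊤ := by
  have a : ∀ c, ∃ g : M, Rep 24 5 G.pt g (mm.env c) := fun c => (mm.env_cases c).elim
    (fun e => ⟨1, e ▸ Rep.one (by decide)⟩) fun e => by
      obtain ⟨g, -, h⟩ := same22.list (mem22.list (l := mm.E) (by decide +kernel)) _ e
      exact ⟨g, h⟩
  choose μ hμ using a
  have I : IsoW mm.gam μ := mm_ok.isoW_of_rep inj_pt (faithful_P24.subgroup _) hμ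
  exact ⟨μ, I, eq_top_of_card_eq _ (((I.card_eq _).symm.trans mm_card0).trans card_M22.symm)⟩

/-- the letters -/
noncomputable def mu : ℕ → M := exists_mu.choose

theorem mI : IsoW mm.gam mu := exists_mu.choose_spec.1
theorem mT (x : M) : x ∈ genW mu (mm.ws 0) := exists_mu.choose_spec.2.ge (mem_top x)

/-- an element of order 3 -/
noncomputable def me : M := mu 1
/-- an element of order 3 commuting with `me` -/
noncomputable def my : M := mu 2
/-- an involution commuting with `me` -/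
noncomputable def mf : M := mu 3
/-- another one -/
noncomputable def mp : M := mu 4
/-- an involution of the hexad group -/
noncomputable def mb : M := mu 5
/-- inverts `me` -/
noncomputable def ms : M := mu 7
/-- an element of `O₂(C(mf))` -/
noncomputable def mt : M := mu 8
/-- moves the hexad -/
noncomputable def mg : M := mu 10
/-- `O₂(C(me))` -/
noncomputable def Fb : Subgroup M := genW mu (mm.ws 1)
/-- the hexad group -/
noncomputable def Ab : Subgroup M := genW mu (mm.ws 2)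
/-- `O₂(C(mf))` -/
noncomputable def Tb : Subgroup M := genW mu (mm.ws 3)
/-- `[O₂(C(mf)), me]` -/
noncomputable def Qb : Subgroup M := genW mu (mm.ws 4)

theorem mg' {k c : ℕ} (h : (W.l c).isIn (mm.ws k) = true) : mu c ∈ genW mu (mm.ws k) :=
  mem_genW mu (t := .l c) (W.mem_of_isIn h)

theorem e3 : me ^ 3 = 1 := (ma1 mI).1
theorem e_ne : me ≠ 1 := (ma1 mI).2.1
theorem y3 : my ^ 3 = 1 := (ma1 mI).2.2.1
theorem y_ne : my ≠ 1 := (ma1 mI).2.2.2.1
theorem ey : me * my = my * me := (ma1 mI).2.2.2.2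
theorem ord_e : orderOf me = 3 := orderOf_eq_prime e3 e_ne
theorem ord_y : orderOf my = 3 := orderOf_eq_prime y3 y_ne

theorem nine_le {S : Subgroup M} (a : me ∈ S) (b : my ∈ S) : 9 ∣ Nat.card S :=
  ((mI.card_eq _).symm.trans mm_card5).symm.dvd.trans (card_dvd_of_le (genW_le.2
    (List.forall_mem_cons.2 ⟨a, List.forall_mem_singleton.2 b⟩)))

theorem f2 : mf * mf = 1 := (mb1 mI).1
theorem p2 : mp * mp = 1 := (mb1 mI).2.1
theorem f_ne : mf ≠ 1 := (mb1 mI).2.2.2.1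
theorem p_ne : mp ≠ 1 := (mb1 mI).2.2.2.2.1
theorem f_ne_p : mf ≠ mp := (mb1 mI).2.2.2.2.2.1
theorem yf : my * mf * my⁻¹ = mp := (mb1 mI).2.2.2.2.2.2.2.2.1
theorem yp : my * mp * my⁻¹ = mf * mp := (mb1 mI).2.2.2.2.2.2.2.2.2
theorem f_mem : mf ∈ Fb := mg' (by decide)
theorem p_mem : mp ∈ Fb := mg' (by decide)
theorem mem_Fb {x : M} (h : x * me = me * x) (h2 : x * x = 1) : x ∈ Fb := mb2 mI x (mT x) h h2
theorem Fb_cases {x : M} (h : x ∈ Fb) : x = 1 ∨ x = mf ∨ x = mp ∨ x = mf * mp := mb3 mI x h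
theorem Fb_e {x : M} (h : x ∈ Fb) : x * me = me * x := by
  have a : Commute mf me := (mb1 mI).2.2.2.2.2.2.1
  have b : Commute mp me := (mb1 mI).2.2.2.2.2.2.2.1
  rcases Fb_cases h with rfl | rfl | rfl | rfl
  exacts [by simp, a, b, a.mul_left b]
theorem cen_e {x : M} (h : x * me = me * x) : ∃ j i : ℕ, x * my ^ j * me ^ i ∈ Fb := by
  rcases mb4 mI x (mT x) h with h | h | h | h | h | h | h | h | h <;> exact ⟨_, _, h⟩
theorem card_Fb : Nat.card Fb = 4 := (mI.card_eq _).symm.trans mm_card1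
theorem card_Ab : Nat.card Ab = 16 := (mI.card_eq _).symm.trans mm_card2

theorem Fb_le : Fb ≤ Ab := genW_mono _ (subset_of_all_isIn (by decide))
theorem Ab_le : Ab ≤ Tb := genW_mono _ (subset_of_all_isIn (by decide))
theorem Ab_sq {x : M} (h : x ∈ Ab) : x * x = 1 := (mc1 mI x h).1
theorem Ab_e {x : M} (h : x ∈ Ab) : me * x * me⁻¹ ∈ Ab := (mc1 mI x h).2.1
theorem Ab_y {x : M} (h : x ∈ Ab) : my * x * my⁻¹ ∈ Ab := (mc1 mI x h).2.2.1
theorem Ab_yF {x : M} (h : x ∈ Ab) : my * x * my⁻¹ * x ∈ Fb := (mc1 mI x h).2.2.2.1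
theorem Ab_eF {x : M} (h : x ∈ Ab) (h' : me * x * me⁻¹ * x ∈ Fb) : x ∈ Fb := (mc1 mI x h).2.2.2.2 h'
theorem cen_F {x : M} (h : ∀ a ∈ Fb, x * a = a * x) : ∃ i : ℕ, x * me ^ i ∈ Ab := by
  rcases (mc2 mI x (mT x) (h _ f_mem) (h _ p_mem)).1 with h | h | h
  exacts [⟨0, by rw [pow_zero, mul_one]; exact h⟩, ⟨1, by rw [pow_one]; exact h⟩,
    ⟨2, by rw [pow_two, ← mul_assoc]; exact h⟩]
theorem mem_Ab {x : M} (h : ∀ a ∈ Fb, x * a = a * x) (h2 : x * x = 1) : x ∈ Ab :=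
  (mc2 mI x (mT x) (h _ f_mem) (h _ p_mem)).2 h2
theorem b_mem : mb ∈ Ab := mg' (by decide)
theorem cen_A {x : M} (h : ∀ a ∈ Ab, x * a = a * x) : x ∈ Ab :=
  mc3 mI x (mT x) (h _ (Fb_le f_mem)) (h _ (Fb_le p_mem)) (h _ b_mem) (h _ (mg' (by decide)))
theorem Ab_irr {x v : M} (h : x ∈ Ab) (h' : x ∉ Fb) (hv : v ∈ Ab) :
    v ∈ Fb ∨ v * x ∈ Fb ∨ v * (me * x * me⁻¹) ∈ Fb ∨ v * x * (me * x * me⁻¹) ∈ Fb := mc5 mI x h h' v hv
theorem b_nmem : mb ∉ Fb := (mc6 mI).1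
theorem tr_b : tr me mb = 1 := (mc6 mI).2.1

theorem se : ms * me * ms⁻¹ = me⁻¹ := (md1 mI).1
theorem sf : ms * mf = mf * ms := (md1 mI).2.1
theorem t_mem : mt ∈ Tb := (md1 mI).2.2.1
theorem t_nmem : mt ∉ Ab := (md1 mI).2.2.2
theorem Tb_sq {x : M} (h : x ∈ Tb) : x * x ∈ Ab := (md2 mI x h).1
theorem Tb_f {x : M} (h : x ∈ Tb) : x * mf = mf * x := (md2 mI x h).2.1
theorem Tb_e {x : M} (h : x ∈ Tb) : me * x * me⁻¹ ∈ Tb := (md2 mI x h).2.2.1
theorem Tb_s {x : M} (h : x ∈ Tb) : ms * x * ms⁻¹ ∈ Tb := (md2 mI x h).2.2.2.1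
theorem Tb_A {x v : M} (h : x ∈ Tb) (hv : v ∈ Ab) : x * v * x⁻¹ ∈ Ab := ((md2 mI x h).2.2.2.2.1 v hv).1
theorem Tb_B {x v : M} (h : x ∈ Tb) (hv : v ∈ Ab) (e : tr me v = 1) : x * v * x⁻¹ = v ∨ x * v * x⁻¹ = v * mf :=
  ((md2 mI x h).2.2.2.2.1 v hv).2 e
theorem Tb_comm {x v : M} (h : x ∈ Tb) (hv : v ∈ Tb) : x * v * x⁻¹ * v⁻¹ ∈ Ab := ((md2 mI x h).2.2.2.2.2 v hv).1
theorem Tb_irr {x v : M} (h : x ∈ Tb) (h' : x ∉ Ab) (hv : v ∈ Tb) : v ∈ Ab ∨ v * x ∈ Ab ∨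
    v * (me * x * me⁻¹) ∈ Ab ∨ v * (me * me * x * me⁻¹ * me⁻¹) ∈ Ab := ((md2 mI x h).2.2.2.2.2 v hv).2 h'
theorem Tb_gen {S : Subgroup M} (h : Tb ≤ S) (h1 : ∀ x ∈ Tb, my * x * my⁻¹ ∈ S)
    (h2 : ∀ x ∈ Tb, my * my * x * my⁻¹ * my⁻¹ ∈ S) : me ∈ S ∧ my ∈ S := by
  have m : ∀ {c}, (W.l c).isIn (mm.ws 3) = true → mu c ∈ Tb := mg'
  have : genW mu (mm.ws 6) ≤ S := genW_le.2 (by
    simp only [PM.ws, mm, List.getD_cons_succ, List.getD_cons_zero, List.forall_mem_cons]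
    exact ⟨h (m (by decide)), h (m (by decide)), h (m (by decide)), h (m (by decide)), h (m (by decide)),
      h (m (by decide)), h1 _ (m (c := 8) (by decide)), h1 _ (m (c := 9) (by decide)), h2 _ (m (c := 8) (by decide)),
      fun _ h => nomatch h⟩)
  exact ⟨this (md3 mI).1, this (md3 mI).2⟩

theorem g_e {x : M} (h : x ∈ Ab) : mg⁻¹ * me * mg * x * (mg⁻¹ * me * mg)⁻¹ ∈ Ab := (mg1 mI x h).1
theorem g_y {x : M} (h : x ∈ Ab) : mg⁻¹ * my * mg * x * (mg⁻¹ * my * mg)⁻¹ ∈ Ab := (mg1 mI x h).2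
theorem top_of_nm {S : Subgroup M} (a : mu 11 ∈ S) (b : mu 12 ∈ S) (x : M) : x ∈ S :=
  (genW_le.2 (List.forall_mem_cons.2 ⟨a, List.forall_mem_singleton.2 b⟩) : genW mu (mm.ws 0) ≤ S) (mT x)
theorem g_gen {S : Subgroup M} (h : ∀ a ∈ Fb, ∀ x ∈ Ab, a * mg * x * (a * mg)⁻¹ ∈ S) (x : M) : x ∈ S := by
  have f : mf⁻¹ = mf := inv_eq_of_mul_eq_one_right f2
  have p : mp⁻¹ = mp := inv_eq_of_mul_eq_one_right p2
  have : genW mu (mm.ws 7) ≤ S := genW_le.2 (by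
    simp only [PM.ws, mm, List.getD_cons_succ, List.getD_cons_zero, List.forall_mem_cons]
    refine ⟨?_, ?_, ?_, ?_, fun _ h => nomatch h⟩
    · have := h 1 (one_mem _) _ (Fb_le f_mem)
      rw [one_mul] at this; exact this
    · have := h _ f_mem _ (Fb_le f_mem)
      rw [mul_inv_rev, f, ← mul_assoc] at this; exact this
    · have := h _ p_mem _ (Fb_le f_mem)
      rw [mul_inv_rev, p, ← mul_assoc] at this; exact this
    · have := h _ (mul_mem f_mem p_mem) _ (Fb_le p_mem)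
      rw [mul_inv_rev, mul_inv_rev, f, p, ← mul_assoc, ← mul_assoc] at this; exact this)
  exact top_of_nm (this (mg2 mI).1) (this (mg2 mI).2) x
theorem n_gen {S : Subgroup M} (h : ∀ m, Commute (m * me * m⁻¹) me → m ∈ S) (x : M) : x ∈ S :=
  top_of_nm (h _ (by rw [show mu 11 * me * (mu 11)⁻¹ = me * my from (mn1 mI).1]; exact (Commute.refl _).mul_left ey.symm))
    (h _ (by rw [show mu 12 * me * (mu 12)⁻¹ = my from (mn1 mI).2]; exact ey.symm)) x

theorem mem_Qb {x : M} (h : x * mf = mf * x) (h2 : x * x = 1 ∨ x * x = mf) (h3 : tr me x = 1 ∨ tr me x = mf) :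
    x ∈ Qb := mh1 mI x (mT x) h h2 h3
theorem Qb_comm {x v : M} (h : x ∈ Qb) (hv : v ∈ Qb) : x * v = v * x ∨ x * v = v * x * mf := ((mh2 mI).2 x h).2 v hv
theorem Qb_nd {x v : M} (h : x ∈ Qb) (h2 : x * x = 1) (h1 : x ≠ 1) (h3 : tr me x = 1) (hv : v ∈ Qb) (v2 : v * v = 1)
    (v1 : v ≠ 1) (v3 : tr me v = 1) (a : v ≠ x) (b : v ≠ me * x * me⁻¹) (c : v ≠ me * me * x * me⁻¹ * me⁻¹) :
    (x * v ≠ v * x ∨ x * (me * v * me⁻¹) ≠ me * v * me⁻¹ * x) ∧ ∀ S : Subgroup M, mf ∈ S → x ∈ S → me * x * me⁻¹ ∈ S →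
      v ∈ S → me * v * me⁻¹ ∈ S → Qb ≤ S := by
  obtain ⟨p, q⟩ := mh3 mI x h h2 h1 h3 v hv v2 v1 v3 a b c
  refine ⟨p, fun S s0 s1 s2 s3 s4 w hw => ?_⟩
  replace q := q w hw
  clear hw hv h p
  change mu 3 ∈ S at s0
  change mu 1 * x * (mu 1)⁻¹ ∈ S at s2
  change mu 1 * v * (mu 1)⁻¹ ∈ S at s4
  generalize mu 1 * x * (mu 1)⁻¹ = k at q s2
  generalize mu 1 * v * (mu 1)⁻¹ = l at q s4
  generalize mu 3 = f at q s0
  repeat' rcases q with rfl | q
  all_goals repeat first | assumption | exact one_mem _ | refine mul_mem ?_ (by assumption)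
theorem cen_f {x : M} (h : x * mf = mf * x) :
    ∃ v ∈ Qb, v * x * me * (v * x)⁻¹ = me ∨ v * x * me * (v * x)⁻¹ = me⁻¹ := mh4 mI x (mT x) h

theorem conj_of_ord {n : ℕ} {c : ℕ × ℕ}
    (e : c22.filter (fun p => bor (Nat.beq (ordT p.1) 0) (Nat.beq (ordT p.1) n)) = [c]) {x y : M}
    (hx : orderOf x = n) (hy : orderOf y = n) : ∃ k, k * x * k⁻¹ = y := by
  have key : ∀ x : M, orderOf x = n → ∃ k, k * dec (Rep 24 5 G.pt) c.1 * k⁻¹ = x := fun x hx => by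
    obtain ⟨p, hp, k, -, h⟩ := clsS22.mem_cl_of (P := fun x => orderOf x = n)
      (t := fun p => bor (Nat.beq (ordT p.1) 0) (Nat.beq (ordT p.1) n))
      (fun x _ k _ h => (orderOf_conj' k x).symm.trans h) (fun x _ p hp _ h => bor_eq_true.2 (by
        by_cases h0 : ordT p.1 = 0
        · exact Or.inl (beq_iff.2 h0)
        · exact Or.inr (beq_iff.2 ((Rp.orderOf_eq (g := x) hp h0).symm.trans ((orderOf_coe x).trans h)))))
      (mem_top x) hx
    rw [e, List.mem_singleton] at hp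
    exact ⟨k, hp ▸ h⟩
  obtain ⟨k, rfl⟩ := key x hx
  obtain ⟨k', rfl⟩ := key y hy
  exact ⟨k' * k⁻¹, by group⟩

theorem conj2 {x y : M} (hx : x * x = 1) (x1 : x ≠ 1) (hy : y * y = 1) (y1 : y ≠ 1) : ∃ k, k * x * k⁻¹ = y :=
  conj_of_ord (n := 2) (c := (978327873653409370553588877167592512, 384)) (by decide +kernel)
    (orderOf_eq_prime (by rw [pow_two, hx]) x1) (orderOf_eq_prime (by rw [pow_two, hy]) y1)

theorem conj3 {x y : M} (hx : x ^ 3 = 1) (x1 : x ≠ 1) (hy : y ^ 3 = 1) (y1 : y ≠ 1) : ∃ k, k * x * k⁻¹ = y :=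
  have : Fact (Nat.Prime 3) := ⟨Nat.prime_three⟩
  conj_of_ord (n := 3) (c := (983434085199926273856062762812214336, 36)) (by decide +kernel)
    (orderOf_eq_prime hx x1) (orderOf_eq_prime hy y1)

theorem pow24 {x a : M} (ha : a * a = 1) (a1 : a ≠ 1) (h : x * a = a * x) : x ^ 24 = 1 := by
  obtain ⟨k, rfl⟩ := conj2 f2 f_ne ha a1
  have := mi1 mI (k⁻¹ * x * k) (mT _) (show _ * mf = mf * _ by
    calc _ = k⁻¹ * (x * (k * mf * k⁻¹)) * k := by group
      _ = _ := by rw [h]; group)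
  have e := conj_pow (a := k⁻¹) (b := x) (i := 24)
  rw [inv_inv, this] at e
  simpa [mul_assoc, inv_mul_eq_one, eq_comm] using e

theorem card_le_16 {Z : Subgroup M} (h : ∀ a ∈ Z, a * a = 1) : Nat.card Z ≤ 16 := by
  classical
  by_contra hc
  have : Fact (Nat.Prime 2) := ⟨Nat.prime_two⟩
  obtain ⟨n, hn⟩ := IsPGroup.iff_card.1 (show IsPGroup 2 Z from fun a => ⟨1, Subtype.ext (by simpa [pow_two] using h a a.2)⟩)
  obtain ⟨Y, hY⟩ := Sylow.exists_subgroup_card_pow_prime (G := Z) 2 (n := 5) (hn ▸ pow_dvd_pow 2 (by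
    by_contra e
    exact hc (hn ▸ (Nat.pow_le_pow_right two_pos (by omega : n ≤ 4)))))
  have := Fintype.ofFinite Y
  have := Fintype.ofFinite (Quotient (MulAction.orbitRel Y GolayPt))
  have b := MulAction.sum_card_fixedBy_eq_card_orbits_mul_card_group Y GolayPt
  have c : ∀ a : Y, Fintype.card (MulAction.fixedBy GolayPt a) = 8 + if a = 1 then 16 else 0 := fun a => by
    have e : Fintype.card (MulAction.fixedBy GolayPt a) = (fixP (a.1.1 : P24)).card := by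
      rw [Fintype.card_subtype]; rfl
    rw [e]
    split_ifs with h1
    · subst h1; simp [fixP]
    · have o : orderOf (a.1.1 : P24) = 2 := orderOf_eq_prime (by
        rw [pow_two]; exact congrArg Subtype.val (h _ a.1.2)) fun e => h1 (Subtype.ext (Subtype.ext (Subtype.ext e)))
      have := card_fixP_mem (a := 2) (l := [0, 8]) (by decide +kernel) (M22_le a.1.1.2) o
      have h0 : (fixP (a.1.1 : P24)).card ≠ 0 := fun e => fixP_card_eq_zero.1 e _ a.1.1.2.2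
      simpa [h0] using this
  rw [Finset.sum_congr rfl fun a _ => c a, Finset.sum_add_distrib, Finset.sum_ite_eq', Finset.sum_const,
    Finset.card_univ, ← Nat.card_eq_fintype_card (α := Y), hY] at b
  simp at b
  omega

end Cfsg.Lib.J43
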