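import Cfsg.Agent.Lib.J43.MD

/-! Facts in the permutation model of `M₂₂` (generated). -/

set_option autoImplicit false
set_option maxRecDepth 100000

namespace Cfsg.Lib.J43

open Cfsg.Lib.Calc

open Cfsg.Lib.T2

theorem ma1_ev : mm.eval (.and (.one (.pow (.l 1) 3)) (.and (.not (.one (.l 1))) (.and (.one (.pow (.l 2) 3)) (.and (.not (.one (.l 2))) (.eq (.mul (.l 1) (.l 2)) (.mul (.l 2) (.l 1))))))) = true := by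
  decide +kernel

theorem ma1 {G : Type*} [Group G] {γ : ℕ → G} (h : IsoW mm.gam γ) :
    γ 1 ^ 3 = 1 ∧ γ 1 ≠ 1 ∧ γ 2 ^ 3 = 1 ∧ γ 2 ≠ 1 ∧ γ 1 * γ 2 = γ 2 * γ 1 :=
  mm_ok.transfer h ma1_ev

theorem mb1_ev : mm.eval (.and (.one (.mul (.l 3) (.l 3))) (.and (.one (.mul (.l 4) (.l 4))) (.and (.eq (.mul (.l 3) (.l 4)) (.mul (.l 4) (.l 3))) (.and (.not (.one (.l 3))) (.and (.not (.one (.l 4))) (.and (.not (.eq (.l 3) (.l 4))) (.and (.eq (.mul (.l 3) (.l 1)) (.mul (.l 1) (.l 3))) (.and (.eq (.mul (.l 4) (.l 1)) (.mul (.l 1) (.l 4))) (.and (.eq (.mul (.mul (.l 2) (.l 3)) (.inv (.l 2))) (.l 4)) (.eq (.mul (.mul (.l 2) (.l 4)) (.inv (.l 2))) (.mul (.l 3) (.l 4)))))))))))) = true := by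
  decide +kernel

theorem mb1 {G : Type*} [Group G] {γ : ℕ → G} (h : IsoW mm.gam γ) :
    γ 3 * γ 3 = 1 ∧ γ 4 * γ 4 = 1 ∧ γ 3 * γ 4 = γ 4 * γ 3 ∧ γ 3 ≠ 1 ∧ γ 4 ≠ 1 ∧ γ 3 ≠ γ 4 ∧ γ 3 * γ 1 = γ 1 * γ 3 ∧ γ 4 * γ 1 = γ 1 * γ 4 ∧ γ 2 * γ 3 * (γ 2)⁻¹ = γ 4 ∧ γ 2 * γ 4 * (γ 2)⁻¹ = γ 3 * γ 4 :=
  mm_ok.transfer h mb1_ev

theorem mb2_ev : mm.eval (.all 0 40 [(.l 1, .l 1)] (.imp (.one (.mul (.l 40) (.l 40))) (.mem 1 (.l 40)))) = true := by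
  decide +kernel

theorem mb2 {G : Type*} [Group G] {γ : ℕ → G} (h : IsoW mm.gam γ) :
    ∀ x ∈ genW γ (mm.ws 0), x * γ 1 = γ 1 * x → x * x = 1 → x ∈ genW γ (mm.ws 1) :=
  mm_ok.transfer h mb2_ev

theorem mb3_ev : mm.eval (.all 1 40 [] (.or (.one (.l 40)) (.or (.eq (.l 40) (.l 3)) (.or (.eq (.l 40) (.l 4)) (.eq (.l 40) (.mul (.l 3) (.l 4))))))) = true := by
  decide +kernel

theorem mb3 {G : Type*} [Group G] {γ : ℕ → G} (h : IsoW mm.gam γ) :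
    ∀ x ∈ genW γ (mm.ws 1), x = 1 ∨ x = γ 3 ∨ x = γ 4 ∨ x = γ 3 * γ 4 :=
  mm_ok.transfer h mb3_ev

theorem mb4_ev : mm.eval (.all 0 40 [(.l 1, .l 1)] (.or (.mem 1 (.mul (.mul (.l 40) (.pow (.l 2) 0)) (.pow (.l 1) 0))) (.or (.mem 1 (.mul (.mul (.l 40) (.pow (.l 2) 0)) (.pow (.l 1) 1))) (.or (.mem 1 (.mul (.mul (.l 40) (.pow (.l 2) 0)) (.pow (.l 1) 2))) (.or (.mem 1 (.mul (.mul (.l 40) (.pow (.l 2) 1)) (.pow (.l 1) 0))) (.or (.mem 1 (.mul (.mul (.l 40) (.pow (.l 2) 1)) (.pow (.l 1) 1))) (.or (.mem 1 (.mul (.mul (.l 40) (.pow (.l 2) 1)) (.pow (.l 1) 2))) (.or (.mem 1 (.mul (.mul (.l 40) (.pow (.l 2) 2)) (.pow (.l 1) 0))) (.or (.mem 1 (.mul (.mul (.l 40) (.pow (.l 2) 2)) (.pow (.l 1) 1))) (.mem 1 (.mul (.mul (.l 40) (.pow (.l 2) 2)) (.pow (.l 1) 2)))))))))))) = true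 := by
  decide +kernel

theorem mb4 {G : Type*} [Group G] {γ : ℕ → G} (h : IsoW mm.gam γ) :
    ∀ x ∈ genW γ (mm.ws 0), x * γ 1 = γ 1 * x → x * γ 2 ^ 0 * γ 1 ^ 0 ∈ genW γ (mm.ws 1) ∨ x * γ 2 ^ 0 * γ 1 ^ 1 ∈ genW γ (mm.ws 1) ∨ x * γ 2 ^ 0 * γ 1 ^ 2 ∈ genW γ (mm.ws 1) ∨ x * γ 2 ^ 1 * γ 1 ^ 0 ∈ genW γ (mm.ws 1) ∨ x * γ 2 ^ 1 * γ 1 ^ 1 ∈ genW γ (mm.ws 1) ∨ x * γ 2 ^ 1 * γ 1 ^ 2 ∈ genW γ (mm.ws 1) ∨ x * γ 2 ^ 2 * γ 1 ^ 0 ∈ genW γ (mm.ws 1) ∨ x * γ 2 ^ 2 * γ 1 ^ 1 ∈ genW γ (mm.ws 1) ∨ x * γ 2 ^ 2 * γ 1 ^ 2 ∈ genW γ (mm.ws 1) :=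
  mm_ok.transfer h mb4_ev

theorem mc1_ev : mm.eval (.all 2 40 [] (.and (.one (.mul (.l 40) (.l 40))) (.and (.mem 2 (.mul (.mul (.l 1) (.l 40)) (.inv (.l 1)))) (.and (.mem 2 (.mul (.mul (.l 2) (.l 40)) (.inv (.l 2)))) (.and (.mem 1 (.mul (.mul (.mul (.l 2) (.l 40)) (.inv (.l 2))) (.l 40))) (.imp (.mem 1 (.mul (.mul (.mul (.l 1) (.l 40)) (.inv (.l 1))) (.l 40))) (.mem 1 (.l 40)))))))) = true := by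
  decide +kernel

theorem mc1 {G : Type*} [Group G] {γ : ℕ → G} (h : IsoW mm.gam γ) :
    ∀ x ∈ genW γ (mm.ws 2), x * x = 1 ∧ γ 1 * x * (γ 1)⁻¹ ∈ genW γ (mm.ws 2) ∧ γ 2 * x * (γ 2)⁻¹ ∈ genW γ (mm.ws 2) ∧ γ 2 * x * (γ 2)⁻¹ * x ∈ genW γ (mm.ws 1) ∧ (γ 1 * x * (γ 1)⁻¹ * x ∈ genW γ (mm.ws 1) → x ∈ genW γ (mm.ws 1)) :=
  mm_ok.transfer h mc1_ev

theorem mc2_ev : mm.eval (.all 0 40 [(.l 3, .l 3), (.l 4, .l 4)] (.and (.or (.mem 2 (.l 40)) (.or (.mem 2 (.mul (.l 40) (.l 1))) (.mem 2 (.mul (.mul (.l 40) (.l 1)) (.l 1))))) (.imp (.one (.mul (.l 40) (.l 40))) (.mem 2 (.l 40))))) = true := by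
  decide +kernel

theorem mc2 {G : Type*} [Group G] {γ : ℕ → G} (h : IsoW mm.gam γ) :
    ∀ x ∈ genW γ (mm.ws 0), x * γ 3 = γ 3 * x → x * γ 4 = γ 4 * x → (x ∈ genW γ (mm.ws 2) ∨ x * γ 1 ∈ genW γ (mm.ws 2) ∨ x * γ 1 * γ 1 ∈ genW γ (mm.ws 2)) ∧ (x * x = 1 → x ∈ genW γ (mm.ws 2)) :=
  mm_ok.transfer h mc2_ev

theorem mc3_ev : mm.eval (.all 0 40 [(.l 3, .l 3), (.l 4, .l 4), (.l 5, .l 5), (.l 6, .l 6)] (.mem 2 (.l 40))) = true := by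
  decide +kernel

theorem mc3 {G : Type*} [Group G] {γ : ℕ → G} (h : IsoW mm.gam γ) :
    ∀ x ∈ genW γ (mm.ws 0), x * γ 3 = γ 3 * x → x * γ 4 = γ 4 * x → x * γ 5 = γ 5 * x → x * γ 6 = γ 6 * x → x ∈ genW γ (mm.ws 2) :=
  mm_ok.transfer h mc3_ev

theorem mc5_ev : mm.eval (.all 2 40 [] (.imp (.not (.mem 1 (.l 40))) (.all 2 41 [] (.or (.mem 1 (.l 41)) (.or (.mem 1 (.mul (.l 41) (.l 40))) (.or (.mem 1 (.mul (.l 41) (.mul (.mul (.l 1) (.l 40)) (.inv (.l 1))))) (.mem 1 (.mul (.mul (.l 41) (.l 40)) (.mul (.mul (.l 1) (.l 40)) (.inv (.l 1))))))))))) = true := by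
  decide +kernel

theorem mc5 {G : Type*} [Group G] {γ : ℕ → G} (h : IsoW mm.gam γ) :
    ∀ x ∈ genW γ (mm.ws 2), x ∉ genW γ (mm.ws 1) → ∀ v ∈ genW γ (mm.ws 2), v ∈ genW γ (mm.ws 1) ∨ v * x ∈ genW γ (mm.ws 1) ∨ v * (γ 1 * x * (γ 1)⁻¹) ∈ genW γ (mm.ws 1) ∨ v * x * (γ 1 * x * (γ 1)⁻¹) ∈ genW γ (mm.ws 1) :=
  mm_ok.transfer h mc5_ev

theorem mc6_ev : mm.eval (.and (.not (.mem 1 (.l 5))) (.and (.one (.mul (.mul (.l 5) (.mul (.mul (.l 1) (.l 5)) (.inv (.l 1)))) (.mul (.mul (.mul (.mul (.l 1) (.l 1)) (.l 5)) (.inv (.l 1))) (.inv (.l 1))))) (.eq (.l 6) (.mul (.mul (.l 1) (.l 5)) (.inv (.l 1)))))) = true := by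
  decide +kernel

theorem mc6 {G : Type*} [Group G] {γ : ℕ → G} (h : IsoW mm.gam γ) :
    γ 5 ∉ genW γ (mm.ws 1) ∧ γ 5 * (γ 1 * γ 5 * (γ 1)⁻¹) * (γ 1 * γ 1 * γ 5 * (γ 1)⁻¹ * (γ 1)⁻¹) = 1 ∧ γ 6 = γ 1 * γ 5 * (γ 1)⁻¹ :=
  mm_ok.transfer h mc6_ev

theorem md1_ev : mm.eval (.and (.eq (.mul (.mul (.l 7) (.l 1)) (.inv (.l 7))) (.inv (.l 1))) (.and (.eq (.mul (.l 7) (.l 3)) (.mul (.l 3) (.l 7))) (.and (.mem 3 (.l 8)) (.not (.mem 2 (.l 8)))))) = true := by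
  decide +kernel

theorem md1 {G : Type*} [Group G] {γ : ℕ → G} (h : IsoW mm.gam γ) :
    γ 7 * γ 1 * (γ 7)⁻¹ = (γ 1)⁻¹ ∧ γ 7 * γ 3 = γ 3 * γ 7 ∧ γ 8 ∈ genW γ (mm.ws 3) ∧ γ 8 ∉ genW γ (mm.ws 2) :=
  mm_ok.transfer h md1_ev

theorem md2_ev : mm.eval (.all 3 40 [] (.and (.mem 2 (.mul (.l 40) (.l 40))) (.and (.eq (.mul (.l 40) (.l 3)) (.mul (.l 3) (.l 40))) (.and (.mem 3 (.mul (.mul (.l 1) (.l 40)) (.inv (.l 1)))) (.and (.mem 3 (.mul (.mul (.l 7) (.l 40)) (.inv (.l 7)))) (.and (.all 2 41 [] (.and (.mem 2 (.mul (.mul (.l 40) (.l 41)) (.inv (.l 40)))) (.imp (.one (.mul (.mul (.l 41) (.mul (.mul (.l 1) (.l 41)) (.inv (.l 1)))) (.mul (.mul (.mul (.mul (.l 1) (.l 1)) (.l 41)) (.inv (.l 1))) (.inv (.l 1))))) (.or (.eq (.mul (.mul (.l 40) (.l 41)) (.inv (.l 40))) (.l 41))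 (.eq (.mul (.mul (.l 40) (.l 41)) (.inv (.l 40))) (.mul (.l 41) (.l 3))))))) (.all 3 41 [] (.and (.mem 2 (.mul (.mul (.mul (.l 40) (.l 41)) (.inv (.l 40))) (.inv (.l 41)))) (.imp (.not (.mem 2 (.l 40))) (.or (.mem 2 (.l 41)) (.or (.mem 2 (.mul (.l 41) (.l 40))) (.or (.mem 2 (.mul (.l 41) (.mul (.mul (.l 1) (.l 40)) (.inv (.l 1))))) (.mem 2 (.mul (.l 41) (.mul (.mul (.mul (.mul (.l 1) (.l 1)) (.l 40)) (.inv (.l 1))) (.inv (.l 1))))))))))))))))) = true := by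
  decide +kernel

theorem md2 {G : Type*} [Group G] {γ : ℕ → G} (h : IsoW mm.gam γ) :
    ∀ x ∈ genW γ (mm.ws 3), x * x ∈ genW γ (mm.ws 2) ∧ x * γ 3 = γ 3 * x ∧ γ 1 * x * (γ 1)⁻¹ ∈ genW γ (mm.ws 3) ∧ γ 7 * x * (γ 7)⁻¹ ∈ genW γ (mm.ws 3) ∧ (∀ v ∈ genW γ (mm.ws 2), x * v * x⁻¹ ∈ genW γ (mm.ws 2) ∧ (v * (γ 1 * v * (γ 1)⁻¹) * (γ 1 * γ 1 * v * (γ 1)⁻¹ * (γ 1)⁻¹) = 1 → x * v * x⁻¹ = v ∨ x * v * x⁻¹ = v * γ 3)) ∧ (∀ v ∈ genW γ (mm.ws 3), x * v * x⁻¹ * v⁻¹ ∈ genW γ (mm.ws 2) ∧ (x ∉ genW γ (mm.ws 2) → v ∈ genW γ (mm.ws 2) ∨ v * x ∈ genW γ (mm.ws 2) ∨ v * (γ 1 * x * (γ 1)⁻¹) ∈ genW γ (mm.ws 2) ∨ v * (γ 1 * γ 1 * x * (γ 1)⁻¹ * (γ 1)⁻¹) ∈ genW γ (mm.ws 2))) :=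
  mm_ok.transfer h md2_ev

theorem md3_ev : mm.eval (.and (.mem 6 (.l 1)) (.mem 6 (.l 2))) = true := by
  decide +kernel

theorem md3 {G : Type*} [Group G] {γ : ℕ → G} (h : IsoW mm.gam γ) :
    γ 1 ∈ genW γ (mm.ws 6) ∧ γ 2 ∈ genW γ (mm.ws 6) :=
  mm_ok.transfer h md3_ev

theorem mg1_ev : mm.eval (.all 2 40 [] (.and (.mem 2 (.mul (.mul (.mul (.mul (.inv (.l 10)) (.l 1)) (.l 10)) (.l 40)) (.inv (.mul (.mul (.inv (.l 10)) (.l 1)) (.l 10))))) (.mem 2 (.mul (.mul (.mul (.mul (.inv (.l 10)) (.l 2)) (.l 10)) (.l 40)) (.inv (.mul (.mul (.inv (.l 10)) (.l 2)) (.l 10))))))) = true := by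
  decide +kernel

theorem mg1 {G : Type*} [Group G] {γ : ℕ → G} (h : IsoW mm.gam γ) :
    ∀ x ∈ genW γ (mm.ws 2), (γ 10)⁻¹ * γ 1 * γ 10 * x * ((γ 10)⁻¹ * γ 1 * γ 10)⁻¹ ∈ genW γ (mm.ws 2) ∧ (γ 10)⁻¹ * γ 2 * γ 10 * x * ((γ 10)⁻¹ * γ 2 * γ 10)⁻¹ ∈ genW γ (mm.ws 2) :=
  mm_ok.transfer h mg1_ev

theorem mg2_ev : mm.eval (.and (.mem 7 (.l 11)) (.mem 7 (.l 12))) = true := by
  decide +kernel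

theorem mg2 {G : Type*} [Group G] {γ : ℕ → G} (h : IsoW mm.gam γ) :
    γ 11 ∈ genW γ (mm.ws 7) ∧ γ 12 ∈ genW γ (mm.ws 7) :=
  mm_ok.transfer h mg2_ev

theorem mh1_ev : mm.eval (.all 0 40 [(.l 3, .l 3)] (.imp (.or (.one (.mul (.l 40) (.l 40))) (.eq (.mul (.l 40) (.l 40)) (.l 3))) (.imp (.or (.one (.mul (.mul (.l 40) (.mul (.mul (.l 1) (.l 40)) (.inv (.l 1)))) (.mul (.mul (.mul (.mul (.l 1) (.l 1)) (.l 40)) (.inv (.l 1))) (.inv (.l 1))))) (.eq (.mul (.mul (.l 40) (.mul (.mul (.l 1) (.l 40)) (.inv (.l 1)))) (.mul (.mul (.mul (.mul (.l 1) (.l 1)) (.l 40)) (.inv (.l 1))) (.inv (.l 1)))) (.l 3))) (.mem 4 (.l 40))))) = true := by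
  decide +kernel

theorem mh1 {G : Type*} [Group G] {γ : ℕ → G} (h : IsoW mm.gam γ) :
    ∀ x ∈ genW γ (mm.ws 0), x * γ 3 = γ 3 * x → x * x = 1 ∨ x * x = γ 3 → x * (γ 1 * x * (γ 1)⁻¹) * (γ 1 * γ 1 * x * (γ 1)⁻¹ * (γ 1)⁻¹) = 1 ∨ x * (γ 1 * x * (γ 1)⁻¹) * (γ 1 * γ 1 * x * (γ 1)⁻¹ * (γ 1)⁻¹) = γ 3 → x ∈ genW γ (mm.ws 4) :=
  mm_ok.transfer h mh1_ev

theorem mh2_ev : mm.eval (.and (.mem 4 (.l 3)) (.all 4 40 [] (.and (.eq (.mul (.l 40) (.l 3)) (.mul (.l 3) (.l 40))) (.all 4 41 [] (.or (.eq (.mul (.l 40) (.l 41)) (.mul (.l 41) (.l 40))) (.eq (.mul (.l 40) (.l 41)) (.mul (.mul (.l 41) (.l 40)) (.l 3)))))))) = true := by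
  decide +kernel

theorem mh2 {G : Type*} [Group G] {γ : ℕ → G} (h : IsoW mm.gam γ) :
    γ 3 ∈ genW γ (mm.ws 4) ∧ (∀ x ∈ genW γ (mm.ws 4), x * γ 3 = γ 3 * x ∧ (∀ v ∈ genW γ (mm.ws 4), x * v = v * x ∨ x * v = v * x * γ 3)) :=
  mm_ok.transfer h mh2_ev

theorem mh3_ev : mm.eval (.all 4 40 [] (.imp (.one (.mul (.l 40) (.l 40))) (.imp (.not (.one (.l 40))) (.imp (.one (.mul (.mul (.l 40) (.mul (.mul (.l 1) (.l 40)) (.inv (.l 1)))) (.mul (.mul (.mul (.mul (.l 1) (.l 1)) (.l 40)) (.inv (.l 1))) (.inv (.l 1))))) (.all 4 41 [] (.imp (.one (.mul (.l 41) (.l 41))) (.imp (.not (.one (.l 41))) (.imp (.one (.mul (.mul (.l 41) (.mul (.mul (.l 1) (.l 41)) (.inv (.l 1)))) (.mul (.mul (.mul (.mul (.l 1) (.l 1)) (.l 41)) (.inv (.l 1))) (.inv (.l 1))))) (.imp (.not (.eq (.l 41)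 (.l 40))) (.imp (.not (.eq (.l 41) (.mul (.mul (.l 1) (.l 40)) (.inv (.l 1))))) (.imp (.not (.eq (.l 41) (.mul (.mul (.mul (.mul (.l 1) (.l 1)) (.l 40)) (.inv (.l 1))) (.inv (.l 1))))) (.and (.or (.not (.eq (.mul (.l 40) (.l 41)) (.mul (.l 41) (.l 40)))) (.not (.eq (.mul (.l 40) (.mul (.mul (.l 1) (.l 41)) (.inv (.l 1)))) (.mul (.mul (.mul (.l 1) (.l 41)) (.inv (.l 1))) (.l 40))))) (.lt 42 (.mul (.mul (.l 1) (.l 40)) (.inv (.l 1))) (.lt 43 (.mul (.mul (.l 1) (.l 41)) (.inv (.l 1))) (.all 4 44 [] (.or (.one (.l 44)) (.or (.eq (.l 44) (.l 3)) (.or (.eq (.l 44) (.l 41)) (.or (.eq (.l 44) (.mul (.l 41) (.l 3))) (.or (.eq (.l 44) (.l 43)) (.or (.eq (.l 44) (.mul (.l 43) (.l 3))) (.or (.eq (.l 44) (.mul (.l 41) (.l 43))) (.or (.eq (.l 44) (.mul (.mul (.l 41) (.l 43))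 (.l 3))) (.or (.eq (.l 44) (.l 40)) (.or (.eq (.l 44) (.mul (.l 40) (.l 3))) (.or (.eq (.l 44) (.mul (.l 40) (.l 41))) (.or (.eq (.l 44) (.mul (.mul (.l 40) (.l 41)) (.l 3))) (.or (.eq (.l 44) (.mul (.l 40) (.l 43))) (.or (.eq (.l 44) (.mul (.mul (.l 40) (.l 43)) (.l 3))) (.or (.eq (.l 44) (.mul (.mul (.l 40) (.l 41)) (.l 43))) (.or (.eq (.l 44) (.mul (.mul (.mul (.l 40) (.l 41)) (.l 43)) (.l 3))) (.or (.eq (.l 44) (.l 42)) (.or (.eq (.l 44) (.mul (.l 42) (.l 3))) (.or (.eq (.l 44) (.mul (.l 42) (.l 41))) (.or (.eq (.l 44) (.mul (.mul (.l 42) (.l 41)) (.l 3))) (.or (.eq (.l 44) (.mul (.l 42) (.l 43))) (.or (.eq (.l 44) (.mul (.mul (.l 42) (.l 43)) (.l 3))) (.or (.eq (.l 44) (.mul (.mul (.l 42) (.l 41)) (.l 43))) (.or (.eq (.l 44) (.mul (.mul (.mul (.l 42) (.l 41))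 (.l 43)) (.l 3))) (.or (.eq (.l 44) (.mul (.l 40) (.l 42))) (.or (.eq (.l 44) (.mul (.mul (.l 40) (.l 42)) (.l 3))) (.or (.eq (.l 44) (.mul (.mul (.l 40) (.l 42)) (.l 41))) (.or (.eq (.l 44) (.mul (.mul (.mul (.l 40) (.l 42)) (.l 41)) (.l 3))) (.or (.eq (.l 44) (.mul (.mul (.l 40) (.l 42)) (.l 43))) (.or (.eq (.l 44) (.mul (.mul (.mul (.l 40) (.l 42)) (.l 43)) (.l 3))) (.or (.eq (.l 44) (.mul (.mul (.mul (.l 40) (.l 42)) (.l 41)) (.l 43))) (.eq (.l 44) (.mul (.mul (.mul (.mul (.l 40) (.l 42)) (.l 41)) (.l 43)) (.l 3))))))))))))))))))))))))))))))))))))))))))))))))) = true := by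
  decide +kernel

theorem mh3 {G : Type*} [Group G] {γ : ℕ → G} (h : IsoW mm.gam γ) :
    ∀ x ∈ genW γ (mm.ws 4), x * x = 1 → x ≠ 1 → x * (γ 1 * x * (γ 1)⁻¹) * (γ 1 * γ 1 * x * (γ 1)⁻¹ * (γ 1)⁻¹) = 1 → ∀ v ∈ genW γ (mm.ws 4), v * v = 1 → v ≠ 1 → v * (γ 1 * v * (γ 1)⁻¹) * (γ 1 * γ 1 * v * (γ 1)⁻¹ * (γ 1)⁻¹) = 1 → v ≠ x → v ≠ γ 1 * x * (γ 1)⁻¹ → v ≠ γ 1 * γ 1 * x * (γ 1)⁻¹ * (γ 1)⁻¹ → (x * v ≠ v * x ∨ x * (γ 1 * v * (γ 1)⁻¹) ≠ γ 1 * v * (γ 1)⁻¹ * x) ∧ (∀ w ∈ genW γ (mm.ws 4), w = 1 ∨ w = γ 3 ∨ w = v ∨ w = v * γ 3 ∨ w = γ 1 * v * (γ 1)⁻¹ ∨ w = γ 1 * v * (γ 1)⁻¹ * γ 3 ∨ w = v * (γ 1 * v * (γ 1)⁻¹) ∨ w = v * (γ 1 * v * (γ 1)⁻¹) * γ 3 ∨ w = x ∨ w = x * γ 3 ∨ w = x * v ∨ w = x * v * γ 3 ∨ w = x * (γ 1 * v * (γ 1)⁻¹) ∨ w = x * (γ 1 * v * (γ 1)⁻¹) * γ 3 ∨ w = x * v * (γ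 1 * v * (γ 1)⁻¹) ∨ w = x * v * (γ 1 * v * (γ 1)⁻¹) * γ 3 ∨ w = γ 1 * x * (γ 1)⁻¹ ∨ w = γ 1 * x * (γ 1)⁻¹ * γ 3 ∨ w = γ 1 * x * (γ 1)⁻¹ * v ∨ w = γ 1 * x * (γ 1)⁻¹ * v * γ 3 ∨ w = γ 1 * x * (γ 1)⁻¹ * (γ 1 * v * (γ 1)⁻¹) ∨ w = γ 1 * x * (γ 1)⁻¹ * (γ 1 * v * (γ 1)⁻¹) * γ 3 ∨ w = γ 1 * x * (γ 1)⁻¹ * v * (γ 1 * v * (γ 1)⁻¹) ∨ w = γ 1 * x * (γ 1)⁻¹ * v * (γ 1 * v * (γ 1)⁻¹) * γ 3 ∨ w = x * (γ 1 * x * (γ 1)⁻¹) ∨ w = x * (γ 1 * x * (γ 1)⁻¹) * γ 3 ∨ w = x * (γ 1 * x * (γ 1)⁻¹) * v ∨ w = x * (γ 1 * x * (γ 1)⁻¹) * v * γ 3 ∨ w = x * (γ 1 * x * (γ 1)⁻¹) * (γ 1 * v * (γ 1)⁻¹) ∨ w = x * (γ 1 * x * (γ 1)⁻¹) * (γ 1 * v * (γ 1)⁻¹) * γ 3 ∨ w = x * (γ 1 * x * (γ 1)⁻¹) * v * (γ 1 * v * (γ 1)⁻¹) ∨ w = x * (γ 1 * x * (γ 1)⁻¹) * v * (γ 1 * v * (γ 1)⁻¹) * γ 3) :=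
  mm_ok.transfer h mh3_ev

theorem mh4_ev : mm.eval (.all 0 40 [(.l 3, .l 3)] (.ex 4 41 [] (.or (.eq (.mul (.mul (.mul (.l 41) (.l 40)) (.l 1)) (.inv (.mul (.l 41) (.l 40)))) (.l 1)) (.eq (.mul (.mul (.mul (.l 41) (.l 40)) (.l 1)) (.inv (.mul (.l 41) (.l 40)))) (.inv (.l 1)))))) = true := by
  decide +kernel

theorem mh4 {G : Type*} [Group G] {γ : ℕ → G} (h : IsoW mm.gam γ) :
    ∀ x ∈ genW γ (mm.ws 0), x * γ 3 = γ 3 * x → ∃ v ∈ genW γ (mm.ws 4), v * x * γ 1 * (v * x)⁻¹ = γ 1 ∨ v * x * γ 1 * (v * x)⁻¹ = (γ 1)⁻¹ :=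
  mm_ok.transfer h mh4_ev

theorem mn1_ev : mm.eval (.and (.eq (.mul (.mul (.l 11) (.l 1)) (.inv (.l 11))) (.mul (.l 1) (.l 2))) (.eq (.mul (.mul (.l 12) (.l 1)) (.inv (.l 12))) (.l 2))) = true := by
  decide +kernel

theorem mn1 {G : Type*} [Group G] {γ : ℕ → G} (h : IsoW mm.gam γ) :
    γ 11 * γ 1 * (γ 11)⁻¹ = γ 1 * γ 2 ∧ γ 12 * γ 1 * (γ 12)⁻¹ = γ 2 :=
  mm_ok.transfer h mn1_ev

theorem mi1_ev : mm.eval (.all 0 40 [(.l 3, .l 3)] (.one (.pow (.l 40) 24))) = true := by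
  decide +kernel

theorem mi1 {G : Type*} [Group G] {γ : ℕ → G} (h : IsoW mm.gam γ) :
    ∀ x ∈ genW γ (mm.ws 0), x * γ 3 = γ 3 * x → x ^ 24 = 1 :=
  mm_ok.transfer h mi1_ev

end Cfsg.Lib.J43
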