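import Cfsg.Agent.Lib.J43.M

/-! More facts in the permutation model of `M₂₂` (generated). -/

set_option autoImplicit false
set_option maxRecDepth 100000

namespace Cfsg.Lib.J43

open Cfsg.Lib.Calc

open Cfsg.Lib.T2

theorem mk1_ev : mm.eval (.all 4 40 [] (.and (.or (.one (.mul (.l 40) (.l 40))) (.eq (.mul (.l 40) (.l 40)) (.l 3))) (.and (.or (.one (.mul (.mul (.l 40) (.mul (.mul (.l 1) (.l 40)) (.inv (.l 1)))) (.mul (.mul (.mul (.mul (.l 1) (.l 1)) (.l 40)) (.inv (.l 1))) (.inv (.l 1))))) (.eq (.mul (.mul (.l 40) (.mul (.mul (.l 1) (.l 40)) (.inv (.l 1)))) (.mul (.mul (.mul (.mul (.l 1) (.l 1)) (.l 40)) (.inv (.l 1))) (.inv (.l 1)))) (.l 3))) (.imp (.eq (.mul (.l 13) (.l 40)) (.mul (.l 40) (.l 13))) (.imp (.eq (.mul (.mul (.mul (.l 1) (.l 13)) (.inv (.l 1))) (.l 40)) (.mul (.l 40) (.mul (.mul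 (.l 1) (.l 13)) (.inv (.l 1))))) (.imp (.eq (.mul (.l 14) (.l 40)) (.mul (.l 40) (.l 14))) (.imp (.eq (.mul (.mul (.mul (.l 1) (.l 14)) (.inv (.l 1))) (.l 40)) (.mul (.l 40) (.mul (.mul (.l 1) (.l 14)) (.inv (.l 1))))) (.or (.one (.l 40)) (.eq (.l 40) (.l 3)))))))))) = true := by
  decide +kernel

theorem mk1 {G : Type*} [Group G] {γ : ℕ → G} (h : IsoW mm.gam γ) :
    ∀ x ∈ genW γ (mm.ws 4), (x * x = 1 ∨ x * x = γ 3) ∧ (x * (γ 1 * x * (γ 1)⁻¹) * (γ 1 * γ 1 * x * (γ 1)⁻¹ * (γ 1)⁻¹) = 1 ∨ x * (γ 1 * x * (γ 1)⁻¹) * (γ 1 * γ 1 * x * (γ 1)⁻¹ * (γ 1)⁻¹) = γ 3) ∧ (γ 13 * x = x * γ 13 → γ 1 * γ 13 * (γ 1)⁻¹ * x = x * (γ 1 * γ 13 * (γ 1)⁻¹) → γ 14 * x = x * γ 14 → γ 1 * γ 14 * (γ 1)⁻¹ * x = x * (γ 1 * γ 14 * (γ 1)⁻¹) → x = 1 ∨ x = γ 3) :=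
  mm_ok.transfer h mk1_ev

theorem mk2_ev : mm.eval (.and (.mem 4 (.l 13)) (.and (.mem 4 (.mul (.mul (.l 1) (.l 13)) (.inv (.l 1)))) (.and (.mem 4 (.l 14)) (.mem 4 (.mul (.mul (.l 1) (.l 14)) (.inv (.l 1))))))) = true := by
  decide +kernel

theorem mk2 {G : Type*} [Group G] {γ : ℕ → G} (h : IsoW mm.gam γ) :
    γ 13 ∈ genW γ (mm.ws 4) ∧ γ 1 * γ 13 * (γ 1)⁻¹ ∈ genW γ (mm.ws 4) ∧ γ 14 ∈ genW γ (mm.ws 4) ∧ γ 1 * γ 14 * (γ 1)⁻¹ ∈ genW γ (mm.ws 4) :=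
  mm_ok.transfer h mk2_ev

theorem Qb_sq {x : M} (h : x ∈ Qb) : x * x = 1 ∨ x * x = mf := (mk1 mI x h).1
theorem Qb_tr {x : M} (h : x ∈ Qb) : tr me x = 1 ∨ tr me x = mf := (mk1 mI x h).2.1
theorem Qb_cen {x : M} (h : x ∈ Qb) (c : ∀ v ∈ Qb, v * x = x * v) : x = 1 ∨ x = mf :=
  (mk1 mI x h).2.2 (c _ (mk2 mI).1) (c _ (mk2 mI).2.1) (c _ (mk2 mI).2.2.1) (c _ (mk2 mI).2.2.2)
theorem card_Qb : Nat.card Qb = 32 := (mI.card_eq _).symm.trans mm_card4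
theorem f_Qb : mf ∈ Qb := (mh2 mI).1

end Cfsg.Lib.J43
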