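import Cfsg.Agent.Lib.J43.Typ
import Cfsg.Agent.Lib.OddChar.SelfThree
import Cfsg.Agent.Lib.Grp.Orb
import Cfsg.Agent.S1006

/-! # Transport of the covering data; self-centralising subgroups of order 3 -/

set_option autoImplicit false
set_option linter.unusedSectionVars false

namespace Cfsg.Lib.J43

open Subgroup Cfsg.Lib.BG
open scoped Cfsg.Lib.Transfer

variable {G X : Type*} [Group G] [Finite G] [Group X]

theorem Cov.map {x : G} (C : Cov x) (φ : 𝐂[x] →* X) {y : X} (hy : φ ⟨x, self_mem_cent1 x⟩ = y) (hr : φ.range = 𝐂[y])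
    (hk : ∀ g, φ g = 1 → (g : G) ∈ zpowers C.z) : ∃ C' : Cov y, C'.z = φ ⟨C.z, C.zK⟩ := by
  have k1 : ∀ g h, φ g = φ h → C.π g = C.π h := fun g h e => by
    have e' : C.π ((h : G)⁻¹ * g) = 1 := by
      rcases zp2_cases C.z2 (hk (h⁻¹ * g) (by rw [map_mul, map_inv, e, inv_mul_cancel])) with t | t <;>
        push_cast at t <;> rw [t]
      exacts [C.one, C.πz]
    rw [C.mul (inv_mem h.2) g.2, C.inv h.2, inv_mul_eq_one] at e'
    exact e'.symm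
  have k3 : ∀ g, C.π (Function.invFun φ (φ g) : 𝐂[x]) = C.π g := fun g => k1 _ _ (Function.invFun_eq ⟨g, rfl⟩)
  have k4 : ∀ g : 𝐂[x], (g : G) ∈ zpowers x → φ g ∈ zpowers y := fun g ⟨i, e⟩ =>
    ⟨i, by rw [← hy]; exact (map_zpow φ _ i).symm.trans (congrArg φ (Subtype.ext e))⟩
  have k5 : ∀ g : 𝐂[x], φ g ∈ zpowers y → C.π g = 1 := fun g ⟨i, e⟩ =>
    (k1 _ _ (by rw [map_zpow, hy]; exact e.symm)).trans (C.π_zp (g := (⟨x, self_mem_cent1 x⟩ ^ i : 𝐂[x])) ⟨i, rfl⟩)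
  refine ⟨⟨fun g => C.π (Function.invFun φ g : 𝐂[x]), φ ⟨C.z, C.zK⟩, orderOf_eq_prime ?_ fun e => ?_, fun a b => ?_,
    fun m => ?_, ?_, hr.le ⟨_, rfl⟩, fun a => ?_, fun a => ?_, ?_⟩, rfl⟩
  · rw [← hy, ← map_pow, ← map_one φ]; exact congrArg φ (Subtype.ext C.x3)
  · rcases zp2_cases C.z2 (hk _ (hy.trans e)) with t | t
    exacts [C.x_ne t, C.x_ne (eq_one_of_23 (by nth_rw 1 2 [show x = C.z from t]; exact C.z2) C.x3)]
  · obtain ⟨g, rfl⟩ := hr.ge a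
    obtain ⟨h, rfl⟩ := hr.ge b
    rw [← map_mul, k3, k3, k3]; exact C.mul g.2 h.2
  · obtain ⟨g, a, rfl⟩ := C.surj m
    exact ⟨φ ⟨g, a⟩, hr.le ⟨_, rfl⟩, k3 _⟩
  · rw [← map_mul, ← map_one φ]; exact congrArg φ (Subtype.ext C.z2)
  · obtain ⟨g, rfl⟩ := hr.ge a
    rw [← map_mul, ← map_mul]; exact congrArg φ (Subtype.ext (C.zc g.2))
  · obtain ⟨g, rfl⟩ := hr.ge a
    rw [k3, ← map_mul]
    refine ⟨fun e => ((C.ker g.2).1 e).imp (k4 g) (k4 (g * ⟨C.z, C.zK⟩)), fun e => e.elim (k5 g) fun e => ?_⟩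
    have := k5 _ e
    rwa [coe_mul, C.mul g.2 C.zK, C.πz, mul_one] at this
  · rw [← hr, MonoidHom.range_eq_map, ← map_commutator]
    refine map_mono ?_
    rw [← subgroupOf_self, ← subOf_comm le_rfl le_rfl]
    exact comap_mono C.perf

theorem conj_free {Q : Subgroup G} {S : Set G} (h1 : ∀ g ∈ Q, ∀ y ∈ S, g * y * g⁻¹ ∈ S)
    (h2 : ∀ g ∈ Q, ∀ y ∈ S, g * y = y * g → g = 1) : Nat.card Q ∣ S.ncard :=
  @Grp.card_dvd_ncard_of_free G G _ (MulAction.compHom _ (MulAut.conj : G →* MulAut G)) _ Q S h1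
    fun g hg y hy e => h2 g hg y hy (eq_mul_of_mul_inv_eq e)

theorem five_A5 : Nat.card {g : alternatingGroup (Fin 5) // orderOf g = 5} = 24 := by
  have : Fact (Nat.Prime 5) := ⟨by norm_num⟩
  rw [Nat.card_congr (Equiv.subtypeEquivRight (q := fun g => g ^ 5 = 1 ∧ g ≠ 1) fun g => orderOf_eq_prime_iff),
    Nat.card_eq_fintype_card]
  decide +kernel

theorem ft3 {S : Subgroup G} {x : G} (p : x ∈ S) (x3 : x ^ 3 = 1) (x1 : x ≠ 1) (c : S ⊓ 𝐂[x] ≤ zpowers x) :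
    Group.IsNilpotent 𝐎({3}ᶜ, S) ∧ (𝐎({3}ᶜ, S) = ⊥ → Nat.card S ≤ 6 ∨ Nat.card S ≤ 168 ∧
      ∃ q, (q = 5 ∨ q = 7) ∧ ¬9 ∣ {g | g ∈ S ∧ orderOf g = q}.ncard) := by
  have h : OddChar.SC3 (⟨x, p⟩ : S) := ⟨(orderOf_mk ..).trans (orderOf_eq_prime x3 x1), le_antisymm (fun g hg => by
    obtain ⟨k, hk⟩ := c ⟨g.2, mem_cent1.2 (congrArg Subtype.val (mem_cent1.1 hg))⟩
    exact ⟨k, Subtype.ext hk⟩) (zpowers_le.2 (self_mem_cent1 _))⟩
  have hn := Nml.top_iff.1 (pcore_nml {3}ᶜ (⊤ : Subgroup S))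
  have e : 𝐎({3}ᶜ, (⊤ : Subgroup S)) = 𝐎({3}ᶜ, S).subgroupOf S := by rw [← subOf_pcore le_rfl, subgroupOf_self]
  have cnt : ∀ q, {g | g ∈ S ∧ orderOf g = q}.ncard = Nat.card {g : S // orderOf g = q} := fun q => by
    rw [← Nat.card_coe_set_eq]
    exact Nat.card_congr ⟨fun g => ⟨⟨g, g.2.1⟩, (orderOf_mk ..).trans g.2.2⟩,
      fun g => ⟨g.1, g.1.2, (orderOf_coe _).trans g.2⟩, fun _ => rfl, fun _ => rfl⟩
  refine ⟨?_, fun h0 => ?_⟩
  · have := h.nil (h.quot rfl).1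
    rw [e] at this
    exact Group.nilpotent_of_mulEquiv (subgroupOfEquivOfLe (pcore_le _ _))
  rw [h0, bot_subgroupOf] at e
  have f := (QuotientGroup.quotientMulEquivOfEq e).trans QuotientGroup.quotientBot
  rcases h.cases rfl with e | ⟨⟨e⟩⟩ | ⟨-, -, ⟨e⟩⟩ | ⟨_, e⟩
  · exact .inl (by rw [← Nat.card_congr f.toEquiv, e]; norm_num)
  · exact .inl (by rw [Nat.card_congr (f.symm.trans e).toEquiv]; simp; decide)
  · refine .inr ⟨by rw [Nat.card_congr (f.symm.trans e).toEquiv, nat_card_alternatingGroup]; simp; decide, 5, .inl rfl, ?_⟩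
    rw [cnt, Nat.card_congr (Equiv.subtypeEquiv (f.symm.trans e).toEquiv (q := fun g => orderOf g = 5) fun g => by
      simp only [MulEquiv.toEquiv_eq_coe, EquivLike.coe_coe, MulEquiv.orderOf_eq]), five_A5]
    norm_num
  · exact .inr ⟨e.le, 7, .inr rfl, by rw [cnt, (Cfsg.Agent.S1006.result e).2.2.2.2.1]; norm_num⟩

end Cfsg.Lib.J43
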