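import Cfsg.Agent.Lib.J43.Qa

/-! # The case `6·M₂₂`: the extraspecial group of order `2¹³` and its normaliser -/

set_option autoImplicit false
set_option linter.unusedSectionVars false

namespace Cfsg.Lib.J43

open Subgroup Cfsg.Lib.BG
open scoped Cfsg.Lib.Transfer

variable {G : Type*} [Group G] [Finite G]

/-- the extraspecial group -/
def QX (x : G) : Subgroup G := ⨆ c, ⨆ _ : Pr x c, Qa x c
/-- the candidate for `C(z)` -/
def HH (x : G) : Subgroup G := QX x ⊔ 𝐍(zpowers x)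

theorem Qa_le {x c : G} (h : Pr x c) : Qa x c ≤ QX x := le_iSup₂_of_le c h le_rfl

theorem conj_QX (g x : G) : g ⋆ QX x ≤ QX (g * x * g⁻¹) := Transfer.conj_le_iff_le_inv_conj.2
  (iSup₂_le fun c h => Transfer.conj_le_iff_le_inv_conj.1 ((conj_Qa g x c).trans (Qa_le (h.conj g))))

theorem K_le_N (x : G) : 𝐂[x] ≤ 𝐍(zpowers x) := cent_zpowers x ▸ cent_le_norm _
theorem K_le_H (x : G) : 𝐂[x] ≤ HH x := (K_le_N x).trans le_sup_right
theorem cj_eq {g x : G} (h : g ∈ 𝐂[x]) : g * x * g⁻¹ = x := by rw [mem_cent1.1 h, mul_inv_cancel_right]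
theorem mem_K {g x : G} (h : g * x * g⁻¹ = x) : g ∈ 𝐂[x] := mem_cent1.2 (mul_inv_eq_iff_eq_mul.1 h)

theorem norm_zp {g x : G} (h : g * x * g⁻¹ ∈ zpowers x) : g ∈ 𝐍(zpowers x) :=
  Transfer.mem_normalizer_of_conj_le (by rw [Transfer.conj_zpowers]; exact zpowers_le.2 h)

namespace Ba

variable {E : Subgroup G} {x b c g : G} (h : Ba E x b) (T : Six G)
include h T

theorem ord_z : orderOf (zo x) = 2 := orderOf_eq_prime (by rw [pow_two, zo_sq]) (h.z1 T)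

theorem qq : ∃ Q : Subgroup G, Xs (zo x) x Q ∧ Nat.card Q = 2 ^ 13 ∧ (∀ c, Ba E x c → Qa x c ≤ Q) ∧
    ∀ S : Subgroup G, (∀ c, Ba E x c → Qa x c ≤ S) → Q ≤ S := by
  have k1 := h.mul (mem_zpowers x)
  have k2 := h.mul (inv_mem (mem_zpowers x))
  have k3 : Ba E b (b * x) := h.ab ▸ h.symm.mul (mem_zpowers b)
  have k4 : Ba E b (b * x⁻¹) := h.inv'.ab ▸ h.inv'.symm.mul (mem_zpowers b)
  have k5 : Ba E (b * x) (b * x⁻¹) := by
    have := k1.symm.mul (mem_zpowers _)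
    rwa [← mul_assoc, h.ab, mul_assoc, show x * x = x⁻¹ from eq_inv_of_mul_eq_one_left (pow_three' x ▸ h.a3)] at this
  obtain ⟨⟨X0, c0, -⟩, d0⟩ := h.qa_main T
  obtain ⟨⟨X1, c1, -⟩, d1⟩ := k1.qa_main T
  obtain ⟨⟨X2, c2, -⟩, -⟩ := k2.qa_main T
  obtain ⟨X3, c3⟩ := X0.sup X1 (d0 _ k1 k3)
  obtain ⟨X4, c4⟩ := X3.sup X2 (sup_le (d0 _ k2 k4) (d1 _ k2 k5))
  rw [h.ord_z T, c0, c1] at c3
  rw [h.ord_z T, c2] at c4
  refine ⟨_, X4, by omega, fun c k => ?_, fun S p => sup_le (sup_le (p _ h) (p _ k1)) (p _ k2)⟩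
  have e : ∀ {d}, d ^ 3 = 1 → c ∈ zpowers d → Qa x c ≤ Qa x d := fun a p => closure_mono fun _ i =>
    ⟨cent1_zp a p k.b1 ▸ i.c, i.z, i.sq, i.tr⟩
  rcases h.cases k.mb with p | p | p | p
  exacts [absurd p k.pr.nmem, (e h.b3 p).trans (le_sup_left.trans le_sup_left),
    (e k1.b3 p).trans (le_sup_right.trans le_sup_left), (e k2.b3 p).trans le_sup_right]

theorem qx0 : Xs (zo x) x (QX x) ∧ Nat.card (QX x) = 2 ^ 13 := by
  obtain ⟨Q, X, c, l, m⟩ := h.qq T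
  obtain ⟨C, he⟩ := h.nc T.toFu
  have n0 : ∀ {g}, g ∈ 𝐂[x] → ∀ c, Ba E x c → g ⋆ Qa x c ≤ Qa x (g * c * g⁻¹) ∧ Ba (g ⋆ E) x (g * c * g⁻¹) := fun {g} p c k => by
    have a := conj_Qa g x c
    have b := k.conj g
    rw [cj_eq p] at a b
    exact ⟨a, b⟩
  have n1 : 𝐍(E) ⊓ 𝐂[x] ≤ 𝐍(Q) := fun g p => Transfer.mem_normalizer_of_conj_le (Transfer.conj_le_iff_le_inv_conj.2
    (m _ fun c k => Transfer.conj_le_iff_le_inv_conj.1 ((n0 p.2 c k).1.trans (l _ (conj_eq_of_norm p.1 ▸ (n0 p.2 c k).2)))))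
  have n2 : 𝐂[x] ≤ 𝐍(Q) := C.le_of_surj fun y => C.mem_im.1 (n_gen (fun y e => by
    obtain ⟨g, p, rfl⟩ := C.surj y
    refine C.π_mem (inv_mem_iff.1 (Transfer.mem_normalizer_of_conj_le (Transfer.le_conj_iff_inv_conj_le.1 ?_))) p
    have k := (n0 p b h).2
    have a := h.pr.mem
    have a' := k.pr.mem
    obtain ⟨t, t1, t2, t3⟩ := C.eq_mul (g := g * b * g⁻¹ * b * (g * b * g⁻¹)⁻¹) (by gmem) a (by
      pis; rw [he, e.eq]; group)
    have t4 : t ^ 3 = 1 := by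
      have := congrArg (· ^ 3) t3
      simp only [conj_pow, h.b3, (Commute.mul_pow (C.cen t1 t2 a) 3), one_mul] at this
      rw [← this]; group
    refine k.gen (k.le (X.nx) (n1 ⟨h.norm ((cj_eq a').symm ▸ h.ma)
      (t3 ▸ mul_mem h.mb (zpowers_le.2 h.ma (C.ker_cube t1 t2 t4))), a'⟩)) (n3_of_pg X.pg) fun d q d1 v r => ?_
    by_cases s : d ∈ zpowers x
    · rcases zp2_cases X.z2 (X.fpf r.1 (cent1_zp h.a3 s d1 ▸ r.2)) with rfl | rfl
      · exact one_mem _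
      · exact Transfer.mem_conj.2 (by rw [zo_comm (inv_mem p), inv_mul_cancel_right]; exact X.mem)
    · have k' := (k.of k.ma k.a1 q s).conj g⁻¹
      rw [Transfer.inv_conj_conj, cj_eq (inv_mem p)] at k'
      have i := (In.mk r.2 (X.cen r.1) (X.sq r.1) (X.tr r.1)).conj g⁻¹
      rw [cj_eq (inv_mem p)] at i
      rw [inv_inv] at i k'
      exact Transfer.mem_conj.2 (l _ k' (subset_closure i))) y)
  have : QX x = Q := le_antisymm (iSup₂_le fun d p => by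
    obtain ⟨g, q, e⟩ := C.conj_K p h.pr
    have := conj_Qa g x d
    rw [cj_eq q, e] at this
    exact (Transfer.conj_le_iff_le_inv_conj.1 (this.trans (l b h))).trans (conj_eq_of_norm (inv_mem (n2 q))).le)
    (m _ fun c k => Qa_le k.pr)
  rw [this]; exact ⟨X, c⟩

theorem qx : Xs (zo x) x (QX x) := (h.qx0 T).1

theorem norm_QX : 𝐍(zpowers x) ≤ 𝐍(QX x) := fun g p => by
  rcases zp_cases h.a3 (conj_mem_of_norm p (mem_zpowers x)) with e | e | e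
  · exact absurd (conj_eq_one_iff.1 e) h.a1
  · exact Transfer.mem_normalizer_of_conj_le (by have := conj_QX g x; rwa [e] at this)
  refine Transfer.mem_normalizer_of_conj_le ((conj_QX g x).trans (e ▸ iSup₂_le fun d q => ?_))
  have k : Ba _ x⁻¹ d := ⟨h.inv'.a3, h.inv'.a1, q, rfl⟩
  have k' := k.inv'
  rw [inv_inv] at k'
  have X := k.qx T
  have ez := T.zo_eq h.a3 (inv_mem (mem_zpowers x)) k.a1
  refine le_trans (fun v r => ?_) (Qa_le k'.pr)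
  have i := (k.qa_main T).1.2.2.1 v r
  have := X.tr_inv k.a3 (Qa_le q r)
  rw [inv_inv] at this
  exact subset_closure ⟨i.c, ez ▸ i.z, ez ▸ i.sq, ez ▸ this⟩

theorem N_le : 𝐍(zpowers x) ≤ 𝐂[zo x] := fun g p => mem_K (by
  rw [← zo_conj, T.zo_eq h.a3 (conj_mem_of_norm p (mem_zpowers x)) (h.conj g).a1])

theorem H_le : HH x ≤ 𝐂[zo x] := sup_le (h.qx T).cen (h.N_le T)
theorem H_norm : HH x ≤ 𝐍(QX x) := sup_le_norm_left (h.norm_QX T)

theorem zp_of_zo (p : c ∈ E) (c1 : c ≠ 1) (e : zo c = zo x) : c ∈ zpowers x :=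
  by_contra fun n => T.ne (h.of h.ma h.a1 p n) e.symm

theorem cen_le : 𝐂[b] ⊓ 𝐂[zo x] ≤ HH x := fun g p => by
  obtain ⟨p, q⟩ := mem_inf.1 p
  obtain ⟨-, -, I, C, he, hf, s⟩ := (h.qa_main T).1
  have mz := cent_le_cent1 h.mb (FF_le E (h.zo_F h.ma))
  have mx := h.symm.pr.mem
  obtain ⟨v, r, e⟩ := cen_f (x := C.π g) (by rw [← hf, ← C.mul p mz, mem_cent1.1 q, C.mul mz p])
  obtain ⟨v, r1, r2, rfl⟩ := C.mem_im.1 (s r)
  refine (mul_mem_cancel_left (mem_sup_left (Qa_le h.pr r1))).1 (mem_sup_right (norm_zp (h.zp_of_zo T ?_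
    (h.conj _).a1 (by rw [zo_conj, cj_eq (mul_mem (I v r1).z q)]))))
  have key : ∀ {y}, y ∈ zpowers x → C.π (v * g * x * (v * g)⁻¹) = C.π y → v * g * x * (v * g)⁻¹ ∈ E := fun {y} a e => by
    have a' := zpowers_le.2 mx a
    obtain ⟨t, t1, t2, t3⟩ := C.eq_mul (by gmem) a' e
    have := congrArg (· ^ 3) t3
    simp only [conj_pow, h.a3, (Commute.mul_pow (C.cen t1 t2 a') 3), cube_of_zp h.a3 a, one_mul] at this
    exact t3 ▸ mul_mem (zpowers_le.2 h.ma a) (zpowers_le.2 h.mb (C.ker_cube t1 t2 (by rw [← this]; group)))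
  rcases e with e | e
  · exact key (mem_zpowers x) (by pis; rwa [he])
  · exact key (inv_mem (mem_zpowers x)) (by pis; rwa [he])

theorem ex_j : ∃ j ∈ 𝐍(zpowers x), j * x * j⁻¹ = x⁻¹ := by
  obtain ⟨j, i⟩ := h.iv6 T.toFu (T.ne h)
  exact ⟨j, norm_zp (i.inv h.ma ▸ inv_mem (mem_zpowers x)), i.inv h.ma⟩

theorem cls3 {a : G} (p : a ∈ HH x) (a3 : a ^ 3 = 1) (a1 : a ≠ 1) : ∃ k ∈ HH x, k * a * k⁻¹ = x ∨ k * a * k⁻¹ = b := by
  obtain ⟨C⟩ := T.cov h.a3 h.a1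
  obtain ⟨U, l, S, -⟩ := C.syl h.pr
  obtain ⟨k, q, e⟩ := Syl.exists_conj_le (S.of_le (l.trans (K_le_H x)) le_top) (pg_zp a3) (zpowers_le.2 p)
  have m := l (e (Transfer.conj_mem_conj.2 (mem_zpowers a)))
  by_cases n : k * a * k⁻¹ ∈ zpowers x
  · rcases zp_cases h.a3 n with e | e | e
    · exact absurd (conj_eq_one_iff.1 e) a1
    · exact ⟨k, q, Or.inl e⟩
    · obtain ⟨j, r, e'⟩ := h.ex_j T
      exact ⟨j⁻¹ * k, mul_mem (inv_mem (mem_sup_right r)) q, Or.inl (by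
        calc _ = j⁻¹ * (k * a * k⁻¹) * j := by group
          _ = _ := by rw [e, ← e']; group)⟩
  · obtain ⟨l, r, e⟩ := C.conj_K ⟨by rw [conj_pow, a3, mul_one, mul_inv_cancel], m, n⟩ h.pr
    exact ⟨l * k, mul_mem (K_le_H x r) q, Or.inr (by rw [← e]; group)⟩

/-- `HH x` is strongly 3-embedded in `C(z)` -/
theorem se {a : G} (q : g ∈ 𝐂[zo x]) (p : a ∈ HH x) (a3 : a ^ 3 = 1) (a1 : a ≠ 1) (p' : g * a * g⁻¹ ∈ HH x) :
    g ∈ HH x := by
  obtain ⟨k, k1, k2⟩ := h.cls3 T p a3 a1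
  obtain ⟨l, l1, l2⟩ := h.cls3 T p' (by rw [conj_pow, a3, mul_one, mul_inv_cancel]) fun e => a1 (conj_eq_one_iff.1 e)
  have w : l * g * k⁻¹ ∈ 𝐂[zo x] := mul_mem (mul_mem (h.H_le T l1) q) (inv_mem (h.H_le T k1))
  have e : l * g * k⁻¹ * (k * a * k⁻¹) * (l * g * k⁻¹)⁻¹ = l * (g * a * g⁻¹) * l⁻¹ := by group
  rw [← mul_mem_cancel_left l1, ← mul_mem_cancel_right (inv_mem k1)]
  generalize l * g * k⁻¹ = w' at *
  rcases k2 with k2 | k2 <;> rcases l2 with l2 | l2 <;> rw [k2, l2] at e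
  · exact K_le_H x (mem_K e)
  · exact absurd (by rw [← e, zo_conj, cj_eq w]) (T.ne h)
  · exact absurd (by
      have := zo_conj w' b
      rwa [e, eq_mul_inv_iff_mul_eq, ← mem_cent1.1 w, mul_right_inj] at this) (T.ne h)
  · exact h.cen_le T ⟨mem_K e, w⟩

end Ba

end Cfsg.Lib.J43
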