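import Cfsg.Agent.Lib.J43.Uu

/-! # The case `6·M₂₂`: the extraspecial groups of order 32 -/

set_option autoImplicit false
set_option linter.unusedSectionVars false

namespace Cfsg.Lib.J43

open Subgroup Cfsg.Lib.BG
open scoped Cfsg.Lib.Transfer

variable {G : Type*} [Group G] [Finite G]

/-- the elements of `Qa x c` -/
structure In (x c d : G) : Prop where
  c : d ∈ 𝐂[c]
  z : d ∈ 𝐂[zo x]
  sq : d * d ∈ zpowers (zo x)
  tr : tr x d ∈ zpowers (zo x)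

/-- `[O₂(C(c) ∩ C(z)), x]` -/
def Qa (x c : G) : Subgroup G := closure {d | In x c d}

theorem In.conj {x c d : G} (h : In x c d) (g : G) : In (g * x * g⁻¹) (g * c * g⁻¹) (g * d * g⁻¹) := by
  refine ⟨conj_cent1 g c ▸ Transfer.conj_mem_conj.2 h.c, ?_, ?_, ?_⟩ <;> rw [zo_conj]
  · exact conj_cent1 g _ ▸ Transfer.conj_mem_conj.2 h.z
  · rw [conj_mul, ← Transfer.conj_zpowers]; exact Transfer.conj_mem_conj.2 h.sq
  · rw [tr_conj, ← Transfer.conj_zpowers]; exact Transfer.conj_mem_conj.2 h.tr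

theorem conj_Qa (g x c : G) : g ⋆ Qa x c ≤ Qa (g * x * g⁻¹) (g * c * g⁻¹) :=
  Transfer.conj_le_iff_le_inv_conj.2 ((closure_le _).2 fun _ h =>
    Transfer.mem_conj.2 (by rw [inv_inv]; exact subset_closure (In.conj h g)))

theorem cent1_zp {c d : G} (d3 : d ^ 3 = 1) (h : c ∈ zpowers d) (c1 : c ≠ 1) : 𝐂[c] = 𝐂[d] := by
  rw [← cent_zpowers, zp_eq d3 h c1, cent_zpowers]

/-- the subgroup generated by the `F`-conjugates of `D` -/
def ncl (F D : Subgroup G) : Subgroup G := ⨆ f ∈ F, f ⋆ D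

theorem le_ncl {F D : Subgroup G} {f : G} (h : f ∈ F) : f ⋆ D ≤ ncl F D := le_iSup₂_of_le f h le_rfl
theorem ncl_le {F D S : Subgroup G} (h : ∀ f ∈ F, f ⋆ D ≤ S) : ncl F D ≤ S := iSup₂_le h
theorem ncl_le' {F D S : Subgroup G} (h : D ≤ S) (n : F ≤ 𝐍(S)) : ncl F D ≤ S := ncl_le fun _ p => conj_le_of_norm h (n p)
theorem le_ncl' {F D : Subgroup G} : D ≤ ncl F D := (Transfer.conj_one D).ge.trans (le_ncl (one_mem F))
theorem norm_ncl {F D : Subgroup G} : F ≤ 𝐍(ncl F D) := fun g p => Transfer.mem_normalizer_of_conj_le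
  (Transfer.conj_le_iff_le_inv_conj.2 (ncl_le fun f q => Transfer.conj_le_iff_le_inv_conj.1 (by
    rw [Transfer.conj_conj]; exact le_ncl (mul_mem p q))))

/-- the full preimage -/
def Cov.pre {x : G} (C : Cov x) (S : Subgroup M) : Subgroup G := (S.comap C.hom).map (Subgroup.subtype _)

theorem Cov.mem_pre {x g : G} (C : Cov x) {S : Subgroup M} : g ∈ C.pre S ↔ g ∈ 𝐂[x] ∧ C.π g ∈ S :=
  ⟨fun ⟨g, a, b⟩ => b ▸ ⟨g.2, a⟩, fun ⟨a, b⟩ => ⟨⟨g, a⟩, b, rfl⟩⟩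

/-- the hexacode module -/
structure Wd (E : Subgroup G) (x b : G) (W : Subgroup G) : Prop where
  sq : ∀ v ∈ W, v * v = 1
  tr : ∀ v ∈ W, tr x v = 1
  z : W ≤ 𝐂[zo x]
  nE : E ≤ 𝐍(W)
  eta : ∃ η ∈ 𝐍(W), η ∈ 𝐂[x] ∧ η * b * η⁻¹ = b * x
  nF : ¬FF E ≤ 𝐍(W)

theorem Wd.fp {E W : Subgroup G} {x b : G} (w : Wd E x b W) (v : G) (p : v ∈ W) (q : v ∈ 𝐂[x]) : v = 1 :=
  eq_one_of_tr q (w.sq v p) (w.tr v p)
theorem zcD (W : Subgroup G) (c : G) : zpowers (zo c) ≤ 𝐂(W ⊓ 𝐂[c]) := zpowers_le.2 (mem_cent.2 fun _ p => zo_comm p.2)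
theorem Wd.zx {E W : Subgroup G} {x b : G} (w : Wd E x b W) (c : G) : zpowers (zo x) ≤ 𝐂(W ⊓ 𝐂[c]) :=
  zpowers_le.2 (le_cent1_iff.1 (inf_le_left.trans w.z))

/-- candidate for `Qa x c` -/
noncomputable def YY (E : Subgroup G) (x : G) (W : Subgroup G) (c : G) : Subgroup G := zpowers (zo x) ⊔ ncl (FF E) (W ⊓ 𝐂[c])

namespace Ba

variable {E : Subgroup G} {x b c g : G} (h : Ba E x b) (T : Six G)
include h T

theorem nc2 : ∃ C : Cov x, C.π b = me ∧ C.π (zo b) = mf := by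
  obtain ⟨C, he⟩ := h.nc T.toFu
  have m := h.zo_F h.mb
  rw [h.FF_eq C he] at m
  have e : my * me * my⁻¹ = me := by rw [← ey, mul_inv_cancel_right]
  rcases Fb_tr m.2.2 (fun e => (C.ker_sq m.1 e m.2.1).elim (h.symm.z1 T) fun e => T.ne h (C.z_zo ▸ e.symm)) f_mem
    with k | k | k | k
  · exact absurd k f_ne
  · exact ⟨C, he, k.symm⟩
  · exact ⟨C.twist my, (congrArg (my * · * my⁻¹) he).trans e, k.symm⟩
  · exact ⟨(C.twist my).twist my, (congrArg (my * · * my⁻¹) ((congrArg (my * · * my⁻¹) he).trans e)).trans e, k.symm⟩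

theorem third : ∃ c, Ba E x c ∧ Ba E b c := ⟨_, h.mul (mem_zpowers x), h.ab ▸ h.symm.mul (mem_zpowers b)⟩

theorem qa_of {Y : Subgroup G} (C : Cov b) (he : C.π x = me) (hf : C.π (zo x) = mf) (l : Y ≤ C.pre Qb)
    (z : zo x ∈ Y) (zc : Y ≤ 𝐂[zo x]) (n : x ∈ 𝐍(Y)) (k : ∀ g ∈ Y, C.π g = 1 → g = 1) (s : Qb ≤ C.im Y) :
    Qa x b = Y ∧ Xs (zo x) x Y ∧ Nat.card Y = 32 ∧ ∀ d ∈ Y, In x b d := by
  have m : ∀ {g}, g ∈ Y → g ∈ 𝐂[b] := fun p => (C.mem_pre.1 (l p)).1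
  have mx := h.symm.pr.mem
  have k2 : ∀ {g}, g ∈ Y → C.π g = 1 ∨ C.π g = mf → g ∈ zpowers (zo x) := fun {g} p e => mem_zp2 (e.imp (k g p) fun e =>
    mul_inv_eq_one.1 (k _ (mul_mem p (inv_mem z)) (by rw [C.mul (m p) (inv_mem (m z)), C.inv (m z), e, hf, mul_inv_cancel])))
  have X : Xs (zo x) x Y := ⟨zo_sq x, z, zc, n, fun {u} p => k2 (mul_mem p p) (by
      rw [C.mul (m p) (m p)]; exact Qb_sq (C.mem_pre.1 (l p)).2), fun {u} p => k2 (tr_mem n p) (by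
      have := m p; pis; rw [he]; exact Qb_tr (C.mem_pre.1 (l p)).2),
    fun u p => k2 p.1 (Qb_cen (C.mem_pre.1 (l p.1)).2 fun v q' => by
      obtain ⟨v, q, r, rfl⟩ := C.mem_im.1 (s q')
      rw [← C.mul r (m p.1), mem_cent.1 p.2 v q, C.mul (m p.1) r])⟩
  have I : ∀ d ∈ Y, In x b d := fun d p => ⟨m p, zc p, X.sq p, X.tr p⟩
  have k3 : ∀ {g}, g ∈ zpowers (zo x) → C.π g = 1 ∨ C.π g = mf := fun p =>
    (zp2_cases (zo_sq x) p).imp (fun e => by rw [e, C.one]) fun e => by rw [e, hf]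
  refine ⟨le_antisymm ((closure_le _).2 fun d i => ?_) fun d p => subset_closure (I d p), X, ?_, I⟩
  · have p := i.c
    obtain ⟨u, q, r, e⟩ := C.mem_im.1 (s (mem_Qb (x := C.π d)
      (by rw [← hf, ← C.mul p (m z), mem_cent1.1 i.z, C.mul (m z) p]) (by rw [← C.mul p p]; exact k3 i.sq)
      (by have := k3 i.tr; rw [← he]; revert this; pis; exact id)))
    obtain ⟨t, t1, t2, rfl⟩ := C.eq_mul p r e.symm
    have c1 : zpowers t ≤ 𝐂(Y) := zpowers_le.2 (mem_cent.2 fun y a => C.cen t1 t2 (m a))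
    have tx : t ∈ 𝐂[x] := mem_cent1.2 (C.cen t1 t2 mx).symm
    have a1 := i.sq
    have a2 := i.tr
    rw [mul_assoc, ← mul_assoc t, ← C.cen t1 t2 r, mul_assoc, ← mul_assoc, mul_mem_cancel_left (X.sq q)] at a1
    rw [tr_mul (cent_symm c1) n (cent_le_norm _ (cent_zpowers t ▸ mem_cent1_symm tx)) q (mem_zpowers t),
      mul_mem_cancel_left (X.tr q), tr_comm tx, pow_succ, pow_two, mul_mem_cancel_left a1] at a2
    exact mul_mem q (X.zle a2)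
  · rw [C.card_im fun _ => m, ← le_antisymm s fun _ p => ?_, card_Qb, show C.kr ⊓ Y = ⊥ from eq_bot_iff.2
      fun g p => mem_bot.2 (k g p.2 (C.mem_kr.1 p.1).2), card_bot, one_mul]
    obtain ⟨u, q, -, rfl⟩ := C.mem_im.1 p
    exact (C.mem_pre.1 (l q)).2

theorem Fz : FF E ≤ 𝐂[zo x] := (h.F_ab T.toFu).trans (cent_le_cent1 (h.zo_F h.ma))

variable {W : Subgroup G} (w : Wd E x b W)
include w

theorem D1 (k : Ba E x c) : ¬FF E ≤ 𝐍(W ⊓ 𝐂[c]) := fun e => by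
  obtain ⟨η, nη, kη, eη⟩ := w.eta
  have eη' : η * x * η⁻¹ = x := by rw [mem_cent1.1 kη, mul_inv_cancel_right]
  have nη' : η ∈ 𝐍(E) := h.norm (eη'.symm ▸ h.ma) (eη ▸ mul_mem h.mb h.ma)
  have st : ∀ c, FF E ≤ 𝐍(W ⊓ 𝐂[c]) → FF E ≤ 𝐍(W ⊓ 𝐂[η * c * η⁻¹]) := fun c e => by
    rw [← conj_cent1, ← conj_eq_of_norm nη, ← Transfer.conj_inf, ← Transfer.conj_normalizer,
      ← conj_eq_of_norm (norm_FF E nη')]
    exact Transfer.conj_mono η e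
  have s1 := st b
  have s2 := st (b * x)
  have s3 := st (b * x⁻¹)
  rw [eη] at s1
  rw [← conj_mul, eη, eη', mul_assoc, show x * x = x⁻¹ from eq_inv_of_mul_eq_one_left (pow_three' x ▸ h.a3)] at s2
  rw [← conj_mul, ← conj_inv, eη, eη', mul_inv_cancel_right] at s3
  have cs : ∀ {c}, c ∈ E → c ≠ 1 → 𝐂[c] = 𝐂[x] ∨ 𝐂[c] = 𝐂[b] ∨ 𝐂[c] = 𝐂[b * x] ∨ 𝐂[c] = 𝐂[b * x⁻¹] := fun p c1 =>
    (h.cases p).imp (cent1_zp h.a3 · c1) (Or.imp (cent1_zp h.b3 · c1) (Or.imp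
      (cent1_zp (h.mul (mem_zpowers x)).b3 · c1) (cent1_zp (h.mul (inv_mem (mem_zpowers x))).b3 · c1)))
  have s0 : FF E ≤ 𝐍(W ⊓ 𝐂[b]) := by
    rcases h.cases k.mb with p | p | p | p
    exacts [absurd p k.pr.nmem, cent1_zp h.b3 p k.b1 ▸ e, s3 (s2 (cent1_zp (h.mul (mem_zpowers x)).b3 p k.b1 ▸ e)),
      s3 (cent1_zp (h.mul (inv_mem (mem_zpowers x))).b3 p k.b1 ▸ e)]
  refine w.nF fun f p => Transfer.mem_normalizer_of_conj_le (Transfer.conj_le_iff_le_inv_conj.2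
    (h.gen w.nE (n3_of_pg (pg_of_sq w.sq)) fun c q c1 => Transfer.conj_le_iff_le_inv_conj.1 ?_))
  have : FF E ≤ 𝐍(W ⊓ 𝐂[c]) := by
    rcases cs q c1 with r | r | r | r <;> rw [r]
    exacts [by rw [show W ⊓ 𝐂[x] = ⊥ from eq_bot_iff.2 fun v p => mem_bot.2 (w.fp v p.1 p.2), norm_bot]; exact le_top,
      s0, s1 s0, s2 (s1 s0)]
  rw [conj_eq_of_norm (this p)]
  exact inf_le_left

theorem Yz (c : G) : YY E x W c ≤ 𝐂[zo x] := sup_le (zpowers_le.2 (self_mem_cent1 _))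
  (ncl_le' (inf_le_left.trans w.z) (norm_cent1 (h.Fz T)))

theorem D2 {d : G} (k1 : Ba E x c) (k2 : Ba E x d) (k3 : Ba E c d) : YY E x W c ≤ 𝐂(YY E x W d) := by
  refine sup_le (zpowers_le.2 (le_cent1_iff.1 (h.Yz T w d))) (le_cent_sup ((le_sup_right.trans (h.Yz T w c)).trans (cent_zpowers _).ge)
    (cent_symm (ncl_le' (cent_symm ?_) (norm_cent norm_ncl))))
  have a : W ⊓ 𝐂[c] ≤ 𝐂(W ⊓ 𝐂[d]) := cent_mono (comm_of_sq w.sq) inf_le_left inf_le_left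
  have fz : ∀ {e}, e ∈ E → zpowers (zo e) ≤ 𝐂(W ⊓ 𝐂[c]) → zo e ∈ 𝐍(W ⊓ 𝐂[c] ⊔ zo d ⋆ (W ⊓ 𝐂[c])) := fun {e} p q =>
    norm_of_conj_eq (by
      rw [Transfer.conj_sup, Transfer.conj_conj, le_cent_iff.1 (h.F_ab T.toFu) _ (h.zo_F p) _ (h.zo_F k2.mb),
        ← Transfer.conj_conj, conj_eq_of_cent (q (mem_zpowers _))])
  refine (ncl_le' le_sup_left (k1.F_le3 T k2 k3 (fz h.ma (w.zx c)) (fz k1.mb (zcD W c)) (norm_of_conj_eq ?_))).trans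
    (sup_le a (conj_le_of_norm a (norm_cent (norm_of_cent (zcD W d)) (mem_zpowers _))))
  rw [Transfer.conj_sup, Transfer.conj_conj, zo_sq, Transfer.conj_one, sup_comm]

theorem key (k : Ba E x c) : ∃ C : Cov c, C.π x = me ∧ C.π (zo x) = mf ∧ Qb ≤ C.im (YY E x W c) ∧ Qa x c = YY E x W c ∧
    Xs (zo x) x (YY E x W c) ∧ Nat.card (YY E x W c) = 32 ∧ ∀ d ∈ YY E x W c, In x c d := by
  obtain ⟨C, he, hf⟩ := k.symm.nc2 T
  obtain ⟨d, k2, k3⟩ := k.third T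
  have mz := cent_le_cent1 k.mb (FF_le E (h.zo_F h.ma))
  have mx := k.symm.pr.mem
  have gn : ∀ f ∈ FF E, ∀ v ∈ W ⊓ 𝐂[c], f * v * f⁻¹ ∈ 𝐂[c] ∧ f * v * f⁻¹ * (f * v * f⁻¹) = 1 ∧ tr x (f * v * f⁻¹) = 1 ∧
      C.π (f * v * f⁻¹) ∈ Qb := fun f p v q => by
    have a1 : f * v * f⁻¹ ∈ 𝐂[c] := conj_mem_of_norm (norm_cent1 ((FF_le E).trans (cent_le_cent1 k.mb)) p) q.2
    have a2 : f * v * f⁻¹ * (f * v * f⁻¹) = 1 := by rw [conj_mul, w.sq v q.1, mul_one, mul_inv_cancel]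
    have a3 : tr x (f * v * f⁻¹) = 1 := by
      have := tr_conj f x v
      rwa [mem_cent1.1 (cent_le_cent1 h.ma (FF_le E p)), mul_inv_cancel_right, w.tr v q.1, mul_one, mul_inv_cancel] at this
    have a4 := mem_cent1.1 (conj_mem_of_norm (norm_cent1 (h.Fz T) p) (w.z q.1))
    generalize f * v * f⁻¹ = u at *
    exact ⟨a1, a2, a3, mem_Qb (by rw [← hf, ← C.mul a1 mz, a4, C.mul mz a1]) (Or.inl (by rw [← C.mul a1 a1, a2, C.one]))
      (Or.inl (by have := congrArg C.π a3; rw [← he]; revert this; pis; exact id))⟩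
  have l : YY E x W c ≤ C.pre Qb := sup_le (zpowers_le.2 (C.mem_pre.2 ⟨mz, hf ▸ f_Qb⟩)) (ncl_le fun f p =>
    Transfer.conj_le_iff.2 fun v q => C.mem_pre.2 ⟨(gn f p v q).1, (gn f p v q).2.2.2⟩)
  have m : ∀ {g}, g ∈ YY E x W c → g ∈ 𝐂[c] := fun p => (C.mem_pre.1 (l p)).1
  have nD : x ∈ 𝐍(W ⊓ 𝐂[c]) := norm_inf w.nE (norm_cent1 (h.le_c k.mb)) h.ma
  have nY : x ∈ 𝐍(YY E x W c) := norm_of_conj_eq (by
    rw [YY, Transfer.conj_sup, Transfer.conj_zpowers, zo_comm (self_mem_cent1 x), mul_inv_cancel_right]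
    refine congrArg _ (conj_eq_of_norm (Transfer.mem_normalizer_of_conj_le (Transfer.conj_le_iff_le_inv_conj.2
      (ncl_le fun f p => Transfer.conj_le_iff_le_inv_conj.1 ?_))))
    rw [Transfer.conj_conj, ← mem_cent1.1 (cent_le_cent1 h.ma (FF_le E p)), ← Transfer.conj_conj, conj_eq_of_norm nD]
    exact le_ncl p)
  have inj : ∀ g ∈ YY E x W c, C.π g = 1 → g = 1 := fun g p e => by
    have a := cent_anti (le_ncl'.trans le_sup_right) (h.D2 T w k k2 k3 p)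
    rcases C.cube (m p) e with t | t
    · by_contra g1
      refine h.D1 T w k2 ?_
      rw [show W ⊓ 𝐂[d] = ⊥ from eq_bot_iff.2 fun v q => mem_bot.2 (w.fp v q.1 (cent_le_cent1 h.ma (k3.mem_cE.2
        ⟨cent1_zp k.b3 (C.ker_cube (m p) e t) g1 ▸ le_cent1_iff.2 a q, q.2⟩))), norm_bot]
      exact le_top
    · exact absurd (k.F_le3 T k2 k3 (norm_of_cent (w.zx d) (mem_zpowers _)) (cent_le_norm _ (C.z_zo ▸ t ▸ pow_mem a 3))
        (norm_of_cent (zcD W d) (mem_zpowers _))) (h.D1 T w k2)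
  have s : Qb ≤ C.im (YY E x W c) := by
    have := h.D1 T w k
    rw [le_norm_iff] at this
    push Not at this
    obtain ⟨f, p, v, q, n⟩ := this
    obtain ⟨a1, a2, a3, a4⟩ := gn f p v q
    obtain ⟨-, b2, b3, b4⟩ := gn 1 (one_mem _) v q
    rw [one_mul, inv_one, mul_one] at b2 b3 b4
    have y1 : ∀ {v}, v ∈ W ⊓ 𝐂[c] → v ∈ YY E x W c := fun q => mem_sup_right (le_ncl' q)
    have y2 : f * v * f⁻¹ ∈ YY E x W c := mem_sup_right (le_ncl p (Transfer.conj_mem_conj.2 q))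
    have v1 : v ≠ 1 := fun e => n (by rw [e, mul_one, mul_inv_cancel]; exact one_mem _)
    generalize f * v * f⁻¹ = u at *
    have ne : ∀ {w}, w ∈ W ⊓ 𝐂[c] → C.π u ≠ C.π w := fun {w} r e => n (by
      rw [mul_inv_eq_one.1 (inj _ (mul_mem y2 (inv_mem (y1 r))) (by rw [C.mul a1 (inv_mem r.2), C.inv r.2, e, mul_inv_cancel]))]
      exact r)
    have t : ∀ {w}, w ∈ 𝐂[c] → tr x w = 1 → tr me (C.π w) = 1 := fun a e => by
      have := congrArg C.π e; rw [← he]; revert this; pis; exact id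
    have t2 : ∀ {w}, w ∈ 𝐂[c] → C.π (x * w * x⁻¹) = me * C.π w * me⁻¹ := fun a => by pis; rw [he]
    have q2 : v ∈ 𝐂[c] := q.2
    refine (Qb_nd b4 (by rw [← C.mul q2 q2, b2, C.one]) (fun e => v1 (inj v (y1 q) e)) (t q2 b3) a4
      (by rw [← C.mul a1 a1, a2, C.one]) (C.one ▸ ne (one_mem _)) (t a1 a3) (ne q) (t2 q2 ▸ ne (conj_mem_of_norm nD q))
      (fun e => ne (sq_conj nD q) (by pis; rwa [he]))).2 _ (hf ▸ C.π_mem (mem_sup_left (mem_zpowers _)) mz)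
      (C.π_mem (y1 q) q2) (t2 q2 ▸ C.π_mem (conj_mem_of_norm nY (y1 q)) (by gmem)) (C.π_mem y2 a1)
      (t2 a1 ▸ C.π_mem (conj_mem_of_norm nY y2) (by gmem))
  exact ⟨C, he, hf, s, k.qa_of T C he hf l (mem_sup_left (mem_zpowers _)) (h.Yz T w c) nY inj s⟩

omit w in
theorem qa_main : (Xs (zo x) x (Qa x b) ∧ Nat.card (Qa x b) = 32 ∧ (∀ d ∈ Qa x b, In x b d) ∧
    ∃ C : Cov b, C.π x = me ∧ C.π (zo x) = mf ∧ Qb ≤ C.im (Qa x b)) ∧
    ∀ c, Ba E x c → Ba E b c → Qa x b ≤ 𝐂(Qa x c) := by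
  obtain ⟨W, η, w2, wt, wz, nE, nη, kη, eη, nF⟩ := h.exists_W T
  have w : Wd E x b W := ⟨w2, wt, wz, nE, ⟨η, nη, kη, eη⟩, nF⟩
  obtain ⟨C, he, hf, s, e, X, n, I⟩ := h.key T w h
  refine ⟨e ▸ ⟨X, n, I, C, he, hf, s⟩, fun c k k' => ?_⟩
  obtain ⟨-, -, -, -, e', -⟩ := h.key T w k
  rw [e, e']
  exact h.D2 T w h k k'

end Ba

end Cfsg.Lib.J43
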