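import Cfsg.Agent.Lib.J43.Four

/-! # The case `C(A) = A ⟨a⟩` -/

set_option autoImplicit false
set_option linter.unusedSectionVars false

namespace Cfsg.Lib.J43

open Subgroup Cfsg.Lib.BG
open scoped Cfsg.Lib.Transfer

variable {G : Type*} [Group G] [Finite G]

theorem q_one {N : Subgroup G} {a : 𝐍(N)} : qhom N a = 1 ↔ (a : G) ∈ N := QuotientGroup.eq_one_iff _

theorem q_conj {N : Subgroup G} (g : 𝐍(N)) (X : Subgroup G) : quo ((g : G) ⋆ X) N = qhom N g ⋆ quo X N := by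
  ext y
  rw [Transfer.mem_conj]
  refine ⟨fun ⟨x, a, b⟩ => ⟨g⁻¹ * x * g, (Transfer.mem_conj (H := X)).1 a, by rw [← b]; simp⟩, fun ⟨x, a, b⟩ =>
    ⟨g * x * g⁻¹, (Transfer.conj_mem_conj (H := X)).2 a, by simp only [map_mul, map_inv, b]; group⟩⟩

theorem q_sq {N X : Subgroup G} (h : ∀ v ∈ X, v * v = 1) : ∀ v ∈ quo X N, v * v = 1 := fun _ ⟨x, a, b⟩ => by
  rw [← b, ← map_mul, show x * x = 1 from Subtype.ext (h x a), map_one]

theorem n2_zp {a : G} (h : a ^ 3 = 1) : ¬2 ∣ Nat.card (zpowers a) := fun e =>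
  absurd (pgroup_eq_of_dvd (pg_zp h) Nat.prime_two e) (by norm_num)

/-- `C(A) = A ⟨a⟩` -/
def Sm (E : Subgroup G) (a : G) : Prop := 𝐂(AA E a) ≤ AA E a ⊔ zpowers a

namespace Ba

variable {E : Subgroup G} {a b g j : G} (h : Ba E a b) (T : Fu G) (s : Sm E a)
include h T s

theorem sm_all {c : G} (p : c ∈ E) (c1 : c ≠ 1) : Sm E c := by
  obtain ⟨d, k⟩ := h.ex p c1
  obtain ⟨g, m, rfl, -⟩ := h.trans T k
  rw [Sm, ← conj_AA' m, ← Transfer.conj_centralizer, ← Transfer.conj_zpowers, ← Transfer.conj_sup]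
  exact Transfer.conj_mono g s

theorem sm_conj {c d : G} (k : Ba E c d) (e : g ⋆ AA E c = AA E a) : g * c * g⁻¹ ∈ zpowers a :=
  le_of_p' (H := zpowers (g * c * g⁻¹)) (zpowers_le.2 (sup_comm (AA E a) _ ▸ s (by
    rw [← e, ← Transfer.conj_centralizer]
    exact Transfer.conj_mem_conj.2 (k.a_cA T (mem_zpowers c))))) (norm_of_cent (cent_symm (h.a_cA T))) (h.A_pg T)
    (n2_zp (k.conj g).a3) (mem_zpowers _)

theorem sm_norm : 𝐍(AA E a) ≤ 𝐍(zpowers a) := fun g p => Transfer.mem_normalizer_of_conj_le (by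
  rw [Transfer.conj_zpowers]; exact zpowers_le.2 (h.sm_conj T s h (conj_eq_of_norm p)))

variable (i : Iv E j) {P : Subgroup G} (hP : IsPGroup 2 P) (l1 : AA E a ≤ P) (l2 : P ≤ 𝐂(FF E))
include i hP l1 l2

theorem sm_St : P ⊓ St (AA E a) (FF E) ≤ AA E a :=
  le_of_p' (fun _ p => h.sc T i (h.sm_norm T s (St.norm (h.F_le T) p.2)) (l2 p.1) p.2) (norm_of_cent (h.a_cA T))
    (pg_zp h.a3) (n3_of_pg (pgroup_of_le hP inf_le_left))

theorem sm_cyc : ∃ c ∈ quo (AA E a) (FF E), c ≠ 1 ∧ quo P (FF E) ≤ 𝐂[c] ∧ ∃ r ∈ quo P (FF E),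
    (zpowers r).relIndex (quo P (FF E)) = 2 ∧ c ∈ zpowers r := by
  have n := (AA_le' E a).trans (cent_le_norm _)
  refine cyc_two (pgroup_quo hP _) (quo_mono l1 _) (q_sq fun _ => h.A_sq T) (by rw [card_quo n, h.idx_F T]) ?_
  rintro _ ⟨⟨x, p, rfl⟩, q⟩
  refine ⟨x, h.sm_St T s i hP l1 l2 ⟨p, x.2, fun v r => (q_one (a := x * ⟨v, n r⟩ * x⁻¹ * ⟨v, n r⟩⁻¹)).1 ?_⟩, rfl⟩
  simp only [map_mul, map_inv]
  rw [← mem_cent.1 q _ ⟨⟨v, n r⟩, r, rfl⟩]; group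

theorem sm_two : ∃ c ∈ AA E a, c ∉ FF E ∧ P ≤ 𝐍(FF E ⊔ zpowers c) ∧ ∃ Q : Subgroup G, FF E ⊔ zpowers c ≤ Q ∧
    Q.relIndex P = 2 ∧ ∀ g ∈ Q, g * g ∈ FF E → g ∈ FF E ⊔ zpowers c := by
  obtain ⟨_, ⟨c, p, rfl⟩, c1, q, r, r1, r2, r3⟩ := h.sm_cyc T s i hP l1 l2
  have n := l2.trans (cent_le_norm _)
  have e : copre (FF E) (zpowers (qhom _ c)) = FF E ⊔ zpowers (c : G) := by
    rw [← copre_quo (zpowers_le.2 c.2), quo_def, ← MonoidHom.map_zpowers]
    congr 2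
    rw [← map_subtype_inj, subOf_map (zpowers_le.2 c.2), MonoidHom.map_zpowers]; rfl
  refine ⟨c, p, fun e => c1 (q_one.2 e), e ▸ norm_copre n (norm_of_cent (by rwa [cent_zpowers])),
    copre _ (zpowers r), e ▸ copre_mono (zpowers_le.2 r3), ?_, fun g a b => ?_⟩
  · rw [← relIndex_quo (Nml.copre_self _) n ((copre_le_iff ⟨(h.F_le T).trans l1, n⟩).2 (zpowers_le.2 r1)), quo_copre, r2]
  · obtain ⟨m, a⟩ := mem_copre.1 a
    exact e ▸ mem_copre.2 ⟨m, inv_unique r3 (q_sq (fun _ => h.A_sq T) _ ⟨c, p, rfl⟩) c1 a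
      (by rw [← map_mul]; exact q_one.2 b)⟩

omit hP l1 l2 in
theorem sm_zo : zo a = zo b := by
  obtain ⟨P, S, l1⟩ := Syl.exists_ge (p := 2) (h.A_pg T) (AA_le' E a)
  obtain ⟨-, -, -, -, r, r1, r2, -⟩ := h.sm_cyc T s i S.pgroup l1 S.le
  let c : Fin 3 → G := ![a, b, b * a]
  have k : ∀ k l, k ≠ l → Ba E (c k) (c l) := fun k l e => by
    have h1 := h.mul (mem_zpowers a)
    have h2 := h.symm.mul (mem_zpowers b)
    rw [h.ab] at h2
    fin_cases k <;> fin_cases l <;> first | exact absurd rfl e | assumption | exact h.symm | exact h1.symm | exact h2.symm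
  have k' : ∀ k, ∃ d, Ba E (c k) d := fun l => ⟨_, k l (l + 1) (by revert l; decide)⟩
  choose d k' using k'
  choose g g1 g2 using fun k => S.exists_conj_le ((k' k).A_pg T) (AA_le' E _)
  have n := S.le.trans (cent_le_norm _)
  have N : ∀ k, Nml (FF E) (g k ⋆ AA E (c k)) := fun k =>
    ⟨conj_eq_of_cent (g1 k) ▸ Transfer.conj_mono _ ((k' k).F_le T), (g2 k).trans n⟩
  obtain ⟨k0, l, ne, _, ⟨x, p, rfl⟩, e⟩ := four_conj r1 r2 (V := fun k => quo (g k ⋆ AA E (c k)) (FF E))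
    (fun k => quo_mono (g2 k) _) (fun k => q_sq fun v p => by
      have := (k' k).A_sq T (Transfer.mem_conj.1 p)
      rwa [show ∀ x, (g k)⁻¹ * v * g k * ((g k)⁻¹ * x * g k) = (g k)⁻¹ * (v * x) * (g k)⁻¹⁻¹ from fun _ => by group,
        conj_eq_one_iff] at this) fun k => by
      rw [card_quo (N k).norm, ← (k' k).idx_F T, ← Transfer.relIndex_conj (g k) (FF E) (AA E (c k)),
        conj_eq_of_cent (g1 k)]
  rw [← q_conj] at e
  replace e := quo_inj (by have := (N k0).conj x; rwa [conj_eq_of_norm x.2] at this) (N l) e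
  rw [Transfer.conj_conj, ← Transfer.conj_inj (g := (g l)⁻¹), Transfer.conj_conj, Transfer.conj_conj,
    inv_mul_cancel, Transfer.conj_one] at e
  have m := (k' l).sm_conj T (h.sm_all T s (k' l).ma (k' l).a1) (k' k0) e
  have := T.zo_eq (k' l).a3 m ((k' k0).conj _).a1
  rw [zo_conj, ← mem_cent.1 (mul_mem (inv_mem (g1 l)) (mul_mem (show (x : G) ∈ _ from S.le p) (g1 k0))) _ (h.zo_F (k' k0).ma),
    mul_inv_cancel_right] at this
  exact (k k0 l ne).zo_all T this h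

end Ba

end Cfsg.Lib.J43
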