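import Cfsg.Agent.Lib.J43.Cov
import Cfsg.Agent.Lib.J4T.Gen2
import Cfsg.Agent.Lib.BG.Quo
import Cfsg.Agent.Lib.BG.T01_Cyclic

/-! # The 3-structure -/

set_option autoImplicit false

namespace Cfsg.Lib.J43

open Subgroup Cfsg.Lib.BG
open scoped Cfsg.Lib.Transfer

variable {G : Type*} [Group G]

/-- `⟨x, ε⟩` is elementary abelian of order 9 -/
structure Pr (x ε : G) : Prop where
  e3 : ε ^ 3 = 1
  mem : ε ∈ 𝐂[x]
  nmem : ε ∉ zpowers x

instance fact3 : Fact (Nat.Prime 3) := ⟨Nat.prime_three⟩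

theorem pg_zp {p : ℕ} {a : G} (h : a ^ p = 1) : IsPGroup p (zpowers a) := by
  rintro ⟨_, i, rfl⟩
  refine ⟨1, Subtype.ext ?_⟩
  change (a ^ i) ^ p ^ 1 = 1
  rw [pow_one, ← zpow_natCast, ← zpow_mul, mul_comm, zpow_mul, zpow_natCast, h, one_zpow]

theorem Pr.ne {x ε : G} (h : Pr x ε) : ε ≠ 1 := fun e => h.nmem (e ▸ one_mem _)
theorem Pr.ord {x ε : G} (h : Pr x ε) : orderOf ε = 3 := orderOf_eq_prime h.e3 h.ne
theorem Pr.comm {x ε : G} (h : Pr x ε) : Commute ε x := mem_cent1.1 h.mem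

theorem Pr.conj {x ε : G} (h : Pr x ε) (g : G) : Pr (g * x * g⁻¹) (g * ε * g⁻¹) :=
  ⟨by rw [conj_pow, h.e3, mul_one, mul_inv_cancel], by rw [← conj_cent1]; exact Transfer.conj_mem_conj.2 h.mem,
    by rw [← Transfer.conj_zpowers]; exact fun e => h.nmem (Transfer.conj_mem_conj.1 e)⟩

theorem Pr.mul {x ε c : G} (h : Pr x ε) (hx : x ^ 3 = 1) (hc : c ∈ zpowers x) : Pr x (ε * c) := by
  have := zpowers_le.2 (self_mem_cent1 x) hc
  obtain ⟨i, rfl⟩ := id hc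
  exact ⟨by rw [(h.comm.zpow_right i).mul_pow, h.e3, cube_of_zp hx hc, one_mul], mul_mem h.mem this,
    fun e => h.nmem ((mul_mem_cancel_right hc).1 e)⟩

theorem Pr.symm [Finite G] {x ε : G} (h : Pr x ε) (hx : orderOf x = 3) : Pr ε x :=
  ⟨hx ▸ pow_orderOf_eq_one x, mem_cent1_symm h.mem, fun e => h.nmem (by
    rw [zpowers_eq_of_prime (A := zpowers ε) (by rw [Nat.card_zpowers, h.ord]; exact Nat.prime_three) e
      (fun e => by rw [e, orderOf_one] at hx; cases hx)]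
    exact mem_zpowers ε)⟩

namespace Cov

variable {x : G} (C : Cov x) {g k ε : G}

/-- the kernel -/
def kr : Subgroup G := C.hom.ker.map (Subgroup.subtype _)

theorem mem_kr : g ∈ C.kr ↔ g ∈ 𝐂[x] ∧ C.π g = 1 :=
  ⟨fun ⟨g, a, b⟩ => b ▸ ⟨g.2, a⟩, fun ⟨a, b⟩ => ⟨⟨g, a⟩, b, rfl⟩⟩

theorem kr_eq : C.kr = zpowers (x * C.z) := by
  have cm : Commute x C.z := C.zc (self_mem_cent1 x)
  have a : (x * C.z) ^ 3 = C.z := by rw [cm.mul_pow, C.x3, pow_succ, pow_two, C.z2]; simp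
  have b : x ∈ zpowers (x * C.z) := by
    have := mul_mem (mem_zpowers (x * C.z)) (pow_mem (mem_zpowers (x * C.z)) 3)
    rwa [a, mul_assoc, C.z2, mul_one] at this
  have c : C.z ∈ zpowers (x * C.z) := Set.mem_of_eq_of_mem a.symm (pow_mem (mem_zpowers _) 3)
  refine le_antisymm (fun g hg => ?_) (zpowers_le.2 (C.mem_kr.2 ⟨mul_mem (self_mem_cent1 x) C.zK, by
    rw [C.mul (self_mem_cent1 x) C.zK, C.πx, C.πz, one_mul]⟩))
  obtain ⟨h1, h2⟩ := C.mem_kr.1 hg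
  exact ((C.ker h1).1 h2).elim (fun e => zpowers_le.2 b e) fun e => (mul_mem_cancel_right c).1 (zpowers_le.2 b e)

theorem card_kr_dvd : Nat.card C.kr ∣ 6 := by
  rw [kr_eq, Nat.card_zpowers, orderOf_dvd_iff_pow_eq_one, Commute.mul_pow (C.zc (self_mem_cent1 x)),
    show 6 = 3 * 2 from rfl, pow_mul, C.x3, mul_comm 3, pow_mul, pow_two C.z, C.z2]; simp

theorem card_im [Finite G] {S : Subgroup G} (h : S ≤ 𝐂[x]) : Nat.card S = Nat.card ↥(C.kr ⊓ S) * Nat.card (C.im S) :=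
  J4T.card_le_ker_mul C.hom h (comap_map_eq_self_of_injective (subtype_injective _) _).symm

theorem im_top : C.im 𝐂[x] = ⊤ := top_le_iff.1 fun m _ => by
  obtain ⟨g, a, rfl⟩ := C.surj m
  exact C.π_mem a a

theorem card_K [Finite G] : Nat.card 𝐂[x] = Nat.card C.kr * 443520 := by
  rw [C.card_im le_rfl, im_top, card_top, Mathieu.card_M22, inf_eq_left.2 fun g hg => (C.mem_kr.1 hg).1]

include C in
theorem syl_of_card [Finite G] {U : Subgroup G} (h : U ≤ 𝐂[x]) (hU : IsPGroup 3 U) (hc : 27 ∣ Nat.card U) :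
    Syl 3 U 𝐂[x] := Syl.mk' h hU fun e => by
  have := mul_dvd_mul hc e
  rw [card_mul_relIndex h, C.card_K] at this
  exact absurd (this.trans (mul_dvd_mul_right C.card_kr_dvd _)) (by norm_num)

theorem π_ne (h : Pr x ε) : C.π ε ≠ 1 := fun e => h.nmem (C.ker_cube h.mem e h.e3)

theorem π_cube (hk : k ∈ 𝐂[x]) (h : k ^ 3 = 1) : C.π k ^ 3 = 1 := by rw [← C.pow hk, h, C.one]

theorem exists_norm (h : Pr x ε) : ∃ C' : Cov x, C'.π ε = me ∧ C'.z = C.z := by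
  obtain ⟨m, e⟩ := conj3 (C.π_cube h.mem h.e3) (C.π_ne h) e3 e_ne
  exact ⟨C.twist m, e, rfl⟩

theorem lift3 (h : Pr x ε) {m : M} (hm : m ^ 3 = 1) (m1 : m ≠ 1) : ∃ k ∈ 𝐂[x], C.π (k * ε * k⁻¹) = m := by
  obtain ⟨l, e⟩ := conj3 (C.π_cube h.mem h.e3) (C.π_ne h) hm m1
  obtain ⟨l, a, rfl⟩ := C.surj l
  have := h.mem
  exact ⟨l, a, by pis; exact e⟩

theorem exists_eta [Finite G] (h : Pr x ε) (he : C.π ε = me) : ∃ η ∈ 𝐂[x], η ^ 3 = 1 ∧ C.π η = my ∧
    (η * ε * η⁻¹ = ε * x ∨ η * ε * η⁻¹ = ε * x⁻¹) := by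
  obtain ⟨k, a, b⟩ := C.lift3 h y3 y_ne
  have m := h.mem
  have c : (k * ε * k⁻¹) ^ 3 = 1 := by rw [conj_pow, h.e3, mul_one, mul_inv_cancel]
  have d : k * ε * k⁻¹ ∈ 𝐂[x] := by gmem
  generalize k * ε * k⁻¹ = η at b c d
  refine ⟨η, d, c, b, ?_⟩
  obtain ⟨t, t1, t2, t3⟩ := C.eq_mul (g := η * ε * η⁻¹) (by gmem) m (by pis; rw [b, he, ← ey, mul_inv_cancel_right])
  have t4 : t ^ 3 = 1 := by
    have := congrArg (· ^ 3) t3
    simp only [conj_pow, h.e3, (Commute.mul_pow (C.cen t1 t2 m) 3), one_mul] at this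
    rw [← this]; group
  rcases zp_cases C.x3 (C.ker_cube t1 t2 t4) with rfl | rfl | rfl
  · exfalso
    rw [mul_one, mul_inv_eq_iff_eq_mul] at t3
    have ab : ∀ {a : G}, IsMulCommutative (zpowers a) := abelian_of_cyclic inferInstance
    have zc : ∀ {a b : G}, a * b = b * a → zpowers a ≤ 𝐂(zpowers b) := fun e => by
      rw [cent_zpowers]; exact zpowers_le.2 (mem_cent1.2 e)
    have c1 : zpowers x ≤ 𝐂(zpowers ε) := zc h.comm.symm
    have c2 : zpowers x ⊔ zpowers ε ≤ 𝐂(zpowers η) := sup_le (zc (mem_cent1.1 d).symm) (zc t3.symm)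
    have le : zpowers x ⊔ zpowers ε ⊔ zpowers η ≤ 𝐂[x] :=
      sup_le (sup_le (zpowers_le.2 (self_mem_cent1 x)) (zpowers_le.2 m)) (zpowers_le.2 d)
    have mx : x ∈ zpowers x ⊔ zpowers ε ⊔ zpowers η := mem_sup_left (mem_sup_left (mem_zpowers x))
    have S := C.syl_of_card le (pgroup_sup (pgroup_sup (pg_zp C.x3) (pg_zp h.e3) (norm_of_cent (cent_symm c1)))
      (pg_zp c) (norm_of_cent (cent_symm c2))) (by
      rw [C.card_im le]
      refine mul_dvd_mul (a := 3) (c := 9) ?_ (nine_le (he ▸ C.π_mem (mem_sup_left (mem_sup_right (mem_zpowers _))) m)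
        (b ▸ C.π_mem (mem_sup_right (mem_zpowers _)) d))
      rw [← C.ord, ← Nat.card_zpowers]
      exact card_dvd (zpowers_le.2 ⟨C.mem_kr.2 ⟨self_mem_cent1 x, C.πx⟩, mx⟩))
    have A := abelian_sup (abelian_sup ab ab c1) ab c2
    generalize zpowers x ⊔ zpowers ε ⊔ zpowers η = U at *
    have : IsMulCommutative (U.subgroupOf 𝐂[x]) := abelian_iff.2 (subOf_le_cent (abelian_cent A) _)
    have := Transfer.inf_commutator_inf_center_eq_bot_of_abelian_hall (U.subgroupOf 𝐂[x])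
      (by rw [subOf_card le]; exact S.coprime)
    refine C.x_ne (congrArg Subtype.val (mem_bot.1 (this.le (show (⟨x, self_mem_cent1 x⟩ : 𝐂[x]) ∈ _ from
      ⟨⟨mx, ?_⟩, mem_center_iff.2 fun g => Subtype.ext (mem_cent1.1 g.2)⟩))))
    have := C.perf (self_mem_cent1 x)
    rw [← Subgroup.map_subtype_commutator] at this
    obtain ⟨y, y1, y2⟩ := this
    exact (Subtype.ext y2 : y = ⟨x, self_mem_cent1 x⟩) ▸ y1
  · exact Or.inl t3
  · exact Or.inr t3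

include C in
theorem eta [Finite G] (h : Pr x ε) : ∃ η ∈ 𝐂[x], η ^ 3 = 1 ∧ η * ε * η⁻¹ = ε * x := by
  obtain ⟨C, e, -⟩ := C.exists_norm h
  obtain ⟨η, a, b, -, d | d⟩ := C.exists_eta h e
  · exact ⟨η, a, b, d⟩
  · refine ⟨η⁻¹, inv_mem a, by rw [inv_pow, b, inv_one], ?_⟩
    calc _ = η⁻¹ * (ε * x⁻¹) * (x * η) := by group
      _ = _ := by rw [← d, ← mem_cent1.1 a]; group

include C in
theorem conj_K [Finite G] (h : Pr x ε) (h' : Pr x k) : ∃ l ∈ 𝐂[x], l * ε * l⁻¹ = k := by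
  obtain ⟨l, a, b⟩ := C.lift3 h (C.π_cube h'.mem h'.e3) (C.π_ne h')
  have p : Pr x (l * ε * l⁻¹) := by
    have := h.conj l
    rwa [mem_cent1.1 a, mul_inv_cancel_right] at this
  obtain ⟨η, c, d, e⟩ := C.eta p
  obtain ⟨t, t1, t2, t3⟩ := C.eq_mul h'.mem p.mem b.symm
  have t4 : t ^ 3 = 1 := by
    have := h'.e3
    rwa [t3, Commute.mul_pow (C.cen t1 t2 p.mem), p.e3, one_mul] at this
  rcases zp_cases C.x3 (C.ker_cube t1 t2 t4) with rfl | rfl | rfl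
  · exact ⟨l, a, by rw [t3, mul_one]⟩
  · exact ⟨η * l, mul_mem c a, by rw [t3, ← e]; group⟩
  · refine ⟨η * η * l, by gmem, ?_⟩
    calc _ = η * (η * (l * ε * l⁻¹) * η⁻¹) * η⁻¹ := by group
      _ = η * (l * ε * l⁻¹) * η⁻¹ * (η * x * η⁻¹) := by nth_rw 1 [e]; group
      _ = _ := by
        rw [e, mem_cent1.1 c, mul_inv_cancel_right, t3, mul_assoc, ← pow_two, eq_inv_of_mul_eq_one_left
          (show x ^ 2 * x = 1 by rw [← pow_succ, C.x3])]

include C in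
theorem syl [Finite G] (h : Pr x ε) : ∃ U ≤ 𝐂[x], Syl 3 U ⊤ ∧ (∀ u ∈ U, u ^ 3 = 1) ∧ 𝐙(U) = zpowers x := by
  obtain ⟨η, a, b, d⟩ := C.eta h
  obtain ⟨U, H⟩ := J4T.exists_heis (p := 3) (by decide) b h.e3 C.ord (by
    rw [mul_assoc, mem_cent1.1 a, ← mul_assoc, ← d]; group) (mem_cent1.1 a) h.comm
  have p : IsPGroup 3 U := IsPGroup.of_card H.card
  have S := C.syl_of_card H.le_cen p (H.card ▸ dvd_rfl)
  refine ⟨U, H.le_cen, Syl.of_norm ?_, H.pow, H.cen⟩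
  rw [top_inf_eq]
  refine Syl.mk' (le_norm _) p fun e => ?_
  rw [← relIndex_mul_relIndex U (𝐍(U) ⊓ 𝐂[x]) _ (le_inf (le_norm _) H.le_cen) inf_le_left] at e
  rcases Nat.prime_three.dvd_mul.1 e with e | e
  · exact Syl.not_dvd' (S.of_le (le_inf (le_norm _) H.le_cen) inf_le_right) e
  · have := index_cent_prime_dvd (p := 3) (by rw [Nat.card_zpowers, C.ord]) H.norm_le
    rw [cent_zpowers] at this
    rw [inf_relIndex_left] at e
    exact absurd (e.trans this) (by norm_num)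

end Cov

end Cfsg.Lib.J43
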