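import Cfsg.Agent.Lib.J43.Q0
import Cfsg.Agent.Lib.J4T.Red

/-! # The group `Q N(⟨x⟩)` -/

set_option autoImplicit false
set_option linter.unusedSectionVars false

namespace Cfsg.Lib.J43

open Subgroup Cfsg.Lib.BG
open scoped Cfsg.Lib.Transfer

variable {G : Type*} [Group G] [Finite G]

theorem aut_iso {S : Type*} [Group S] [Finite S] {N : Subgroup G} [N.Normal] (e : N ≃* S)
    (hc : 𝐂(N) = ⊥) (h : Nat.card G = Nat.card (MulAut S)) : Nonempty (G ≃* MulAut S) := by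
  let φ := (MulAut.congr e).toMonoidHom.comp (MulAut.conjNormal (H := N))
  have i : Function.Injective φ := (MulAut.congr e).injective.comp ((injective_iff_map_eq_one _).2 fun g hg =>
    hc.le fun x hx => (mul_inv_eq_iff_eq_mul.1 (congrArg (fun a : MulAut N => (a ⟨x, hx⟩ : G)) hg)).symm)
  exact ⟨.ofBijective φ (i.bijective_of_nat_card_le h.ge)⟩

theorem nzp {g z : G} (h : g ∈ 𝐂[z]) : g ∈ 𝐍(zpowers z) := K_le_N z h

theorem mem_of_zp {x y : G} {S : Subgroup G} (x3 : x ^ 3 = 1) (p : y ∈ zpowers x) (q : y ∈ S) (n : x ∉ S) : y = 1 :=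
  by_contra fun y1 => n (zpowers_le.2 q ((zp_eq x3 p y1).ge (mem_zpowers x)))

namespace Cov

variable {x g : G} (C : Cov x) {Q : Subgroup G}
include C

theorem mem_K_of {O : Subgroup G} (n : x ∈ 𝐍(O)) (x1 : x ∉ O) (p : g ∈ O) (q : g ∈ 𝐍(zpowers x)) : g ∈ 𝐂[x] :=
  mem_cent1.2 (mul_inv_eq_iff_eq_mul.1 (mul_inv_eq_one.1 (mem_of_zp C.x3
    (mul_mem (conj_mem_of_norm q (mem_zpowers x)) (inv_mem (mem_zpowers x)))
    (by have := mul_mem p (conj_mem_of_norm n (inv_mem p)); convert this using 1; group) x1)))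

theorem mem_zp {O : Subgroup G} (n : 𝐂[x] ≤ 𝐍(O)) (x1 : x ∉ O) (z : C.z ∈ O) (p : g ∈ O) (q : g ∈ 𝐍(zpowers x)) :
    g ∈ zpowers C.z := by
  have k := C.mem_K_of (n (self_mem_cent1 x)) x1 p q
  rcases (C.ker k).1 (((C.dich n).resolve_right fun e => x1 (e (self_mem_cent1 x))) g p k) with e | e
  · rw [mem_of_zp C.x3 e p x1]; exact one_mem _
  · rw [eq_inv_of_mul_eq_one_left (mem_of_zp C.x3 e (mul_mem p z) x1)]; exact inv_mem (mem_zpowers _)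

variable (X : Xs C.z x Q) (hc : Nat.card Q = 2 ^ 13) (n : 𝐍(zpowers x) ≤ 𝐍(Q))
include X

theorem x_nQ : x ∉ Q := fun e => n3_of_pg X.pg (C.ord ▸ orderOf_dvd_natCard Q e)

include n

theorem le_Q {O : Subgroup G} (n' : 𝐂[x] ≤ 𝐍(O)) (x1 : x ∉ O) (l : Q ≤ O) (l' : O ≤ Q ⊔ 𝐍(zpowers x)) : O ≤ Q :=
  fun g p => by
    obtain ⟨u, a, k, b, rfl⟩ := (mem_sup_left_norm n).1 (l' p)
    exact mul_mem a (X.zle (C.mem_zp n' x1 (l X.mem) ((mul_mem_cancel_left (l a)).1 p) b))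

omit n in
theorem Q_St : Q ≤ St Q (zpowers C.z) := fun _ p => ⟨nzp (X.cen p), fun _ q => X.comm p q⟩

include hc

omit n in
theorem x_St : x ∉ St Q (zpowers C.z) := fun e => by
  have : Q ≤ zpowers C.z := fun u p => by
    have a := e.2 u p
    have b := (mul_mem e e).2 u p
    have c := X.tr p
    have : tr x u = u * (x * u * x⁻¹ * u⁻¹) * u * (x * x * u * (x * x)⁻¹ * u⁻¹) * u := by grp
    rw [this, X.zc p a] at c
    generalize x * u * x⁻¹ * u⁻¹ = s at *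
    generalize x * x * u * (x * x)⁻¹ * u⁻¹ = t at *
    rwa [mul_assoc s u u, mul_assoc, mul_assoc, mul_mem_cancel_left a, mul_mem_cancel_left (X.sq p),
      mul_mem_cancel_left b] at c
  have := (card_dvd this).trans (Nat.card_zpowers C.z ▸ orderOf_dvd_of_pow_eq_one (n := 2) (by rw [pow_two, C.z2]))
  rw [hc] at this
  exact absurd this (by norm_num)

theorem St_le : (Q ⊔ 𝐍(zpowers x)) ⊓ St Q (zpowers C.z) ≤ Q :=
  C.le_Q X n (norm_inf (le_norm_of_le ((K_le_N x).trans le_sup_right)) (le_norm_iff.2 fun _ p _ q => St.conj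
    (n (K_le_N x p)) (nzp (mem_cent1.2 (C.zc p))) q)) (fun e => C.x_St X hc e.2)
    (le_inf le_sup_left (C.Q_St X)) inf_le_left

theorem jtype (z1 : C.z ≠ 1) (hH : 𝐂[C.z] = Q ⊔ 𝐍(zpowers x)) {j : G} (hj : j * x * j⁻¹ = x⁻¹) :
    twoCoreOfCentralizer C.z = Q ∧ IsOfJankoFourTypeWith C.z (zpowers x) := by
  have lN : 𝐍(zpowers x) ≤ 𝐂[C.z] := hH ▸ le_sup_right
  have lK := (K_le_N x).trans lN
  have nQ : 𝐂[C.z] ≤ 𝐍(Q) := hH ▸ sup_le_norm_left n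
  have e : twoCoreOfCentralizer C.z = Q := by
    rw [twoCoreOfCentralizer, ← pcore_p_eq]
    exact le_antisymm (C.le_Q X n (lK.trans (pcore_nml _ _).norm) (fun e => n3_of_pg (pcore_pgroup 2 _)
      (C.ord ▸ orderOf_dvd_natCard _ e)) (pcore_max_p X.pg ⟨X.cen, nQ⟩) ((pcore_le _ _).trans hH.le))
      (pcore_max_p X.pg ⟨X.cen, nQ⟩)
  have jN : j ∈ 𝐍(zpowers x) := norm_zp (hj ▸ inv_mem (mem_zpowers x))
  have jK : j ∉ 𝐂[x] := fun p => ne_inv C.x3 C.x_ne ((cj_eq p).symm.trans hj)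
  have nx : zpowers x ≤ 𝐍(Q) := zpowers_le.2 X.nx
  have nN : 𝐍(zpowers x) ≤ 𝐍(Q ⊔ zpowers x) := norm_sup n le_rfl
  have nN' : 𝐂[C.z] ≤ 𝐍(Q ⊔ zpowers x) := hH ▸ sup_le (le_norm_of_le le_sup_left) nN
  have lx := zpowers_le.2 (self_mem_cent1 x)
  have i : (Q ⊔ zpowers x) ⊓ 𝐍(zpowers x) = C.kr := le_antisymm (fun g p => by
    obtain ⟨u, a, k, b, rfl⟩ := (mem_sup_left_norm nx).1 p.1
    have := X.fpf a (C.mem_K_of X.nx (C.x_nQ X) a ((mul_mem_cancel_right (le_norm _ b)).1 p.2))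
    exact mul_mem (zpowers_le.2 (C.mem_kr.2 ⟨C.zK, C.πz⟩) this) (C.mem_kr.2 ⟨lx b, C.π_zp b⟩)) (by
    rw [C.kr_eq]
    exact zpowers_le.2 ⟨mul_mem (mem_sup_right (mem_zpowers x)) (mem_sup_left X.mem),
      K_le_N x (mul_mem (self_mem_cent1 x) C.zK)⟩)
  have lk : C.kr ≤ 𝐂[x] := fun g p => (C.mem_kr.1 p).1
  refine ⟨e, orderOf_eq_prime (by rw [pow_two, C.z2]) z1, e ▸ X.es z1 hc (by norm_num), e ▸ hc, e ▸ fun g p =>
    C.St_le X hc n ⟨hH ▸ p.1, St.of_cent p.2 (nzp p.1)⟩, ⟨Q ⊔ zpowers x, e ▸ le_sup_left,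
    sup_le X.cen (lx.trans lK), nN', ?_, ⟨(Nml.mk (sup_le X.cen (lx.trans lK)) nN').normal, ?_⟩, le_sup_right⟩,
    card_zp C.x3 C.x_ne, ?_, fun p => jK (cent_zpowers x ▸ (p.le ⟨lN jN, jN⟩).2), ?_⟩
  · rw [e, ← (SD.of_coprime nx (cop32 (pg_zp C.x3) X.pg).symm).card, card_zp C.x3 C.x_ne, mul_comm]
  · have := (Nml.mk (sup_le X.cen (lx.trans lK)) nN').normal
    have hk : (Q ⊔ zpowers x).subgroupOf 𝐂[x] = C.hom.ker := by
      ext g
      rw [mem_subgroupOf, MonoidHom.mem_ker]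
      exact ⟨fun p => (C.mem_kr.1 (i.le ⟨p, K_le_N x g.2⟩)).2, fun p => (i.ge (C.mem_kr.2 ⟨g.2, p⟩)).1⟩
    have : ((Q ⊔ zpowers x).subgroupOf 𝐂[x]).Normal := hk ▸ inferInstance
    obtain ⟨f1⟩ := nonempty_quotient_equiv_quo nN'
    obtain ⟨f2⟩ := nonempty_quotient_equiv_quo ((K_le_N x).trans nN)
    have f3 := (QuotientGroup.quotientMulEquivOfEq hk).trans (QuotientGroup.quotientKerEquivOfSurjective C.hom fun m => by
      obtain ⟨g, a, b⟩ := C.surj m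
      exact ⟨⟨g, a⟩, b⟩)
    have q : quo 𝐂[C.z] (Q ⊔ zpowers x) = quo 𝐍(zpowers x) (Q ⊔ zpowers x) := le_antisymm
      ((quo_le_quo_iff nN' nN).2 (hH ▸ sup_le_sup_right le_sup_left _)) (quo_mono lN _)
    have N : Nml (quo 𝐂[x] (Q ⊔ zpowers x)) (quo 𝐍(zpowers x) (Q ⊔ zpowers x)) :=
      (cent_zpowers x ▸ Nml.cent_norm (zpowers x)).quo _
    have := N.normal
    obtain ⟨f4⟩ := aut_iso ((subgroupOfEquivOfLe N.le).trans (f2.symm.trans f3)) (by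
      rw [subOf_cent N.le, eq_bot_iff]
      rintro ⟨_, l, p, rfl⟩ r
      replace p : (l : G) ∈ 𝐍(zpowers x) := p
      refine mem_bot.2 (Subtype.ext (q_one.2 (i.ge ?_).1))
      have r' : ∀ k ∈ 𝐂[x], l * k * (l : G)⁻¹ * k⁻¹ ∈ C.kr := fun k a => i.le (mem_inf.2 ⟨(q_one (a := l * ⟨k, nN (K_le_N x a)⟩ * l⁻¹ *
        ⟨k, nN (K_le_N x a)⟩⁻¹)).1 (by
          simp only [map_mul, map_inv]
          rw [← mem_cent.1 (mem_subgroupOf.1 r) _ ⟨⟨k, nN (K_le_N x a)⟩, a, rfl⟩]; group),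
        mul_mem (mul_mem (mul_mem p (K_le_N x a)) (inv_mem p)) (inv_mem (K_le_N x a))⟩)
      generalize (l : G) = l' at r'
      obtain ⟨b, pr⟩ := C.exists_pr
      obtain ⟨η, a, -, d⟩ := C.eta pr
      obtain ⟨s1, s2⟩ := C.mem_kr.1 (r' b pr.mem)
      obtain ⟨t1, t2⟩ := C.mem_kr.1 (r' η a)
      have m := pr.mem
      have lK : l' ∈ 𝐂[x] := mem_K (by
        have e1 := C.cen s1 s2 a
        have e2 := C.cen t1 t2 (g := l' * η * l'⁻¹ * η⁻¹) (h := η * (l' * b * l'⁻¹ * b⁻¹) * b * η⁻¹) (by gmem)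
        calc _ = (l' * b * l'⁻¹)⁻¹ * (l' * (η * b * η⁻¹) * l'⁻¹) := by rw [d]; group
          _ = (l' * b * l'⁻¹)⁻¹ * (l' * η * l'⁻¹ * η⁻¹ * (η * (l' * b * l'⁻¹ * b⁻¹) * b * η⁻¹)) * (l' * η * l'⁻¹ * η⁻¹)⁻¹ := by group
          _ = (l' * b * l'⁻¹)⁻¹ * (l' * b * l'⁻¹ * b⁻¹) * (η * b * η⁻¹) := by rw [← e2, e1]; group
          _ = x := by rw [d]; group)
      refine C.mem_kr.2 ⟨lK, ?_⟩
      have := Mathieu.simple_M22
      refine mem_bot.1 ((Calc.center_eq_bot_of_simple (K := M) (by rw [Mathieu.card_M22]; norm_num)).le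
        (mem_center_iff.2 fun y => ?_))
      obtain ⟨y, a, rfl⟩ := C.surj y
      have := (C.mem_kr.1 (r' y a)).2
      revert this; pis
      exact fun e => (mul_inv_eq_iff_eq_mul.1 (mul_inv_eq_one.1 e)).symm) (by
      rw [card_quo nN, J4T.Rd.card_aut, ← inf_relIndex_right, i, ← relIndex_mul_relIndex _ _ _ lk (K_le_N x)]
      have a := card_mul_relIndex lk
      rw [C.card_K, Nat.mul_right_inj Nat.card_pos.ne'] at a
      have b := index_cent_prime_dvd (p := 3) (card_zp C.x3 C.x_ne) (le_refl 𝐍(zpowers x))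
      rw [cent_zpowers] at b
      rw [a, ((Nat.dvd_prime Nat.prime_two).1 b).resolve_left fun e => jK (relIndex_eq_one.1 e jN)])
    exact ⟨(f1.trans (MulEquiv.subgroupCongr q)).trans f4⟩
  · rw [e, cent_zpowers]
    exact le_antisymm (fun g p => X.fpf p.1 p.2) (zpowers_le.2 ⟨X.mem, C.zK⟩)
  · rw [cent_zpowers, inf_eq_right.2 lK]
    exact lx.trans C.perf

end Cov

end Cfsg.Lib.J43
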