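import Cfsg.Agent.Lib.J43.Xs
import Cfsg.Agent.Lib.J43.MG
import Cfsg.Agent.Lib.BG.T01_Coprime

/-! # The case `6·M₂₂`: the hexacode module -/

set_option autoImplicit false
set_option linter.unusedSectionVars false

namespace Cfsg.Lib.J43

open Subgroup Cfsg.Lib.BG
open scoped Cfsg.Lib.Transfer

variable {G : Type*} [Group G] [Finite G]

theorem four_le {V : Subgroup G} (hc : Nat.card V = 4) (h2 : ∀ v ∈ V, v * v = 1) {c u : G} (p : c ∈ V) (c1 : c ≠ 1)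
    (q : u ∈ V) (u1 : u ≠ 1) (n : u ≠ c) : V ≤ zpowers c ⊔ zpowers u :=
  (le_or_le_of_prime (idx_zp2 hc p (h2 c p) c1 ▸ Nat.prime_two) le_sup_left
    (sup_le (zpowers_le.2 p) (zpowers_le.2 q))).resolve_left fun e =>
      (zp2_cases (h2 c p) (e (mem_sup_right (mem_zpowers u)))).elim u1 n

theorem cop32 {A K : Subgroup G} (a : IsPGroup 3 A) (k : IsPGroup 2 K) : (Nat.card A).Coprime (Nat.card K) :=
  coprime_pgroups a k (by norm_num)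

theorem Cov.norm_L2 {x k : G} (C : Cov x) {S : Subgroup M} (hS : ∀ m ∈ S, m * m = 1) (p : k ∈ 𝐂[x])
    (h : ∀ m ∈ S, C.π k * m * (C.π k)⁻¹ ∈ S) : k ∈ 𝐍(C.L2 S hS) :=
  Transfer.mem_normalizer_of_conj_le (Transfer.conj_le_iff.2 fun v ⟨a, b, c⟩ =>
    ⟨by gmem, by rw [conj_mul, b, mul_one, mul_inv_cancel], by pis; exact h _ c⟩)

theorem Cov.L2_le_of {x : G} (C : Cov x) {S : Subgroup M} (hS : ∀ m ∈ S, m * m = 1) {R : Subgroup G} (p : C.z ∈ R)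
    (r : ∀ g ∈ R, g * g = 1) (h : S ≤ C.im R) : C.L2 S hS ≤ R := fun v ⟨a, b, c⟩ => by
  obtain ⟨g, g1, g2, e⟩ := C.mem_im.1 (h c)
  have := mul_mem ((C.mem_L2 hS).2 ⟨a, b, c⟩) ((C.mem_L2 hS).2 ⟨g2, r g g1, e ▸ c⟩)
  rw [← mul_mem_cancel_right g1]
  rcases C.ker_sq this.1 (by rw [C.mul a g2, e, hS _ c]) this.2.1 with e | e <;> rw [e]
  exacts [one_mem _, p]

theorem ne_inv {a : G} (a3 : a ^ 3 = 1) (a1 : a ≠ 1) : a ≠ a⁻¹ := fun e =>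
  a1 (eq_one_of_23 (by nth_rw 1 [e]; exact inv_mul_cancel a) a3)

/-- The central involutions attached to the subgroups of order 3 of `E` are distinct. -/
structure Six (G : Type*) [Group G] : Prop extends Fu G where
  ne : ∀ {E : Subgroup G} {a b : G}, Ba E a b → zo a ≠ zo b

theorem Fu.six (T : Fu G) {E : Subgroup G} {a b : G} (h : Ba E a b) (hz : zo a ≠ zo b) : Six G :=
  ⟨T, fun {E' c d} k e => by
    obtain ⟨g, rfl⟩ := T.conj h.a3 h.a1 k.a3 k.a1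
    obtain ⟨C⟩ := T.cov k.a3 k.a1
    obtain ⟨l, p, rfl⟩ := C.conj_K (h.conj g).pr k.pr
    rw [zo_conj l, eq_mul_inv_iff_mul_eq, ← zo_comm p, mul_right_inj, zo_conj, zo_conj, mul_left_inj, mul_right_inj] at e
    exact hz e⟩

namespace Ba

variable {E : Subgroup G} {a b g : G} (h : Ba E a b) (T : Six G)
include h T

theorem big : (∀ v ∈ omegaOne 2 𝐂(AA E a), v * v = 1) ∧ ∀ c ∈ E, c ≠ 1 → AA E c ≤ 𝐂(AA E a) := by
  obtain ⟨j, i⟩ := h.iv6 T.toFu (T.ne h)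
  exact (h.dich T.toFu i).resolve_left fun s => T.ne h (h.sm_zo T.toFu s i)

theorem z1 : zo a ≠ 1 := h.zo_ne T.toFu (T.ne h)

theorem nz : zo b ∉ zpowers (zo a) := fun e => (zp2_cases (zo_sq a) e).elim (h.symm.z1 T) (T.ne h).symm

theorem zo3 {c : G} (k : Ba E a c) (k' : Ba E b c) : zo c ≠ zo a * zo b := fun e => by
  obtain ⟨g, n, p, q⟩ := h.trans T.toFu h.inv
  have k1 := k.conj' n
  rw [p] at k1
  refine T.ne (h.of k.mb k.b1 k1.mb fun m => ?_) (by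
    rw [zo_conj, e, ← conj_mul, ← zo_conj, ← zo_conj, p, q, T.zo_eq h.b3 (inv_mem (mem_zpowers b)) h.inv.b1])
  rcases zp_cases k.b3 m with m | m | m
  · exact k1.b1 m
  · have := cent_le_cent1 h.mb (k.mem_cE.2 ⟨mem_cent1.2 (mul_inv_eq_iff_eq_mul.1 p), mem_cent1.2 (mul_inv_eq_iff_eq_mul.1 m)⟩)
    exact ne_inv h.b3 h.b1 (by rw [← q, mem_cent1.1 this, mul_inv_cancel_right])
  · exact ne_inv h.a3 h.a1 (p.symm.trans (k'.inv_all q m h.ma))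

theorem F_le3 {c : G} (k : Ba E a c) (k' : Ba E b c) {S : Subgroup G} (p : zo a ∈ S) (q : zo b ∈ S) (r : zo c ∈ S) :
    FF E ≤ S := by
  obtain ⟨C, he⟩ := h.nc T.toFu
  have m := h.zo_F h.mb
  have m' := h.zo_F k.mb
  have m2 := mul_mem m' m
  refine le_trans ?_ (inf_le_left (b := FF E))
  replace p := mem_inf.2 ⟨p, h.zo_F h.ma⟩
  replace q := mem_inf.2 ⟨q, m⟩
  replace r := mem_inf.2 ⟨r, m'⟩
  have s : ∀ g ∈ S ⊓ FF E, g * g = 1 := fun g p => h.F_sq T.toFu p.2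
  generalize S ⊓ FF E = S at *
  rw [h.FF_eq C he] at m m' m2 ⊢
  have n : ∀ {c}, Ba E a c → zo c ∈ C.L2 Fb Fb_sq → C.π (zo c) ≠ 1 := fun k m e =>
    (C.ker_sq m.1 e m.2.1).elim (k.symm.z1 T) fun e => T.ne k (C.z_zo ▸ e.symm)
  refine C.L2_le_of _ (C.z_zo ▸ p) s ((four_le card_Fb Fb_sq m.2.2 (n h m) m'.2.2 (n k m') fun e => ?_).trans
    (sup_le (zpowers_le.2 (C.π_mem q m.1)) (zpowers_le.2 (C.π_mem r m'.1))))
  rcases C.ker_sq m2.1 (by rw [C.mul m'.1 m.1, e, Fb_sq _ m.2.2]) m2.2.1 with e | e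
  · exact T.ne k' (by rw [eq_inv_of_mul_eq_one_left e, inv_of_sq (zo_sq b)])
  · exact h.zo3 T k k' (by rw [← C.z_zo, ← e, mul_assoc, zo_sq, mul_one])

theorem exists_W : ∃ (W : Subgroup G) (η : G), (∀ v ∈ W, v * v = 1) ∧ (∀ v ∈ W, tr a v = 1) ∧ W ≤ 𝐂[zo a] ∧
    E ≤ 𝐍(W) ∧ η ∈ 𝐍(W) ∧ η ∈ 𝐂[a] ∧ η * b * η⁻¹ = b * a ∧ ¬FF E ≤ 𝐍(W) := by
  obtain ⟨C, he⟩ := h.nc T.toFu
  obtain ⟨g, kg, eg⟩ := C.surj mg
  obtain ⟨η, kη, -, eη, hη⟩ := C.exists_eta h.pr he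
  have k := h.conj g
  have cA := conj_AA g E a
  rw [show g * a * g⁻¹ = a by rw [mem_cent1.1 kg, mul_inv_cancel_right]] at k cA
  obtain ⟨B1, B2⟩ := k.big T
  have n : ∀ {y}, y ∈ 𝐂[a] → (∀ m ∈ Ab, mg⁻¹ * C.π y * mg * m * (mg⁻¹ * C.π y * mg)⁻¹ ∈ Ab) →
      y ∈ 𝐍(omegaOne 2 𝐂(AA (g ⋆ E) a)) := fun {y} p q => norm_Ohm1 (norm_cent le_rfl) 2 (by
    rw [← cA, ← Transfer.conj_normalizer, Transfer.mem_conj, h.AA_eq C he]
    exact C.norm_L2 _ (by gmem) (by pis; rwa [eg]))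
  have n1 : E ≤ 𝐍(omegaOne 2 𝐂(AA (g ⋆ E) a)) := h.le (n (self_mem_cent1 a) fun m p => by simpa [C.πx] using p)
    (n h.pr.mem fun m p => he ▸ g_e p)
  have n2 := n kη fun m p => eη ▸ g_y p
  have l1 : omegaOne 2 𝐂(AA (g ⋆ E) a) ≤ 𝐂(AA (g ⋆ E) a) := Ohm1_le _ _
  have l2 : AA (g ⋆ E) (g * b * g⁻¹) ≤ omegaOne 2 𝐂(AA (g ⋆ E) a) := fun v p =>
    subset_closure ⟨B2 _ k.mb k.b1 p, by rw [pow_two, k.symm.A_sq T.toFu p]⟩
  generalize omegaOne 2 𝐂(AA (g ⋆ E) a) = V at *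
  have D := coprime_abelian_cent_dprod (zpowers_le.2 (n1 h.ma)) (cop32 (pg_zp h.a3) (pg_of_sq B1))
    (abelian_iff.2 (comm_of_sq B1))
  have sq : ∀ v ∈ ⁅V, zpowers a⁆, v * v = 1 := fun v p => B1 v (D.left_le p)
  have n3 : E ≤ 𝐍(⁅V, zpowers a⁆) := norm_comm n1 (norm_of_cent (cent_zpowers a ▸ h.le_c h.ma))
  have n4 : η ∈ 𝐍(⁅V, zpowers a⁆) := norm_comm (A := zpowers η) (zpowers_le.2 n2)
    (norm_of_cent (cent_zpowers a ▸ zpowers_le.2 kη)) (mem_zpowers η)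
  have fp : ∀ v ∈ ⁅V, zpowers a⁆, v ∈ 𝐂[a] → v = 1 := fun v p q =>
    mem_bot.1 (D.inf.le ⟨p, D.left_le p, cent_zpowers a ▸ q⟩)
  have main : ¬FF E ≤ 𝐍(⁅V, zpowers a⁆) := fun e => by
    have c : 𝐂[a] ≤ 𝐂(⁅V, zpowers a⁆) := C.le_of_surj fun m => C.mem_im.1 (g_gen (fun f p' y q' => by
      obtain ⟨f, p, rfl⟩ := C.exists_L2 Fb_sq p'
      obtain ⟨y, q, rfl⟩ := C.exists_L2 Ab_sq' q'
      have := p.1; have := q.1
      refine C.mem_im.2 ⟨f * (g * y * g⁻¹) * f⁻¹, conj_mem_of_norm (norm_cent e (h.FF_eq C he ▸ p))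
        (cent_symm (D.left_le.trans l1) (cA ▸ Transfer.conj_mem_conj.2 (h.AA_eq C he ▸ q))), by gmem, ?_⟩
      pis; rw [eg]; group) m)
    obtain ⟨v, p, q⟩ := k.symm.ex_A T.toFu
    have r := comm_mem_comm (l2 p) (mem_zpowers a)
    have := fp _ r (cent_le_cent1 (self_mem_cent1 a) (cent_symm c r))
    rw [mul_inv_eq_one, mul_inv_eq_iff_eq_mul] at this
    exact q (k.symm.A_bF T.toFu p (by rw [← this, mul_inv_cancel_right, k.symm.A_sq T.toFu p]; exact one_mem _))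
  have base := fun η p q r => (⟨⁅V, zpowers a⁆, η, sq, fun v p => fp _ (tr_mem (n3 h.ma) p)
    (tr_fix (comm_of_sq sq) (n3 h.ma) h.a3 p), D.left_le.trans (l1.trans (cent_le_cent1 (k.F_le T.toFu (k.zo_F k.ma)))),
    n3, p, q, r, main⟩ : ∃ (W : Subgroup G) (η : G), (∀ v ∈ W, v * v = 1) ∧ (∀ v ∈ W, tr a v = 1) ∧ W ≤ 𝐂[zo a] ∧
    E ≤ 𝐍(W) ∧ η ∈ 𝐍(W) ∧ η ∈ 𝐂[a] ∧ η * b * η⁻¹ = b * a ∧ ¬FF E ≤ 𝐍(W))
  rcases hη with s | s
  · exact base η n4 kη s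
  · refine base η⁻¹ (inv_mem n4) (inv_mem kη) ?_
    calc _ = η⁻¹ * (b * a⁻¹) * (a * η) := by group
      _ = _ := by rw [← s, ← mem_cent1.1 kη]; group

end Ba

end Cfsg.Lib.J43
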