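import Cfsg.Agent.Lib.J43.Sm
import Cfsg.Agent.Lib.F2.Shape

/-! # The norm map; central products -/

set_option autoImplicit false
set_option linter.unusedSectionVars false

namespace Cfsg.Lib.J43

open Subgroup Cfsg.Lib.BG
open scoped Cfsg.Lib.Transfer

/-- equality of words in the free group -/
scoped macro "grp" : tactic => `(tactic| simp only [tr, pow_succ, pow_zero, one_mul, mul_inv_rev, inv_inv, mul_assoc,
  mul_inv_cancel_left, inv_mul_cancel_left, mul_inv_cancel, inv_mul_cancel, mul_one, inv_one])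

variable {G : Type*} [Group G] {x z u v g : G} {P Q : Subgroup G}

theorem tr_conj (g x d : G) : tr (g * x * g⁻¹) (g * d * g⁻¹) = g * tr x d * g⁻¹ := by simp only [tr]; group

theorem tr_comm (h : u ∈ 𝐂[x]) : tr x u = u ^ 3 := by
  have e : x * u * x⁻¹ = u := by rw [← mem_cent1.1 h, mul_inv_cancel_right]
  rw [tr, show x * x * u * x⁻¹ * x⁻¹ = x * (x * u * x⁻¹) * x⁻¹ by group, e, e, pow_three']

theorem sq_conj (n : x ∈ 𝐍(P)) (h : u ∈ P) : x * x * u * x⁻¹ * x⁻¹ ∈ P := by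
  have := conj_mem_of_norm n (conj_mem_of_norm n h)
  convert this using 1; group

theorem tr_mem (n : x ∈ 𝐍(P)) (h : u ∈ P) : tr x u ∈ P :=
  mul_mem (mul_mem h (conj_mem_of_norm n h)) (sq_conj n h)

theorem tr_fix (a : P ≤ 𝐂(P)) (n : x ∈ 𝐍(P)) (x3 : x ^ 3 = 1) (h : u ∈ P) : tr x u ∈ 𝐂[x] := mem_cent1.2 (by
  have := le_cent_iff.1 a _ h _ (mul_mem (conj_mem_of_norm n h) (sq_conj n h))
  rw [tr, mul_assoc u, this]
  calc _ = x * (u * (x * u * x⁻¹) * (x * x * (x ^ 3)⁻¹ * u * x ^ 3 * x⁻¹ * x⁻¹)) := by simp only [pow_succ]; group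
    _ = _ := by rw [x3, ← this]; group)

theorem tr_mul (c : P ≤ 𝐂(Q)) (n : x ∈ 𝐍(P)) (n' : x ∈ 𝐍(Q)) (h : u ∈ P) (k : v ∈ Q) :
    tr x (u * v) = tr x u * tr x v := by
  have a := le_cent_iff.1 c _ (mul_mem (conj_mem_of_norm n h) (sq_conj n h)) _ k
  have b := le_cent_iff.1 c _ (sq_conj n h) _ (conj_mem_of_norm n' k)
  calc _ = u * (v * (x * u * x⁻¹) * (x * v * x⁻¹ * (x * x * u * x⁻¹ * x⁻¹))) * (x * x * v * x⁻¹ * x⁻¹) := by
        simp only [tr]; group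
    _ = u * (v * (x * u * x⁻¹ * (x * x * u * x⁻¹ * x⁻¹))) * (x * v * x⁻¹) * (x * x * v * x⁻¹ * x⁻¹) := by
        rw [← b]; group
    _ = _ := by rw [← a]; simp only [tr]; group

theorem eq_one_of_tr (h : u ∈ 𝐂[x]) (h2 : u * u = 1) (t : tr x u = 1) : u = 1 := eq_one_of_23 h2 (tr_comm h ▸ t)

/-- `P` is extraspecial (or `⟨z⟩`) with centre `⟨z⟩`, and `x` acts without fixed points on `P / ⟨z⟩` -/
structure Xs (z x : G) (P : Subgroup G) : Prop where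
  z2 : z * z = 1
  mem : z ∈ P
  cen : P ≤ 𝐂[z]
  nx : x ∈ 𝐍(P)
  sq : ∀ {u}, u ∈ P → u * u ∈ zpowers z
  tr : ∀ {u}, u ∈ P → tr x u ∈ zpowers z
  ctr : P ⊓ 𝐂(P) ≤ zpowers z

namespace Xs

variable [Finite G] (h : Xs z x P)
include h

theorem zle : zpowers z ≤ P := zpowers_le.2 h.mem
theorem zc (p : u ∈ P) (q : v ∈ zpowers z) : u * v = v * u :=
  le_cent_iff.1 (cent_zpowers z ▸ h.cen) _ p _ q
theorem four (p : u ∈ P) : u ^ 4 = 1 := by
  rw [show 4 = 2 * 2 from rfl, pow_mul, pow_two, pow_two]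
  rcases zp2_cases h.z2 (h.sq p) with e | e <;> rw [e]
  exacts [mul_one 1, h.z2]
theorem pg : IsPGroup 2 P := fun g => ⟨2, Subtype.ext (by simpa using h.four g.2)⟩
theorem comm (p : u ∈ P) (q : v ∈ P) : u * v * u⁻¹ * v⁻¹ ∈ zpowers z := by
  have := mul_mem (mul_mem (h.sq (mul_mem p q)) (inv_mem (h.sq q))) (inv_mem (h.sq p))
  convert this using 1
  calc _ = u * v * (u * (u * u)⁻¹) * v⁻¹ := by group
    _ = u * v * u * (v⁻¹ * (u * u)⁻¹) := by rw [h.zc (inv_mem q) (inv_mem (h.sq p))]; group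
    _ = _ := by group
theorem fpf (p : u ∈ P) (q : u ∈ 𝐂[x]) : u ∈ zpowers z := by
  have := h.tr p
  rwa [tr_comm q, pow_succ, pow_two, mul_mem_cancel_left (h.sq p)] at this
theorem tr_inv (x3 : x ^ 3 = 1) (p : u ∈ P) : J43.tr x⁻¹ u ∈ zpowers z := by
  have a := h.comm (sq_conj h.nx p) (conj_mem_of_norm h.nx p)
  have := mul_mem a (h.tr p)
  rw [J43.tr, mul_assoc u, ← mul_assoc, ← h.zc p a] at this
  convert this using 1
  calc _ = u * (x * x * (x ^ 3)⁻¹ * u * x ^ 3 * x⁻¹ * x⁻¹) * (x * (x ^ 3)⁻¹ * u * x ^ 3 * x⁻¹) := by grp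
    _ = _ := by rw [x3]; group

theorem sup (k : Xs z x Q) (c : P ≤ 𝐂(Q)) : Xs z x (P ⊔ Q) ∧ Nat.card ↥(P ⊔ Q) * orderOf z = Nat.card P * Nat.card Q := by
  have m : ∀ {w}, w ∈ P ⊔ Q → ∃ u ∈ P, ∃ v ∈ Q, u * v = w := (mem_sup_left_norm (norm_of_cent (cent_symm c))).1
  refine ⟨⟨h.z2, mem_sup_left h.mem, sup_le h.cen k.cen, norm_sup (A := zpowers x) (zpowers_le.2 h.nx) (zpowers_le.2 k.nx)
    (mem_zpowers x), fun a => ?_, fun a => ?_, fun w a => ?_⟩, ?_⟩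
  · obtain ⟨u, p, v, q, rfl⟩ := m a
    rw [mul_assoc, ← mul_assoc v, ← le_cent_iff.1 c u p v q, mul_assoc, ← mul_assoc]
    exact mul_mem (h.sq p) (k.sq q)
  · obtain ⟨u, p, v, q, rfl⟩ := m a
    rw [tr_mul c h.nx k.nx p q]
    exact mul_mem (h.tr p) (k.tr q)
  · obtain ⟨u, p, v, q, rfl⟩ := m a.1
    exact mul_mem (h.ctr ⟨p, (mul_mem_cancel_right (cent_symm c q)).1 (cent_anti le_sup_left a.2)⟩)
      (k.ctr ⟨q, (mul_mem_cancel_left (c p)).1 (cent_anti le_sup_right a.2)⟩)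
  · rw [← PGroup.card_sup_mul_card_inf (norm_of_cent (cent_symm c)), ← Nat.card_zpowers,
      le_antisymm (le_inf h.zle k.zle) ((inf_le_inf_left P (cent_symm c)).trans h.ctr)]

theorem es (z1 : z ≠ 1) {n : ℕ} (c : Nat.card P = 2 ^ n) (hn : 1 < n) : IsExtraspecial 2 P :=
  F2.isExtraspecial_two c hn (z := ⟨z, h.mem⟩) (fun e => z1 (congrArg Subtype.val e))
    (fun g => ⟨fun a => (zp2_cases h.z2 (h.ctr ⟨g.2, fun y b => congrArg Subtype.val (mem_center_iff.1 a ⟨y, b⟩)⟩)).imp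
      Subtype.ext Subtype.ext, fun a => mem_center_iff.2 fun y => Subtype.ext (h.zc y.2 (mem_zp2
        (a.imp (congrArg Subtype.val) (congrArg Subtype.val))))⟩)
    fun g => (zp2_cases h.z2 (h.sq g.2)).imp (fun e => Subtype.ext (by simpa [pow_two] using e))
      fun e => Subtype.ext (by simpa [pow_two] using e)

end Xs

end Cfsg.Lib.J43
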